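import Cfsg.Agent.H56.FSCfg
import Cfsg.Agent.S0205
import Mathlib.GroupTheory.FixedPointFree

/-!
There is no minimal non-solvable member of the class.
-/

set_option autoImplicit false

namespace Cfsg.Agent.H56.FS

open Subgroup

universe u

theorem inv_of_fpf {G : Type*} [Group G] [Finite G] {W : Subgroup G} {t : G} (tt : t * t = 1)
    (hn : t ∈ normalizer (W : Set G)) (hc : W ⊓ Ce t = ⊥) {v : G} (hv : v ∈ W) :
    t * v * t⁻¹ = v⁻¹ := by
  let φ : MulAut W := W.normalizerMonoidHom ⟨t, hn⟩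
  have e : ∀ x : W, ((φ x : W) : G) = t * x * t⁻¹ := fun x => rfl
  have h1 : MonoidHom.FixedPointFree φ := fun x hx => by
    have h2 : t * x * t⁻¹ = x := by rw [← e, hx]
    have : (x : G) ∈ W ⊓ Ce t := mem_inf.2 ⟨x.2, mem_Ce.2 (by
      calc (x : G) * t = t * x * t⁻¹ * t := by rw [h2]
        _ = t * x := by group)⟩
    rw [hc, mem_bot] at this
    exact Subtype.ext this
  have h2 : Function.Involutive φ := fun x => Subtype.ext (by
    rw [e, e]
    calc t * (t * x * t⁻¹) * t⁻¹ = (t * t) * x * (t * t)⁻¹ := by group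
      _ = x := by rw [tt]; group)
  have := congrFun (h1.coe_eq_inv_of_involutive h2) ⟨v, hv⟩
  rw [← e ⟨v, hv⟩, this]
  rfl

theorem Mn.comm_le {G : Type*} [Group G] [Finite G] {p r : ℕ} {D : Set (Subgroup G)}
    (h : Mn p r D) {N : Subgroup G} [hN : N.Normal] (hs : IsSimpleGroup N)
    (hc : ¬ IsMulCommutative N) : commutator G ≤ N := by
  obtain ⟨A, hA⟩ := h.exists_pt
  have nsol : ¬ Group.IsSolvable N := fun hsol =>
    hc ⟨⟨fun a b => IsSimpleGroup.comm_iff_isSolvable.2 hsol a b⟩⟩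
  have top : N ⊔ A = ⊤ := by
    by_contra ne
    have hsol := h.sol _ ne
    have hn : N ≤ normalizer (LL D (N ⊔ A) : Set G) :=
      (le_sup_left.trans le_normalizer).trans (norm_LL h.inv _)
    have hK : ((LL D (N ⊔ A)).subgroupOf N).Normal := normal_subgroupOf_of_le_normalizer hn
    rcases hs.eq_bot_or_eq_top_of_normal _ hK with e | e
    · have hA' : A ≤ centralizer (N : Set G) := fun a ha n hn' => by
        have m1 : n * a * n⁻¹ * a⁻¹ ∈ N := by
          simpa [mul_assoc] using mul_mem hn' (hN.conj_mem _ (inv_mem hn') a)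
        have aL : a ∈ LL D (N ⊔ A) := le_LL hA le_sup_right ha
        have m2 : (⟨_, m1⟩ : N) ∈ (LL D (N ⊔ A)).subgroupOf N :=
          mul_mem ((mem_normalizer_iff.1 (hn hn') a).1 aL) (inv_mem aL)
        rw [e, mem_bot] at m2
        have m3 : n * a * n⁻¹ * a⁻¹ = 1 := congrArg Subtype.val m2
        calc n * a = (n * a * n⁻¹ * a⁻¹) * (a * n) := by group
          _ = a * n := by rw [m3, one_mul]
      obtain ⟨a, ha, a1, -⟩ := h.exists_gen hA
      have : (⊤ : Subgroup G) ≤ centralizer (N : Set G) := by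
        rw [← h.ncl hA ha a1]
        exact normalClosure_le_normal (Set.singleton_subset_iff.2 (hA' ha))
      exact hc ⟨⟨fun x y => Subtype.ext (this (mem_top _) x x.2)⟩⟩
    · have hle : N ≤ LL D (N ⊔ A) := subgroupOf_eq_top.1 e
      exact nsol (solvable_of_solvable_injective (inclusion_injective hle))
  refine commutator_le.2 fun x _ y _ => ?_
  have An : A ≤ normalizer (N : Set G) := by rw [normalizer_eq_top_iff.2 hN]; exact le_top
  obtain ⟨u, hu, a, ha, rfl⟩ := mem_sup_of_norm An (top ▸ mem_top x)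
  obtain ⟨w, hw, b, hb, rfl⟩ := mem_sup_of_norm An (top ▸ mem_top y)
  have hab : a * b = b * a := h.comm hA hb a ha
  show u * a * (w * b) * (u * a)⁻¹ * (w * b)⁻¹ ∈ N
  have : u * a * (w * b) * (u * a)⁻¹ * (w * b)⁻¹ =
      u * (a * w * a⁻¹) * (b * u⁻¹ * b⁻¹) * w⁻¹ := by
    calc _ = u * (a * w * a⁻¹) * (a * b) * a⁻¹ * u⁻¹ * b⁻¹ * w⁻¹ := by group
      _ = _ := by rw [hab]; group
  rw [this]
  exact mul_mem (mul_mem (mul_mem hu (hN.conj_mem _ hw a)) (hN.conj_mem _ (inv_mem hu) b))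
    (inv_mem hw)

theorem noMn (cfg : CfgStmt.{u}) (twoA : TwoAStmt.{u}) (twoB : TwoBStmt.{u}) (soc : SocStmt.{u})
    (r2 : R2Stmt.{u}) : NoMnStmt.{u} := by
  intro G _ _ p r D h
  obtain ⟨W, Y, tw, hWY⟩ := cfg G p r D h
  have hev : Even (Nat.card G) := by
    by_contra ho
    exact h.nsol (S0205.result (Nat.not_even_iff_odd.1 ho))
  have hO : Cfsg.oddCore G = ⊥ := h.nsn _ inferInstance
    (S0205.result (Nat.coprime_two_right.1 (H3.pPrimeCore_coprime 2 G)))
  obtain ⟨S, z, t, cf⟩ := twoA G W Y hev hO tw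
  have rk := twoB G W Y S z t tw cf
  have nt : Nontrivial G := by
    by_contra hn
    rw [not_nontrivial_iff_subsingleton] at hn
    exact h.nsol inferInstance
  obtain ⟨N, hN, hs, hc⟩ := soc G nt h.nsn rk
  have hle := h.comm_le hs hc
  obtain ⟨⟨v, hv⟩, v1⟩ := ne_bot_iff_exists_ne_one.1 (tw.wne z cf.oz)
  have v1' : v ≠ 1 := fun e => v1 (Subtype.ext e)
  have zN : z ∈ N := hle ((hWY z).2 cf.zY)
  have tN : t ∈ N := hle ((hWY t).2 cf.tY)
  have vN : v ∈ N := hle ((hWY z).1 hv.1)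
  have YN : Y z ≤ N := (hWY z).2.trans hle
  have zt : t * z = z * t := mem_Ce.1 (cf.zc cf.tS)
  have tt : t * t = 1 := by rw [← pow_two, ← cf.ot, pow_orderOf_eq_one]
  have tn : t ∈ normalizer (W z : Set G) :=
    cj_eq_iff.1 (by rw [← tw.wcj z t cf.oz, zt, mul_inv_cancel_right])
  refine r2 N hc (fun E hE h2 => ?_) ⟨z, zN⟩ ⟨t, tN⟩ ⟨v, vN⟩
    ⟨?_, ?_, Subtype.ext zt.symm, fun e => v1' (congrArg Subtype.val e), ?_,
      Subtype.ext (mem_Ce.1 hv.2).symm, Subtype.ext (inv_of_fpf tt tn cf.wz hv.1)⟩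
    ((Y z).subgroupOf N) (fun y hy => mem_Ce.2 (Subtype.ext (mem_Ce.1 (tw.yc z cf.oz hy))))
    (fun y hy => mem_Ce.2 (Subtype.ext (tw.yw z cf.oz hy v hv.1).symm)) (fun y hy => ?_) cf.zY
  · rw [← card_map_of_injective N.subtype_injective]
    refine rk _ inferInstance ?_
    rintro _ ⟨a, ha, rfl⟩
    exact congrArg Subtype.val (h2 a ha)
  · rw [← orderOf_coe]; exact cf.oz
  · rw [← orderOf_coe]; exact cf.ot
  · rw [← orderOf_coe]
    exact (tw.wodd z cf.oz).of_dvd_nat (orderOf_dvd_natCard _ hv.1)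
  · have : closure {w | w ∈ Y z ∧ Odd (orderOf w)} ≤
        (closure {w : N | w ∈ (Y z).subgroupOf N ∧ Odd (orderOf w)}).map N.subtype :=
      (closure_le _).2 fun w hw => ⟨⟨w, YN hw.1⟩,
        subset_closure ⟨hw.1, by rw [← orderOf_coe]; exact hw.2⟩, rfl⟩
    obtain ⟨y', hy', e⟩ := this (tw.ygen z cf.oz hy)
    rwa [show y = y' from Subtype.ext e.symm]

end Cfsg.Agent.H56.FS
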