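import Mathlib
import Cfsg.Agent.H56.ONanGeo
import Cfsg.Agent.H3.Fitting

/-!
Group action lemmas used for collineation groups of projective planes.
-/

set_option autoImplicit false

namespace Cfsg.Agent.H56

open Subgroup H85 MulAction Finset
open scoped Classical

variable {G X : Type*} [Group G] [MulAction G X]

theorem card_modEq_fix {p : ℕ} (hp : p.Prime) {Y : Subgroup G} (hY : IsPGroup p Y) (s : Finset X)
    (hs : ∀ g ∈ Y, ∀ x ∈ s, g • x ∈ s) : #s ≡ #{x ∈ s | ∀ g ∈ Y, g • x = x} [MOD p] := by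
  have := Fact.mk hp
  let S : SubMulAction Y X := ⟨s, fun g x hx => hs g g.2 x hx⟩
  have : Finite S := s.finite_toSet
  have h1 := hY.card_modEq_card_fixedPoints S
  have h2 : Nat.card S = #s := (Nat.card_coe_set_eq (s : Set X)).trans (Set.ncard_coe_finset s)
  have h3 : Nat.card (fixedPoints Y S) = #{x ∈ s | ∀ g ∈ Y, g • x = x} := by
    rw [Nat.card_coe_set_eq, ← Set.ncard_image_of_injective _ Subtype.val_injective,
      ← Set.ncard_coe_finset]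
    congr 1
    ext x
    constructor
    · rintro ⟨y, hy, rfl⟩
      exact mem_coe.2 (mem_filter.2 ⟨y.2, fun g hg => congrArg Subtype.val (hy ⟨g, hg⟩)⟩)
    · intro hx
      obtain ⟨hx, hx'⟩ := mem_filter.1 (mem_coe.1 hx)
      exact ⟨⟨x, hx⟩, fun g => Subtype.ext (hx' g g.2), rfl⟩
  rwa [h2, h3] at h1

theorem card_modEq_fix_elt {p : ℕ} (hp : p.Prime) {g : G} (hg : g ^ p = 1) (s : Finset X)
    (hs : ∀ x ∈ s, g • x ∈ s) : #s ≡ #{x ∈ s | g • x = x} [MOD p] := by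
  have hfin : IsOfFinOrder g := isOfFinOrder_iff_pow_eq_one.2 ⟨p, hp.pos, hg⟩
  have := card_modEq_fix hp (Y := zpowers g) (H3.isPGroup_of_pow_eq_one (by
    rintro _ ⟨k, rfl⟩
    show (g ^ k) ^ p = 1
    rw [← zpow_natCast, ← zpow_mul, mul_comm, zpow_mul, zpow_natCast, hg, one_zpow])) s (by
    intro u hu x hx
    obtain ⟨k, rfl⟩ := hfin.mem_powers_iff_mem_zpowers.2 hu
    show g ^ k • x ∈ s
    induction k with
    | zero => simpa using hx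
    | succ k ih => rw [pow_succ', mul_smul]; exact hs _ (ih (npow_mem_zpowers g k)))
  rwa [filter_congr (q := fun x => g • x = x) fun x _ => ⟨fun h => h g (mem_zpowers g),
    fun h u hu => (zpowers_le.2 (show g ∈ stabilizer G x from h)) hu⟩] at this

theorem relIndex_stabilizer (H : Subgroup G) (x : X) :
    (stabilizer G x).relIndex H = (orbit H x).ncard := by
  rw [← index_stabilizer, relIndex]
  rfl

variable [Finite G]

theorem syl_dvd_orbit {p e : ℕ} (hp : p.Prime) {S H : Subgroup G} (hS : IsSyl p S H) (x : X)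
    (he : p ^ e ∣ (orbit H x).ncard) : p ^ e ∣ (orbit S x).ncard := by
  have := Fact.mk hp
  rw [← relIndex_stabilizer] at he ⊢
  have h1 := relIndex_mul_relIndex (stabilizer G x ⊓ S) S H inf_le_right hS.le
  have h2 := relIndex_mul_relIndex (stabilizer G x ⊓ S) (stabilizer G x ⊓ H) H
    (inf_le_inf_left _ hS.le) inf_le_right
  rw [inf_relIndex_right] at h1 h2
  exact ((hp.coprime_iff_not_dvd.2 hS.not_dvd_relIndex).pow_left e).dvd_of_dvd_mul_right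
    (h1 ▸ h2 ▸ he.mul_left _)

omit [Finite G] in
theorem orbit_eq_of_trans {H : Subgroup G} {s : Finset X} (hs : ∀ g ∈ H, ∀ x ∈ s, g • x ∈ s)
    (ht : ∀ x ∈ s, ∀ y ∈ s, ∃ g ∈ H, g • x = y) {x : X} (hx : x ∈ s) : orbit H x = s := by
  ext y
  refine ⟨?_, fun hy => ?_⟩
  · rintro ⟨g, rfl⟩
    exact hs g g.2 x hx
  · obtain ⟨g, hg, rfl⟩ := ht x hx y hy
    exact ⟨⟨g, hg⟩, rfl⟩

theorem syl_trans {p e : ℕ} (hp : p.Prime) {S H : Subgroup G} (hS : IsSyl p S H) {s : Finset X}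
    (hs : ∀ g ∈ H, ∀ x ∈ s, g • x ∈ s) (ht : ∀ x ∈ s, ∀ y ∈ s, ∃ g ∈ H, g • x = y)
    (hc : #s = p ^ e) : ∀ x ∈ s, ∀ y ∈ s, ∃ g ∈ S, g • x = y := by
  intro x hx y hy
  have h1 := syl_dvd_orbit (e := e) hp hS x
    (by rw [orbit_eq_of_trans hs ht hx, Set.ncard_coe_finset, hc])
  have h2 : orbit S x ⊆ s := by
    rintro _ ⟨g, rfl⟩
    exact hs g (hS.le g.2) x hx
  have h3 := Set.eq_of_subset_of_ncard_le h2 (by
    rw [Set.ncard_coe_finset, hc]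
    exact Nat.le_of_dvd ((Set.ncard_pos (s.finite_toSet.subset h2)).2 ⟨x, mem_orbit_self x⟩) h1)
    s.finite_toSet
  obtain ⟨g, rfl⟩ := h3.ge hy
  exact ⟨g, g.2, rfl⟩

theorem syl_dvd_card {p e : ℕ} (hp : p.Prime) {S H : Subgroup G} (hS : IsSyl p S H) {s t : Finset X}
    (hs : ∀ g ∈ H, ∀ x ∈ s, g • x ∈ s) (ht : ∀ x ∈ s, ∀ y ∈ s, ∃ g ∈ H, g • x = y)
    (hc : p ^ e ∣ #s) (hts : t ⊆ s) (hti : ∀ g ∈ S, ∀ x ∈ t, g • x ∈ t) : p ^ e ∣ #t := by
  rw [card_eq_sum_card_image (fun x => orbit S x) t]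
  refine dvd_sum fun o ho => ?_
  obtain ⟨x, hx, rfl⟩ := mem_image.1 ho
  have h1 := syl_dvd_orbit (e := e) hp hS x
    (by rwa [orbit_eq_of_trans hs ht (hts hx), Set.ncard_coe_finset])
  refine h1.trans (dvd_of_eq (Eq.symm ?_))
  rw [← Set.ncard_coe_finset]
  congr 1
  ext y
  rw [mem_coe, mem_filter, orbit_eq_iff]
  refine ⟨fun h => h.2, fun h => ⟨?_, h⟩⟩
  obtain ⟨g, rfl⟩ := h
  exact hti g g.2 x hx

theorem card_pow_of_trans {p : ℕ} (hp : p.Prime) {H : Subgroup G} (hH : IsPGroup p H) {s : Finset X}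
    (hs : ∀ g ∈ H, ∀ x ∈ s, g • x ∈ s) (ht : ∀ x ∈ s, ∀ y ∈ s, ∃ g ∈ H, g • x = y) {x : X}
    (hx : x ∈ s) : ∃ e, #s = p ^ e := by
  have := Fact.mk hp
  rw [← Set.ncard_coe_finset, ← orbit_eq_of_trans hs ht hx, ← index_stabilizer]
  exact hH.index _

theorem exists_pow_mem_lt {p : ℕ} (hp : p.Prime) {T R : Subgroup G} (hR : IsPGroup p R)
    (h : T < R) : ∃ z ∈ R, z ∈ normalizer (T : Set G) ∧ z ∉ T ∧ z ^ p ∈ T := by
  have := Fact.mk hp
  obtain ⟨x, hx, hxX⟩ := SetLike.exists_of_lt (H3.lt_inf_normalizer_of_isNilpotent hR.isNilpotent h)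
  have hex : ∃ k : ℕ, x ^ p ^ k ∈ T := by
    obtain ⟨k, hk⟩ := hR ⟨x, hx.1⟩
    exact ⟨k, by rw [show x ^ p ^ k = 1 from congrArg Subtype.val hk]; exact T.one_mem⟩
  have hk := Nat.find_spec hex
  obtain ⟨j, hj⟩ := Nat.exists_eq_succ_of_ne_zero (n := Nat.find hex) fun h0 =>
    hxX (by simpa [h0] using hk)
  refine ⟨x ^ p ^ j, R.pow_mem hx.1 _, Subgroup.pow_mem _ hx.2 _, Nat.find_min hex (by omega), ?_⟩
  rwa [← pow_mul, ← pow_succ, ← Nat.succ_eq_add_one, ← hj]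

omit [Finite G] in
theorem isPGroup_sup_zpowers {p : ℕ} {T : Subgroup G} (hT : IsPGroup p T) {t : G}
    (ht : t ∈ normalizer (T : Set G)) (h2 : t ^ p ∈ T) : IsPGroup p ↥(T ⊔ zpowers t) := by
  refine hT.to_sup_of_normal_left' ?_ (zpowers_le.2 ht)
  obtain ⟨k, hk⟩ := hT ⟨_, h2⟩
  have h1 : t ^ p ^ (k + 1) = 1 := by
    rw [pow_succ', pow_mul]; exact congrArg Subtype.val hk
  rintro ⟨_, j, rfl⟩
  refine ⟨k + 1, Subtype.ext ?_⟩
  show (t ^ j) ^ p ^ (k + 1) = 1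
  rw [← zpow_natCast, ← zpow_mul, mul_comm, zpow_mul, zpow_natCast, h1, one_zpow]

theorem exists_ext (h2 : ∀ x y x' y' : X, x ≠ y → x' ≠ y' → ∃ g : G, g • x = x' ∧ g • y = y')
    {T : Subgroup G} (hT : IsPGroup 2 T) {a b : X} (hab : a ≠ b) (ha : ∀ t ∈ T, t • a = a)
    (hb : ∀ t ∈ T, t • b = b)
    (hfix : ∀ g ∈ normalizer (T : Set G), g ^ 2 ∈ T → ∃ x y : X, x ≠ y ∧ (∀ t ∈ T, t • x = x) ∧
      (∀ t ∈ T, t • y = y) ∧ g • x = x ∧ g • y = y) :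
    ∃ t ∈ normalizer (T : Set G), t ∉ T ∧ t ^ 2 ∈ T ∧ t • a = a ∧ t • b = b := by
  have := Fact.mk Nat.prime_two
  have hle : T ≤ stabilizer G a ⊓ stabilizer G b := fun t ht => ⟨ha t ht, hb t ht⟩
  obtain ⟨R, hR, hTR⟩ := exists_isSyl_ge hT hle
  rcases hTR.lt_or_eq with hlt | rfl
  · obtain ⟨z, h1, h3, h4, h5⟩ := exists_pow_mem_lt Nat.prime_two hR.isPGroup hlt
    exact ⟨z, h3, h4, h5, hR.le h1⟩
  exfalso
  obtain ⟨g₀, h1, h3⟩ := h2 a b b a hab hab.symm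
  have h4 := hR.cj g₀
  rw [cj_inf, cj_stabilizer, cj_stabilizer, h1, h3, inf_comm] at h4
  obtain ⟨k, hk, h5⟩ := h4.exists_cj_eq hR
  rw [← cj_mul, cj_eq_iff_mem_normalizer] at h5
  obtain ⟨e, m, hm, he⟩ := Nat.exists_eq_two_pow_mul_odd (orderOf_pos (k * g₀)).ne'
  obtain ⟨j, rfl⟩ := hm
  have h6 : (k * g₀) • a = b := by rw [mul_smul, h1]; exact hk.2
  have h7 : (k * g₀) • b = a := by rw [mul_smul, h3]; exact hk.1
  have h8 : (k * g₀) ^ 2 ∈ stabilizer G a ⊓ stabilizer G b :=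
    ⟨show _ • a = a by rw [sq, mul_smul, h6, h7], show _ • b = b by rw [sq, mul_smul, h7, h6]⟩
  set g := (k * g₀) ^ (2 * j + 1) with hg
  have hga : g • a = b := by
    rw [hg, pow_succ, pow_mul, mul_smul, h6]
    exact (Subgroup.pow_mem _ h8 j).2
  have hgN : g ∈ normalizer (T : Set G) := Subgroup.pow_mem _ h5 _
  have hgp : IsPGroup 2 (zpowers g) := by
    rintro ⟨_, i, rfl⟩
    refine ⟨e, Subtype.ext ?_⟩
    show (g ^ i) ^ 2 ^ e = 1
    rw [← zpow_natCast, ← zpow_mul, mul_comm, zpow_mul, zpow_natCast, hg, ← pow_mul,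
      mul_comm (2 * j + 1), ← he, pow_orderOf_eq_one, one_zpow]
  have hg2 : g ^ 2 ∈ T := hR.ge_of_le_normalizer' (Q := zpowers (g ^ 2))
    (hgp.to_le (zpowers_le.2 (npow_mem_zpowers g 2))) (zpowers_le.2 (by
      rw [hg, ← pow_mul, mul_comm _ 2, pow_mul]; exact Subgroup.pow_mem _ h8 _))
    (zpowers_le.2 (Subgroup.pow_mem _ hgN _)) (mem_zpowers _)
  obtain ⟨x, y, hxy, hx, hy, hgx, hgy⟩ := hfix g hgN hg2
  obtain ⟨u, hux, huy⟩ := h2 x y a b hxy hab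
  have h9 := hR.card_le (isPGroup_cj u (isPGroup_sup_zpowers hT hgN hg2)) (by
    rw [← hux, ← huy, ← cj_stabilizer, ← cj_stabilizer, ← cj_inf]
    exact cj_mono u (sup_le (fun t ht => ⟨hx t ht, hy t ht⟩) (zpowers_le.2 ⟨hgx, hgy⟩)))
  rw [card_cj] at h9
  have h10 := eq_of_le_of_card_ge le_sup_left h9
  exact hab ((ha g (h10.ge (mem_sup_right (mem_zpowers g)))).symm.trans hga)

theorem exists_comm_eq {H : Subgroup G} {γ : G} (hn : ∀ u ∈ H, γ * u * γ⁻¹ ∈ H)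
    (hc : ∀ u ∈ H, γ * u = u * γ → u = 1) {h : G} (hh : h ∈ H) :
    ∃ u ∈ H, γ * u * γ⁻¹ * u⁻¹ = h := by
  let f : H → H := fun u => ⟨γ * u * γ⁻¹ * (u : G)⁻¹, mul_mem (hn u u.2) (inv_mem u.2)⟩
  have hf : Function.Injective f := fun u v e => by
    have e1 : γ * u * γ⁻¹ * (u : G)⁻¹ = γ * v * γ⁻¹ * (v : G)⁻¹ := congrArg Subtype.val e
    have := hc ((v : G)⁻¹ * u) (mul_mem (inv_mem v.2) u.2) (by
      calc γ * ((v : G)⁻¹ * u) = γ * (v : G)⁻¹ * γ⁻¹ * (γ * u * γ⁻¹ * (u : G)⁻¹) * u * γ := by group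
        _ = _ := by rw [e1]; group)
    exact Subtype.ext (inv_mul_eq_one.1 this).symm
  obtain ⟨u, hu⟩ := (Finite.injective_iff_surjective.1 hf) ⟨h, hh⟩
  exact ⟨u, u.2, congrArg Subtype.val hu⟩

end Cfsg.Agent.H56
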