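import Mathlib

/-!
Symmetric designs and automorphisms fixing a block pointwise.
-/

set_option autoImplicit false

namespace Cfsg.Agent.H56

open Finset

theorem dcount {α β : Type*} (r : α → β → Prop) [∀ a b, Decidable (r a b)] (s : Finset α)
    (t : Finset β) : ∑ a ∈ s, #{b ∈ t | r a b} = ∑ b ∈ t, #{a ∈ s | r a b} :=
  sum_card_bipartiteAbove_eq_sum_card_bipartiteBelow (r := r)

variable {Ω Y : Type*} [Fintype Ω] [Fintype Y]

/-- a nontrivial symmetric design -/
structure SymD (I : Ω → Y → Prop) [∀ a y, Decidable (I a y)] (k l : ℕ) : Prop where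
  blk : ∀ y, #{a | I a y} = k
  pt : ∀ a, #{y | I a y} = k
  blk2 : ∀ y y', y ≠ y' → #{a | I a y ∧ I a y'} = l
  pt2 : ∀ a a', a ≠ a' → #{y | I a y ∧ I a' y} = l
  lt : l + 2 ≤ k
  par : l * Fintype.card Ω + k = k * k + l

theorem design_par [DecidableEq Ω] (I : Ω → Y → Prop) [∀ a y, Decidable (I a y)] {k r l : ℕ}
    (hk : ∀ y, #{a | I a y} = k) (hr : ∀ a, #{y | I a y} = r)
    (hl : ∀ a a', a ≠ a' → #{y | I a y ∧ I a' y} = l) (a : Ω) :
    l * Fintype.card Ω + r = r * k + l := by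
  have h1 := dcount (fun a' y => I a' y) univ {y | I a y}
  rw [sum_congr rfl fun y _ => hk y, sum_const, hr, smul_eq_mul, ← add_sum_erase _ _ (mem_univ a),
    filter_filter, sum_congr rfl (g := fun _ => l) fun a' ha' => by
      rw [filter_filter, hl a a' (ne_of_mem_erase ha').symm],
    sum_const, card_erase_of_mem (mem_univ a), card_univ, smul_eq_mul] at h1
  simp only [and_self, hr] at h1
  have : 1 ≤ Fintype.card Ω := Fintype.card_pos_iff.2 ⟨a⟩
  obtain ⟨m, hm⟩ := Nat.exists_eq_add_of_le this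
  rw [hm] at h1 ⊢
  rw [← h1, Nat.add_sub_cancel_left]
  ring

section Act
variable {G : Type*} [Group G] [MulAction G Ω] [MulAction G Y]

theorem card_filter_smul (g : G) (P Q : Ω → Prop) [DecidablePred P] [DecidablePred Q]
    (h : ∀ a, P a ↔ Q (g • a)) : #{a | P a} = #{a | Q a} :=
  card_bijective (g • ·) (MulAction.bijective g) (by simpa using h)

theorem exists_symD (I : Ω → Y → Prop) [∀ a y, Decidable (I a y)]
    (inv : ∀ (g : G) a y, I (g • a) (g • y) ↔ I a y)
    (h2 : ∀ x y x' y' : Ω, x ≠ y → x' ≠ y' → ∃ g : G, g • x = x' ∧ g • y = y')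
    (h2' : ∀ x y x' y' : Y, x ≠ y → x' ≠ y' → ∃ g : G, g • x = x' ∧ g • y = y')
    (hc : Fintype.card Ω = Fintype.card Y) {y₀ : Y} {a b c d : Ω} (hab : a ≠ b) (hcd : c ≠ d)
    (ha : I a y₀) (hb : I b y₀) (hc' : ¬ I c y₀) (hd : ¬ I d y₀) : ∃ k l, SymD I k l := by
  classical
  have hv : 1 < Fintype.card Ω := Fintype.one_lt_card_iff.2 ⟨a, b, hab⟩
  obtain ⟨y₁, hy₁⟩ := Fintype.exists_ne_of_one_lt_card (hc ▸ hv) y₀
  have hk : ∀ y, #{a | I a y} = #{a | I a y₀} := fun y => by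
    by_cases e : y = y₀
    · rw [e]
    obtain ⟨g, rfl, -⟩ := h2' y y₀ y₀ y e (Ne.symm e)
    exact card_filter_smul g _ _ fun a => (inv g a y).symm
  have hr : ∀ x, #{y | I x y} = #{y | I a y} := fun x => by
    by_cases e : x = a
    · rw [e]
    obtain ⟨g, rfl, -⟩ := h2 x a a x e (Ne.symm e)
    exact card_filter_smul g _ _ fun y => (inv g x y).symm
  have hl : ∀ x x', x ≠ x' → #{y | I x y ∧ I x' y} = #{y | I a y ∧ I b y} := fun x x' e => by
    obtain ⟨g, rfl, rfl⟩ := h2 x x' a b e hab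
    exact card_filter_smul g _ _ fun y => by rw [inv, inv]
  have hm : ∀ y y', y ≠ y' → #{x | I x y ∧ I x y'} = #{x | I x y₁ ∧ I x y₀} := fun y y' e => by
    obtain ⟨g, rfl, rfl⟩ := h2' y y' y₁ y₀ e hy₁
    exact card_filter_smul g _ _ fun y => by rw [inv, inv]
  have h1 := dcount I univ univ
  rw [sum_congr rfl fun x _ => hr x, sum_congr rfl fun y _ => hk y, sum_const, sum_const, card_univ,
    card_univ, ← hc, smul_eq_mul, smul_eq_mul] at h1
  have h3 := Nat.eq_of_mul_eq_mul_left (by omega) h1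
  have h4 := design_par I hk hr hl a
  have h5 := design_par (fun y x => I x y) hr hk hm y₀
  rw [h3] at hr h4 h5
  rw [← hc] at h5
  have h6 : #{x | I x y₁ ∧ I x y₀} = #{y | I a y ∧ I b y} := by
    obtain ⟨m, hm⟩ := Nat.exists_eq_add_of_lt hv
    rw [hm] at h4 h5
    refine Nat.eq_of_mul_eq_mul_right (m := m + 1) (by omega) ?_
    nlinarith
  rw [h6] at hm
  have h7 : 2 ≤ #{a | I a y₀} := by
    rw [← card_pair hab]
    exact card_le_card (by simp [insert_subset_iff, ha, hb])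
  have h8 : #{a | I a y₀} + 2 ≤ Fintype.card Ω := by
    rw [← card_univ, ← card_filter_add_card_filter_not (s := univ) (fun a => I a y₀),
      ← card_pair hcd]
    exact Nat.add_le_add_left (card_le_card (by simp [insert_subset_iff, hc', hd])) _
  refine ⟨_, _, hk, hr, hm, hl, ?_, h4⟩
  by_contra hlt
  obtain ⟨m, hm⟩ := Nat.exists_eq_add_of_le h8
  obtain ⟨n, hn⟩ := Nat.exists_eq_add_of_le h7
  rw [hm, hn] at h4
  rw [hn] at hlt
  nlinarith

namespace SymD
variable {I : Ω → Y → Prop} [∀ a y, Decidable (I a y)] {k l : ℕ} (d : SymD I k l)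
include d

theorem eq_of_sub {y y' : Y} (h : ∀ a, I a y → I a y') : y = y' := by
  by_contra hne
  have h1 := d.blk2 y y' hne
  rw [filter_congr (q := fun a => I a y) fun a _ => ⟨fun h => h.1, fun h' => ⟨h', h a h'⟩⟩,
    d.blk] at h1
  have := d.lt
  omega

theorem sub_blk {y₁ y₂ y₃ y₄ : Y} (h12 : y₁ ≠ y₂) (h34 : y₃ ≠ y₄)
    (h : ∀ a, I a y₁ → I a y₂ → I a y₃ ∧ I a y₄) {a : Ω} (h3 : I a y₃) (h4 : I a y₄) :
    I a y₁ ∧ I a y₂ := by
  have := eq_of_subset_of_card_le (s := {a | I a y₁ ∧ I a y₂}) (t := {a | I a y₃ ∧ I a y₄})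
    (fun a ha => by simpa using h a (mem_filter.1 ha).2.1 (mem_filter.1 ha).2.2)
    (by rw [d.blk2 _ _ h12, d.blk2 _ _ h34])
  exact (mem_filter.1 (this.ge (mem_filter.2 ⟨mem_univ a, h3, h4⟩))).2

theorem sub_pt {y₁ y₂ y₃ y₄ : Ω} (h12 : y₁ ≠ y₂) (h34 : y₃ ≠ y₄)
    (h : ∀ a, I y₁ a → I y₂ a → I y₃ a ∧ I y₄ a) {a : Y} (h3 : I y₃ a) (h4 : I y₄ a) :
    I y₁ a ∧ I y₂ a := by
  have := eq_of_subset_of_card_le (s := {a | I y₁ a ∧ I y₂ a}) (t := {a | I y₃ a ∧ I y₄ a})
    (fun a ha => by simpa using h a (mem_filter.1 ha).2.1 (mem_filter.1 ha).2.2)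
    (by rw [d.pt2 _ _ h12, d.pt2 _ _ h34])
  exact (mem_filter.1 (this.ge (mem_filter.2 ⟨mem_univ a, h3, h4⟩))).2

variable (inv : ∀ (g : G) a y, I (g • a) (g • y) ↔ I a y)
include inv

theorem fix_blk {g : G} {B : Y} (hB : ∀ a, I a B → g • a = a) : g • B = B :=
  (d.eq_of_sub fun a ha => hB a ha ▸ (inv g a B).2 ha).symm

theorem trace {g : G} {B C : Y} (hB : ∀ a, I a B → g • a = a) (hC : g • C ≠ C) {a : Ω}
    (ha : g • a = a) (haC : I a C) : I a B :=
  (d.sub_blk (y₁ := C) (y₂ := B) (fun e => hC (e ▸ d.fix_blk inv hB)) hC.symm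
    (fun a h1 h2 => ⟨h1, hB a h2 ▸ (inv g a C).2 h1⟩) haC (ha ▸ (inv g a C).2 haC)).2

theorem two_blk {g : G} {B D : Y} (hBD : B ≠ D) (hB : ∀ a, I a B → g • a = a)
    (hD : ∀ a, I a D → g • a = a) (z : Ω) : g • z = z := by
  classical
  by_contra hz
  have h1 : #{y | I z y ∧ g • y = y} ≤ l := by
    rw [← d.pt2 z (g • z) (Ne.symm hz)]
    refine card_le_card fun y hy => ?_
    simp only [mem_filter, mem_univ, true_and] at hy ⊢
    exact ⟨hy.1, hy.2 ▸ (inv g z y).2 hy.1⟩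
  have h2 := card_filter_add_card_filter_not (s := ({y | I z y} : Finset Y)) (fun y => g • y = y)
  rw [filter_filter, filter_filter, d.pt] at h2
  have := d.lt
  obtain ⟨C, hC, C', hC', hne⟩ := one_lt_card.1 (show 1 < #{y | I z y ∧ ¬ g • y = y} by omega)
  simp only [mem_filter, mem_univ, true_and] at hC hC'
  have key : ∀ C, g • C ≠ C → ∀ a, I a B → I a D → I a C := fun C hC a h1 h2 =>
    (d.sub_blk (y₁ := C) (y₂ := B) (fun e => hC (e ▸ d.fix_blk inv hB)) hBD
      (fun a h1 h2 => ⟨h2, d.trace inv hD hC (hB a h2) h1⟩) h1 h2).1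
  exact hz (hB z (d.sub_blk hBD hne (fun a h1 h2 => ⟨key C hC.2 a h1 h2, key C' hC'.2 a h1 h2⟩)
    hC.1 hC'.1).1)

theorem two_pt {g : G} {B : Y} (hB : ∀ a, I a B → g • a = a) {x y : Ω} (hxy : x ≠ y)
    (hx : ¬ I x B) (hy : ¬ I y B) (hgx : g • x = x) (hgy : g • y = y) (z : Ω) : g • z = z := by
  obtain ⟨D, hD, hD'⟩ : ∃ D, I x D ∧ ¬ I y D := by
    by_contra hc
    push Not at hc
    have h1 := d.pt2 x y hxy
    rw [filter_congr (q := fun a => I x a) fun a _ => ⟨fun h => h.1, fun h' => ⟨h', hc a h'⟩⟩,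
      d.pt] at h1
    have := d.lt
    omega
  have hfix : ∀ w, ¬ I w B → g • w = w → ∀ C, I w C → g • C = C := fun w hw hgw C hC => by
    by_contra hne
    exact hw (d.trace inv hB hne hgw hC)
  refine d.two_blk inv (B := B) (D := D) (fun e => hx (e ▸ hD)) hB (fun w hw => ?_) z
  by_contra hgw
  exact hD' (d.sub_pt (y₁ := w) (y₂ := y) (fun e => hgw (e ▸ hgy)) (Ne.symm hgw)
    (fun C h1 h2 => ⟨h1, hfix y hy hgy C h2 ▸ (inv g w C).2 h1⟩) hw
    (hfix x hx hgx D hD ▸ (inv g w D).2 hw)).2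

theorem same_trace [DecidableEq Y] {g : G} {B : Y} (hB : ∀ a, I a B ↔ g • a = a)
    (hc : #{y : Y | g • y = y} = k) {C C' : Y} (hCB : C ≠ B) (hCB' : C' ≠ B)
    (ht : ∀ a, I a B → (I a C ↔ I a C')) (hC : g • C = C) : g • C' = C' := by
  classical
  by_contra hC'
  have hgB := d.fix_blk inv fun a => (hB a).1
  obtain ⟨n, hn⟩ := Nat.exists_eq_add_of_le (show l ≤ k by have := d.lt; omega)
  have hout : ∀ D, D ≠ B → #{a | ¬ I a B ∧ I a D} = n := fun D hD => by
    have := card_filter_add_card_filter_not (s := ({a | I a D} : Finset Ω)) (fun a => I a B)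
    rw [filter_filter, filter_filter, d.blk, d.blk2 D B hD] at this
    simp only [and_comm (b := I _ D)]
    omega
  let f : Ω → ℕ := fun z => #{D ∈ ({y : Y | g • y = y} : Finset Y) | I z D}
  have hf : ∀ z ∈ ({a | ¬ I a B} : Finset Ω), f z ≤ l := fun z hz => by
    rw [← d.pt2 z (g • z) fun e => (mem_filter.1 hz).2 ((hB z).2 e.symm)]
    refine card_le_card fun y hy => ?_
    simp only [mem_filter, mem_univ, true_and] at hy ⊢
    exact ⟨hy.2, hy.1 ▸ (inv g z y).2 hy.2⟩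
  have hBm : B ∈ ({y : Y | g • y = y} : Finset Y) := by simpa using hgB
  have h1 : ∑ z ∈ ({a | ¬ I a B} : Finset Ω), f z = ∑ z ∈ ({a | ¬ I a B} : Finset Ω), l := by
    rw [dcount, ← add_sum_erase _ _ hBm, sum_congr rfl (g := fun _ => n) fun D hD => by
      rw [filter_filter, hout D (ne_of_mem_erase hD)], sum_const, sum_const,
      card_erase_of_mem hBm, hc, filter_filter, smul_eq_mul, smul_eq_mul]
    have h2 := card_filter_add_card_filter_not (s := univ) (fun a => I a B)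
    have h3 := d.par
    rw [d.blk, card_univ] at h2
    rw [← h2] at h3
    simp only [not_and_self_iff, filter_false, card_empty, zero_add]
    obtain ⟨m, hm⟩ := Nat.exists_eq_add_of_le (show 1 ≤ k by have := d.lt; omega)
    rw [hm, Nat.add_sub_cancel_left]
    have h4 : k * k = k * l + (1 + m) * n := by rw [← hm, ← mul_add, ← hn]
    nlinarith
  have h2 := (sum_eq_sum_iff_of_le hf).1 h1
  have h3 : ∀ D, D ≠ B → ∑ z ∈ ({a | I a D} : Finset Ω), f z =
      ∑ z ∈ ({a | I a B ∧ I a D} : Finset Ω), f z + n * l := fun D hD => by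
    rw [← sum_filter_add_sum_filter_not _ (fun a => I a B), filter_filter, filter_filter]
    simp only [and_comm (a := I _ D)]
    congr 1
    rw [sum_congr rfl (g := fun _ => l) fun z hz => h2 z (by
      simp only [mem_filter, mem_univ, true_and] at hz ⊢; exact hz.1), sum_const, hout D hD,
      smul_eq_mul]
  have h4 := h3 C hCB
  rw [filter_congr (q := fun a => I a B ∧ I a C') fun a _ => and_congr_right (ht a), ← h3 C' hCB',
    dcount I {a | I a C}, dcount I {a | I a C'}] at h4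
  have hCm : C ∈ ({y : Y | g • y = y} : Finset Y) := by simpa using hC
  rw [← add_sum_erase _ _ hCm, sum_congr rfl (g := fun _ => l) fun D hD => by
      rw [filter_filter, d.blk2 C D (ne_of_mem_erase hD).symm],
    sum_const, sum_congr rfl (g := fun _ => l) fun D hD => by
      rw [filter_filter, d.blk2 C' D fun e => hC' (e ▸ (mem_filter.1 hD).2)],
    sum_const, card_erase_of_mem hCm, hc, filter_filter, smul_eq_mul, smul_eq_mul] at h4
  simp only [and_self, d.blk] at h4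
  have := d.lt
  obtain ⟨m, hm⟩ := Nat.exists_eq_add_of_le (show 1 ≤ k by omega)
  rw [hm, Nat.add_sub_cancel_left] at h4
  nlinarith

end SymD

end Act

end Cfsg.Agent.H56
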