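import Mathlib
import Cfsg.Agent.H56.SymD
import Cfsg.Agent.H56.PlaneGrp

/-!
Finite projective planes and their central collineations.
-/

set_option autoImplicit false

namespace Cfsg.Agent.H56

open Subgroup H85 MulAction Finset
open scoped Classical

variable {P L : Type*} [Fintype P] [Fintype L]

/-- a finite projective plane of order `n` -/
structure PPlane (I : P → L → Prop) (n : ℕ) : Prop where
  join : ∀ x y, ∃ l, I x l ∧ I y l
  meet : ∀ l k, ∃ x, I x l ∧ I x k
  uniq : ∀ {x y l k}, I x l → I y l → I x k → I y k → x = y ∨ l = k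
  cardL : ∀ l, #{x | I x l} = n + 1
  cardP : ∀ x, #{l | I x l} = n + 1
  two : 2 ≤ n
  neP : Nonempty P

namespace PPlane
variable {I : P → L → Prop} {n : ℕ} (d : PPlane I n)
include d

theorem dual : PPlane (fun l x => I x l) n :=
  ⟨d.meet, d.join, fun h1 h2 h3 h4 => (d.uniq h1 h3 h2 h4).symm, d.cardP, d.cardL, d.two,
    d.neP.elim fun x => ⟨(d.join x x).choose⟩⟩

theorem eql {x y : P} {l k : L} (hxy : x ≠ y) (h1 : I x l) (h2 : I y l) (h3 : I x k) (h4 : I y k) :
    l = k := (d.uniq h1 h2 h3 h4).resolve_left hxy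

theorem eqp {x y : P} {l k : L} (hlk : l ≠ k) (h1 : I x l) (h2 : I x k) (h3 : I y l) (h4 : I y k) :
    x = y := (d.uniq h1 h3 h2 h4).resolve_right hlk

theorem ex2 (l : L) (a b : P) : ∃ x, I x l ∧ x ≠ a ∧ x ≠ b := by
  obtain ⟨x, hx, hx'⟩ := exists_mem_notMem_of_card_lt_card (s := {a, b}) (t := {x | I x l})
    (by have := d.two; have := card_le_two (a := a) (b := b); rw [d.cardL]; omega)
  exact ⟨x, by simpa using hx, by simpa using hx'⟩

theorem exOff (l : L) : ∃ x, ¬ I x l := by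
  obtain ⟨a, ha, -⟩ := d.meet l l
  obtain ⟨k, hk, hkl, -⟩ := d.dual.ex2 a l l
  obtain ⟨x, hx, hxa, -⟩ := d.ex2 k a a
  exact ⟨x, fun h => hkl (d.eql hxa hx hk h ha)⟩

theorem card_meet {l k : L} (h : l ≠ k) : #{x | I x l ∧ I x k} = 1 := by
  obtain ⟨x, h1, h2⟩ := d.meet l k
  refine card_eq_one.2 ⟨x, eq_singleton_iff_unique_mem.2 ⟨by simp [h1, h2], fun y hy => ?_⟩⟩
  exact d.eqp h (mem_filter.1 hy).2.1 (mem_filter.1 hy).2.2 h1 h2

theorem card_pts : Fintype.card P = n * n + n + 1 := by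
  have := design_par I d.cardL d.cardP (fun _ _ h => d.dual.card_meet h) d.neP.some
  nlinarith

theorem symD : SymD I (n + 1) 1 :=
  ⟨d.cardL, d.cardP, fun _ _ h => d.card_meet h, fun _ _ h => d.dual.card_meet h,
    by have := d.two; omega, by rw [d.card_pts]; ring⟩

theorem card_off (l : L) : #{x | ¬ I x l} = n * n := by
  have := card_filter_add_card_filter_not (s := univ) (fun x => I x l)
  rw [d.cardL, card_univ, d.card_pts] at this
  omega

theorem card_erase {l : L} {a : P} (ha : I a l) : #{x | I x l ∧ x ≠ a} = n := by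
  rw [← filter_filter, filter_ne', card_erase_of_mem (by simpa using ha), d.cardL]
  rfl

end PPlane

variable (G : Type*) [Group G] [MulAction G P] [MulAction G L]

/-- perspectivities with centre `A` and axis `j` -/
def persp (I : P → L → Prop) (A : P) (j : L) : Subgroup G where
  carrier := {g | (∀ l, I A l → g • l = l) ∧ ∀ x, I x j → g • x = x}
  one_mem' := ⟨fun _ _ => one_smul _ _, fun _ _ => one_smul _ _⟩
  mul_mem' := fun {g h} hg hh => ⟨fun l hl => by rw [mul_smul, hh.1 l hl, hg.1 l hl],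
    fun l hl => by rw [mul_smul, hh.2 l hl, hg.2 l hl]⟩
  inv_mem' := fun {g} hg => ⟨fun l hl => inv_smul_eq_iff.2 (hg.1 l hl).symm,
    fun l hl => inv_smul_eq_iff.2 (hg.2 l hl).symm⟩

/-- a faithful collineation group -/
structure CP (I : P → L → Prop) (n : ℕ) : Prop extends PPlane I n where
  inv : ∀ (g : G) x l, I (g • x) (g • l) ↔ I x l
  faith : ∀ g : G, (∀ x : P, g • x = x) → g = 1

/-- there is an involutory homology with centre `C` and axis `c` -/
def IH (I : P → L → Prop) (C : P) (c : L) : Prop :=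
  ¬ I C c ∧ ∃ g ∈ persp G I C c, g ≠ 1 ∧ g * g = 1

/-- there is an elation with centre `A` and axis `j` -/
def EF (I : P → L → Prop) (A : P) (j : L) : Prop := I A j ∧ ∃ g ∈ persp G I A j, g ≠ 1

variable {G}

omit [Fintype P] [Fintype L] in
theorem persp_dual (I : P → L → Prop) (A : P) (j : L) :
    persp G (fun l x => I x l) j A = persp G I A j := by
  ext g; exact and_comm

omit [Fintype P] [Fintype L] in
theorem IH_dual {I : P → L → Prop} {A : P} {j : L} : IH G (fun l x => I x l) j A ↔ IH G I A j := by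
  rw [IH, persp_dual]; rfl

omit [Fintype P] [Fintype L] in
theorem EF_dual {I : P → L → Prop} {A : P} {j : L} : EF G (fun l x => I x l) j A ↔ EF G I A j := by
  rw [EF, persp_dual]; rfl

namespace CP
variable {I : P → L → Prop} {n : ℕ} (d : CP G I n)
include d

theorem inv1 {g : G} {x : P} {l : L} (h : I x l) : I (g • x) (g • l) := (d.inv g x l).2 h

theorem invl {g : G} {x : P} {l : L} (hg : g • l = l) (h : I x l) : I (g • x) l := hg ▸ d.inv1 h

theorem invp {g : G} {x : P} {l : L} (hg : g • x = x) (h : I x l) : I x (g • l) := hg ▸ d.inv1 h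

theorem fixl {g : G} {x y : P} {l : L} (hxy : x ≠ y) (hx : g • x = x) (hy : g • y = y) (h1 : I x l)
    (h2 : I y l) : g • l = l := d.eql hxy (d.invp hx h1) (d.invp hy h2) h1 h2

theorem fixp {g : G} {x : P} {l k : L} (hlk : l ≠ k) (hl : g • l = l) (hk : g • k = k) (h1 : I x l)
    (h2 : I x k) : g • x = x := d.eqp hlk (d.invl hl h1) (d.invl hk h2) h1 h2

theorem dual : CP G (fun l x => I x l) n :=
  ⟨d.toPPlane.dual, fun g l x => d.inv g x l, fun g hg => d.faith g fun x => by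
    obtain ⟨l, hl, -⟩ := d.join x x
    obtain ⟨k, hk, hkl, -⟩ := d.toPPlane.dual.ex2 x l l
    exact d.fixp hkl (hg k) (hg l) hk hl⟩

theorem ax_fix {g : G} {a : L} (h : ∀ x, I x a → g • x = x) : g • a = a := d.symD.fix_blk d.inv h

theorem cen_fix {g : G} {A : P} (h : ∀ l, I A l → g • l = l) : g • A = A := d.dual.ax_fix h

theorem two_ax {g : G} {a b : L} (hab : a ≠ b) (ha : ∀ x, I x a → g • x = x)
    (hb : ∀ x, I x b → g • x = x) : g = 1 := d.faith g (d.symD.two_blk d.inv hab ha hb)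

theorem two_cen {g : G} {A B : P} (hAB : A ≠ B) (ha : ∀ l, I A l → g • l = l)
    (hb : ∀ l, I B l → g • l = l) : g = 1 := d.dual.two_ax hAB ha hb

theorem cen_of_fix {g : G} {a : L} {X : P} (h : ∀ x, I x a → g • x = x) (hX : g • X = X)
    (hXa : ¬ I X a) (l : L) (hl : I X l) : g • l = l := by
  by_contra hc
  exact hXa (d.symD.trace d.inv h hc hX hl)

theorem fix_pt {g : G} {A X : P} {a : L} (h : g ∈ persp G I A a) (h1 : g ≠ 1) (hX : g • X = X) :
    X = A ∨ I X a := by
  by_contra hc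
  push Not at hc
  exact h1 (d.two_cen hc.1 (d.cen_of_fix h.2 hX hc.2) h.1)

theorem fix_ln {g : G} {A : P} {a l : L} (h : g ∈ persp G I A a) (h1 : g ≠ 1) (hl : g • l = l) :
    l = a ∨ I A l := d.dual.fix_pt ((persp_dual I A a).ge h) h1 hl

theorem exists_ax {g : G} {A : P} (h : ∀ l, I A l → g • l = l) : ∃ a, g ∈ persp G I A a := by
  by_cases hc : ∃ a, ¬ I A a ∧ g • a = a
  · obtain ⟨a, ha, ha'⟩ := hc
    exact ⟨a, h, d.dual.cen_of_fix h ha' ha⟩
  push Not at hc
  have h1 : ∀ b, ¬ I A b → ∃ Y, I Y b ∧ g • Y = Y := fun b hb => by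
    obtain ⟨Y, h1, h2⟩ := d.meet b (g • b)
    obtain ⟨k, h3, h4⟩ := d.join A Y
    exact ⟨Y, h1, d.eqp (l := k) (k := g • b)
      (fun e => hb ((d.inv g A b).1 ((d.cen_fix h).symm ▸ e ▸ h3)))
      (d.invl (h k h3) h4) (d.inv1 h1) h4 h2⟩
  obtain ⟨b₀, hb₀⟩ := d.toPPlane.dual.exOff A
  obtain ⟨Y, hY, hY'⟩ := h1 b₀ hb₀
  obtain ⟨j, hj, hj'⟩ := d.join A Y
  refine ⟨j, h, fun X hX => ?_⟩
  by_cases hXA : X = A
  · rw [hXA]; exact d.cen_fix h
  obtain ⟨b, hb, hbj, -⟩ := d.toPPlane.dual.ex2 X j j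
  have hAb : ¬ I A b := fun e => hbj (d.eql hXA hb e hX hj)
  obtain ⟨Y', h2, h3⟩ := h1 b hAb
  by_cases h4 : I Y' j
  · rwa [d.eqp hbj hb hX h2 h4]
  obtain ⟨k, h5, h6⟩ := d.join Y Y'
  have h7 : ¬ I A k := fun e =>
    h4 (d.eql (x := A) (y := Y) (fun e => hb₀ (e ▸ hY)) e h5 hj hj' ▸ h6)
  exact absurd (d.fixl (fun e : Y = Y' => h4 (e ▸ hj')) hY' h3 h5 h6) (hc k h7)

theorem exists_cen {g : G} {a : L} (h : ∀ x, I x a → g • x = x) : ∃ A, g ∈ persp G I A a :=
  (d.dual.exists_ax h).imp fun A hA => (persp_dual I A a).le hA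

theorem conj_persp (u : G) {g : G} {A : P} {a : L} (h : g ∈ persp G I A a) :
    u * g * u⁻¹ ∈ persp G I (u • A) (u • a) :=
  ⟨fun l hl => by
    rw [mul_smul, mul_smul, h.1 _ ((d.inv u _ _).1 (by rwa [smul_inv_smul])), smul_inv_smul],
  fun l hl => by
    rw [mul_smul, mul_smul, h.2 _ ((d.inv u _ _).1 (by rwa [smul_inv_smul])), smul_inv_smul]⟩

theorem IH_smul (u : G) {A : P} {a : L} (h : IH G I A a) : IH G I (u • A) (u • a) := by
  obtain ⟨h1, g, hg, h2, h3⟩ := h
  refine ⟨by rwa [d.inv], _, d.conj_persp u hg, by simpa using h2, ?_⟩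
  rw [← mul_assoc, ← mul_assoc, inv_mul_cancel_right, mul_assoc u, h3, mul_one, mul_inv_cancel]

theorem EF_smul (u : G) {A : P} {a : L} (h : EF G I A a) : EF G I (u • A) (u • a) := by
  obtain ⟨h1, g, hg, h2⟩ := h
  exact ⟨d.inv1 h1, _, d.conj_persp u hg, by simpa using h2⟩

theorem card_fix_aux (g : G) :
    ∑ l : L, #{x | I x l ∧ I x (g • l)} = #{l : L | g • l = l} * n + (n * n + n + 1) := by
  rw [← d.toPPlane.dual.card_pts, card_filter, sum_mul, ← card_univ, card_eq_sum_ones,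
    ← sum_add_distrib]
  refine sum_congr rfl fun l _ => ?_
  split_ifs with h
  · rw [one_mul, ← d.cardL l, h]
    exact congrArg _ (filter_congr fun _ _ => and_self_iff)
  · rw [d.card_meet (Ne.symm h), zero_mul]

theorem card_fix (g : G) : #{x : P | g • x = x} = #{l : L | g • l = l} := by
  have h1 := d.card_fix_aux g
  have h2 := d.dual.card_fix_aux g⁻¹
  have h3 := dcount (fun x l => I x l ∧ I x (g • l)) univ univ
  rw [h1] at h3
  have h4 : ∀ x l, I (g⁻¹ • x) l ↔ I x (g • l) := fun x l => by rw [← d.inv g, smul_inv_smul]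
  simp only [h4, inv_smul_eq_iff, eq_comm (b := g • _)] at h2
  have := d.two
  refine Nat.eq_of_mul_eq_mul_right (m := n) (by omega) ?_
  omega

theorem dvd_of_persp {p : ℕ} (hp : p.Prime) {g : G} (hg : g ^ p = 1) (h1 : g ≠ 1) {A : P} {a : L}
    (h : g ∈ persp G I A a) : (I A a → p ∣ n) ∧ (¬ I A a → ¬ p ∣ n) := by
  obtain ⟨b, hb, hba, -⟩ := d.toPPlane.dual.ex2 A a a
  obtain ⟨B, hB, hB'⟩ := d.meet b a
  have h2 := card_modEq_fix_elt hp hg {x | I x b} fun x hx => by
    simpa using d.invl (h.1 b hb) (mem_filter.1 hx).2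
  have h3 : ({x ∈ ({x | I x b} : Finset P) | g • x = x} : Finset P) = {A, B} := by
    ext x
    simp only [mem_filter, mem_univ, true_and, mem_insert, mem_singleton]
    refine ⟨fun ⟨h4, h5⟩ => (d.fix_pt h h1 h5).imp_right fun h6 => d.eqp hba h4 h6 hB hB', ?_⟩
    rintro (rfl | rfl)
    · exact ⟨hb, d.cen_fix h.1⟩
    · exact ⟨hB, h.2 _ hB'⟩
  rw [h3, d.cardL] at h2
  refine ⟨fun hA => ?_, fun hA hd => ?_⟩
  · rw [d.eqp hba hb hA hB hB', pair_eq_singleton, card_singleton] at h2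
    exact (Nat.modEq_zero_iff_dvd).1 (Nat.ModEq.add_right_cancel' 1 h2)
  · rw [card_pair fun e : A = B => hA (e ▸ hB')] at h2
    have h4 : n ≡ 1 [MOD p] := Nat.ModEq.add_right_cancel' 1 h2
    exact hp.one_lt.ne' (Nat.dvd_one.1 ((Nat.modEq_zero_iff_dvd).1
      (h4.symm.trans ((Nat.modEq_zero_iff_dvd).2 hd))))

theorem card_fix_off {t : G} (ht : t * t = 1) (h1 : ∀ a, ∃ x, I x a ∧ t • x ≠ x) {l : L}
    (hl : t • l = l) : #{x | ¬ I x l ∧ t • x = x} = n := by
  obtain ⟨X, hX, hX'⟩ := h1 l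
  rw [← d.toPPlane.dual.card_erase hX]
  have hnf : ∀ b, I X b → b ≠ l → t • b ≠ b := fun b hb hbl e => hX' (d.fixp hbl e hl hb hX)
  choose f hf hf' using d.join X
  refine card_bij (fun y _ => f y) (fun y hy => ?_) (fun y hy z hz e => ?_) (fun b hb => ?_)
  · simp only [mem_filter, mem_univ, true_and] at hy ⊢
    exact ⟨hf y, fun e => hy.1 (e ▸ hf' y)⟩
  · simp only [mem_filter, mem_univ, true_and] at hy hz
    by_contra hne
    exact hnf _ (hf y) (fun e => hy.1 (e ▸ hf' y)) (d.fixl hne hy.2 hz.2 (hf' y) (e ▸ hf' z))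
  · simp only [mem_filter, mem_univ, true_and] at hb ⊢
    obtain ⟨y, h2, h3⟩ := d.meet b (t • b)
    have h4 : t • y = y := d.eqp (hnf b hb.1 hb.2).symm
      (by simpa [← mul_smul, ht] using d.inv1 (g := t) h3) (d.inv1 h2) h2 h3
    have h5 : y ≠ X := fun e => hX' (e ▸ h4)
    exact ⟨y, ⟨fun e => h5 (d.eqp hb.2 h2 e hb.1 hX), h4⟩, d.eql h5 (hf' y) (hf y) h2 hb.1⟩

theorem baer {t : G} (ht : t * t = 1) (h1 : ∀ a, ∃ x, I x a ∧ t • x ≠ x) {X : P} (hX : t • X = X) :
    ∃ r, r * r = n ∧ (∀ l, t • l = l → #{x | I x l ∧ t • x = x} = r + 1) ∧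
      ∀ x, t • x = x → #{l | I x l ∧ t • l = l} = r + 1 := by
  have h2 : ∀ A, ∃ l, I A l ∧ t • l ≠ l := fun A => by
    by_contra hc
    push Not at hc
    obtain ⟨a, ha⟩ := d.exists_ax hc
    obtain ⟨x, hx, hx'⟩ := h1 a
    exact hx' (ha.2 x hx)
  have h3 : ∀ l, t • l = l → #{x | I x l ∧ t • x = x} + n = #{x : P | t • x = x} := fun l hl => by
    rw [← d.card_fix_off ht h1 hl, ← card_filter_add_card_filter_not (s := {x : P | t • x = x})
      (fun x => I x l), filter_filter, filter_filter]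
    simp only [and_comm]
  have h4 : ∀ x, t • x = x → #{l | I x l ∧ t • l = l} + n = #{x : P | t • x = x} := fun x hx => by
    rw [← d.dual.card_fix_off ht h2 hx, d.card_fix,
      ← card_filter_add_card_filter_not (s := {l : L | t • l = l}) (fun l => I x l), filter_filter,
      filter_filter]
    simp only [and_comm]
  have h5 := dcount (fun x l => I x l) {x : P | t • x = x} {l | I X l ∧ t • l = l}
  set a := #{l | I X l ∧ t • l = l} with ha
  have hXm : X ∈ ({x : P | t • x = x} : Finset P) := by simpa using hX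
  rw [← add_sum_erase _ _ hXm, sum_congr rfl (g := fun _ => 1) fun y hy => by
      have hy1 := ne_of_mem_erase hy
      rw [← d.toPPlane.dual.card_meet hy1.symm, filter_filter]
      exact congrArg _ (filter_congr fun l _ => ⟨fun h => ⟨h.1.1, h.2⟩, fun h =>
        ⟨⟨h.1, d.fixl hy1 (mem_filter.1 (mem_of_mem_erase hy)).2 hX h.2 h.1⟩, h.2⟩⟩),
    sum_const, sum_congr rfl (g := fun _ => a) fun l hl => by
      have := h3 l (mem_filter.1 hl).2.2
      rw [← h4 X hX] at this
      rw [filter_filter]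
      simp only [and_comm (b := I _ l)]
      omega, sum_const, card_erase_of_mem hXm, ← h4 X hX, filter_filter,
    filter_congr (q := fun l => I X l ∧ t • l = l) fun l _ => ⟨fun h => h.1, fun h => ⟨h, h.1⟩⟩,
    ← ha, smul_eq_mul, smul_eq_mul] at h5
  have := d.two
  obtain ⟨r, hr⟩ : ∃ r, a = r + 1 := by
    refine Nat.exists_eq_add_one_of_ne_zero fun e => ?_
    rw [e] at h5
    omega
  refine ⟨r, ?_, fun l hl => ?_, fun x hx => ?_⟩
  · rw [hr, show r + 1 + n - 1 = r + n by omega] at h5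
    nlinarith
  · have := h3 l hl
    have := h4 X hX
    omega
  · have := h4 x hx
    have := h4 X hX
    omega

end CP

end Cfsg.Agent.H56
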