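import Mathlib
import Cfsg.Agent.H56.Plane

/-!
Planes with many involutory homologies have prime power order.
-/

set_option autoImplicit false

namespace Cfsg.Agent.H56

open Subgroup H85 MulAction Finset
open scoped Classical commutatorElement

variable {P L : Type*} [Fintype P] [Fintype L] {G : Type*} [Group G] [MulAction G P] [MulAction G L]

namespace CP
variable {I : P → L → Prop} {n : ℕ} (d : CP G I n)
include d

/-- the elations with centre `A` -/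
def TC (A : P) : Subgroup G where
  carrier := {g | ∃ j, I A j ∧ g ∈ persp G I A j}
  one_mem' := (d.join A A).imp fun _ h => ⟨h.1, one_mem _⟩
  inv_mem' := fun ⟨j, h1, h2⟩ => ⟨j, h1, inv_mem h2⟩
  mul_mem' := by
    rintro σ τ ⟨j, h1, h2⟩ ⟨j', h3, h4⟩
    by_cases h0 : τ = 1
    · exact ⟨j, h1, by rwa [h0, mul_one]⟩
    by_cases e : j = j'
    · exact ⟨j, h1, mul_mem h2 (e ▸ h4)⟩
    obtain ⟨a, ha⟩ := d.exists_ax (g := σ * τ) (A := A) fun l hl => by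
      rw [mul_smul, h4.1 l hl, h2.1 l hl]
    refine ⟨a, ?_, ha⟩
    obtain ⟨X, h5, h6⟩ := d.meet a j
    have h7 : τ • X = X := by
      rw [← smul_left_cancel_iff σ, ← mul_smul, ha.2 X h5, h2.2 X h6]
    rcases d.fix_pt h4 h0 h7 with rfl | h8
    · exact h5
    · exact d.eqp e h6 h8 h1 h3 ▸ h5

theorem persp_le_TC {A : P} {j : L} (h : I A j) : persp G I A j ≤ d.TC A := fun _ hg => ⟨j, h, hg⟩

theorem comm_of_ne {A : P} {j j' : L} (h : I A j) (h' : I A j') (hne : j ≠ j') {a b : G}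
    (ha : a ∈ persp G I A j) (hb : b ∈ persp G I A j') : a * b = b * a := by
  rw [← commutatorElement_eq_one_iff_mul_comm]
  have h1 := d.conj_persp a hb
  have h2 := d.conj_persp b (inv_mem ha)
  rw [d.cen_fix ha.1, ha.1 _ h'] at h1
  rw [d.cen_fix hb.1, hb.1 _ h] at h2
  refine d.two_ax hne ?_ (mul_mem h1 (inv_mem hb)).2
  have : ⁅a, b⁆ = a * (b * a⁻¹ * b⁻¹) := by rw [commutatorElement_def]; group
  exact this ▸ (mul_mem ha h2).2

theorem exists_third {A : P} {j j' : L} (h : I A j) (h' : I A j') (hne : j ≠ j') {a b : G}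
    (ha : a ∈ persp G I A j) (hb : b ∈ persp G I A j') (hb1 : b ≠ 1) :
    ∃ k, I A k ∧ k ≠ j ∧ a * b ∈ persp G I A k := by
  obtain ⟨k, h1, h2⟩ := mul_mem (d.persp_le_TC h ha) (d.persp_le_TC h' hb)
  refine ⟨k, h1, ?_, h2⟩
  rintro rfl
  exact hb1 (d.two_ax hne ((mul_mem_cancel_left ha).1 h2).2 hb.2)

theorem TC_comm {A : P} {j j' : L} (h : EF G I A j) (h' : EF G I A j') (hne : j ≠ j') :
    ∀ a ∈ d.TC A, ∀ b ∈ d.TC A, a * b = b * a := by
  rintro a ⟨k, h1, ha⟩ b ⟨k', h2, hb⟩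
  by_cases e : k = k'
  swap
  · exact d.comm_of_ne h1 h2 e ha hb
  subst e
  obtain ⟨j₀, ⟨h3, c, hc, hc1⟩, h4⟩ : ∃ j₀, EF G I A j₀ ∧ k ≠ j₀ := by
    by_cases e : k = j
    · exact ⟨j', h', e ▸ hne⟩
    · exact ⟨j, h, e⟩
  obtain ⟨k', h5, h6, h7⟩ := d.exists_third h1 h3 h4 hb hc hc1
  have h8 := d.comm_of_ne h1 h5 h6.symm ha h7
  rw [← mul_assoc, mul_assoc b, ← d.comm_of_ne h1 h3 h4 ha hc, ← mul_assoc] at h8
  exact mul_right_cancel h8

theorem H1 {C C' : P} {c k : L} {α β : G} (hα : α ∈ persp G I C c) (hβ : β ∈ persp G I C' c)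
    (hα1 : α ≠ 1) (hβ1 : β ≠ 1) (hα2 : α * α = 1) (hβ2 : β * β = 1) (hC : ¬ I C c) (hne : C ≠ C')
    (hk : I C k) (hk' : I C' k) : ∃ E, I E k ∧ I E c ∧ α * β ∈ persp G I E c ∧ α * β ≠ 1 := by
  obtain ⟨E, hE⟩ := d.exists_cen (g := α * β) (a := c) fun x hx => by
    rw [mul_smul, hβ.2 x hx, hα.2 x hx]
  have h1 : α * β ≠ 1 := fun e => hβ1 (d.two_cen hne (by
    rw [eq_inv_of_mul_eq_one_right e]; exact (inv_mem hα).1) hβ.1)
  refine ⟨E, (d.fix_ln hE h1 (by rw [mul_smul, hβ.1 k hk', hα.1 k hk])).resolve_left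
    fun e => hC (e ▸ hk), ?_, hE, h1⟩
  by_contra hEc
  have h2 := d.conj_persp α hE
  have h3 : α * (α * β) * α⁻¹ = (α * β)⁻¹ := by
    rw [← mul_assoc, hα2, one_mul, mul_inv_rev, inv_eq_of_mul_eq_one_right hβ2]
  rw [h3] at h2
  have h4 : α • E = E := by
    by_contra h5
    exact h1 (inv_eq_one.1 (d.two_cen h5 h2.1 (inv_mem hE).1))
  have h5 : β • E = E := by
    rw [← smul_left_cancel_iff α, ← mul_smul, d.cen_fix hE.1, h4]
  exact hne (((d.fix_pt hα hα1 h4).resolve_right hEc).symm.trans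
    ((d.fix_pt hβ hβ1 h5).resolve_right hEc))

theorem EF_of_IH {C C' : P} {c k : L} (h : IH G I C c) (h' : IH G I C' c) (hne : C ≠ C')
    (hk : I C k) (hk' : I C' k) : ∃ E, I E k ∧ EF G I E c := by
  obtain ⟨h1, α, h2, h3, h4⟩ := h
  obtain ⟨-, β, h5, h6, h7⟩ := h'
  obtain ⟨E, h8, h9, h10⟩ := d.H1 h2 h5 h3 h6 h4 h7 h1 hne hk hk'
  exact ⟨E, h8, h9, _, h10⟩

theorem fix_ax_of_comm {g u : G} {A : P} {a : L} (h : g ∈ persp G I A a) (h1 : g ≠ 1)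
    (e : g * u = u * g) : u • a = a := by
  have h2 := d.conj_persp u h
  rw [← e, mul_inv_cancel_right] at h2
  by_contra hc
  exact h1 (d.two_ax hc h2.2 h.2)

theorem fix_cen_of_comm {g u : G} {A : P} {a : L} (h : g ∈ persp G I A a) (h1 : g ≠ 1)
    (e : g * u = u * g) : u • A = A := d.dual.fix_ax_of_comm ((persp_dual I A a).ge h) h1 e

theorem endgame {A : P} {j : L} (hA : I A j) (h1 : ∀ E, EF G I E j → E = A)
    (h2 : ∀ Y, ¬ I Y j → IH G I Y j) : False := by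
  obtain ⟨B, hB, hBA, -⟩ := d.ex2 j A A
  obtain ⟨b, hb, hbj, -⟩ := d.toPPlane.dual.ex2 B j j
  obtain ⟨Y, hY, hYB, -⟩ := d.ex2 b B B
  obtain ⟨Y', hY', hYB', hYY⟩ := d.ex2 b B Y
  obtain ⟨E, h3, h4⟩ := d.EF_of_IH (h2 Y' fun e => hYB' (d.eqp hbj hY' e hb hB))
    (h2 Y fun e => hYB (d.eqp hbj hY e hb hB)) hYY hY' hY
  exact hBA (d.eqp hbj hb hB (h1 E h4 ▸ h3) hA)

variable [Finite G]

theorem TC_pow {A : P} {j j' : L} (h : EF G I A j) (h' : EF G I A j') (hne : j ≠ j') :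
    ∃ p : ℕ, p.Prime ∧ ∀ a ∈ d.TC A, a ^ p = 1 := by
  have key : ∀ (p : ℕ) (k k' : L) (a b : G), I A k → I A k' → k ≠ k' → a ∈ persp G I A k →
      b ∈ persp G I A k' → b ≠ 1 → b ^ p = 1 → a ^ p = 1 := by
    intro p k k' a b h1 h2 h3 ha hb hb1 hbp
    obtain ⟨k'', h5, h6, h7⟩ := d.exists_third h1 h2 h3 ha hb hb1
    have h8 := Subgroup.pow_mem _ h7 p
    rw [Commute.mul_pow (d.comm_of_ne h1 h2 h3 ha hb), hbp, mul_one] at h8
    exact d.two_ax h6 h8.2 (Subgroup.pow_mem _ ha p).2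
  obtain ⟨h1, a, ha, ha1⟩ := h
  obtain ⟨h2, b, hb, hb1⟩ := h'
  obtain ⟨p, hp, hpa⟩ := Nat.exists_prime_and_dvd (orderOf_eq_one_iff.not.2 ha1)
  have h3 : a ^ (orderOf a / p) ≠ 1 := pow_ne_one_of_lt_orderOf
    (Nat.div_pos (Nat.le_of_dvd (orderOf_pos a) hpa) hp.pos).ne'
    (Nat.div_lt_self (orderOf_pos a) hp.one_lt)
  have h4 : (a ^ (orderOf a / p)) ^ p = 1 := by
    rw [← pow_mul, Nat.div_mul_cancel hpa, pow_orderOf_eq_one]
  have h5 := Subgroup.pow_mem _ ha (orderOf a / p)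
  refine ⟨p, hp, ?_⟩
  rintro c ⟨k, h6, hc⟩
  by_cases e : k = j
  · subst e
    exact key p _ _ _ _ h6 h2 hne hc hb hb1 (key p _ _ _ _ h2 h1 hne.symm hb h5 h3 h4)
  · exact key p _ _ _ _ h6 h1 e hc h5 h3 h4

theorem andre {A : P} {l l' : L} (h : IH G I A l) (h' : IH G I A l') : ∃ τ ∈ d.TC A, τ • l = l' := by
  by_cases e : l = l'
  · exact ⟨1, one_mem _, by rw [e, one_smul]⟩
  obtain ⟨h1, α, h2, h3, h4⟩ := h
  obtain ⟨-, β, h5, h6, h7⟩ := h'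
  obtain ⟨X, h8, h9⟩ := d.meet l l'
  obtain ⟨j, -, hj, h10, -⟩ := d.dual.H1 ((persp_dual I A l).ge h2) ((persp_dual I A l').ge h5) h3 h6
    h4 h7 h1 e h8 h9
  rw [persp_dual] at h10
  obtain ⟨u, hu, h11⟩ := exists_comm_eq (H := persp G I A j) (γ := α) (fun u hu => by
    have := d.conj_persp α hu
    rwa [d.cen_fix h2.1, h2.1 j hj] at this) (fun u hu e' => by
      by_contra hu1
      rcases d.fix_ln hu hu1 (d.fix_ax_of_comm h2 h3 e') with e'' | e''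
      · exact h1 (e'' ▸ hj)
      · exact h1 e'') h10
  refine ⟨u, d.persp_le_TC hj hu, ?_⟩
  have h12 := d.conj_persp u (inv_mem h2)
  rw [show u * α⁻¹ * u⁻¹ = β from mul_left_cancel (a := α) (by rw [← h11]; group)] at h12
  by_contra hc
  exact h6 (d.two_ax hc h12.2 h5.2)

theorem exists_full (hodd : Odd n) {k : L}
    (hk : ∀ A B, I A k → I B k → A ≠ B → (∃ l, IH G I A l ∧ I B l) ∨ ∃ l, IH G I B l ∧ I A l) :
    ∃ A, I A k ∧ ∀ B, I B k → B ≠ A → ∃ l, IH G I A l ∧ I B l := by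
  let R : P → P → Prop := fun A B => ∃ l, IH G I A l ∧ I B l
  obtain ⟨A, hA, hA'⟩ : ∃ A, I A k ∧ n ≤ 2 * #{B ∈ ({x | I x k} : Finset P) | R A B} := by
    by_contra hc
    push Not at hc
    have h1 := dcount R {x | I x k} {x | I x k}
    have h2 : ∑ A ∈ ({x | I x k} : Finset P), 2 * #{B ∈ ({x | I x k} : Finset P) | R A B} <
        ∑ A ∈ ({x | I x k} : Finset P), n :=
      sum_lt_sum_of_nonempty (card_pos.1 (by rw [d.cardL]; omega))
        fun A hA => hc A (mem_filter.1 hA).2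
    rw [← mul_sum, two_mul] at h2
    nth_rewrite 2 [h1] at h2
    rw [← sum_add_distrib] at h2
    refine absurd h2 (not_lt.2 (sum_le_sum fun A hA => ?_))
    rw [← d.card_erase (mem_filter.1 hA).2]
    refine le_trans (card_le_card fun B hB => ?_) (card_union_le _ _)
    have hB' := (mem_filter.1 hB).2
    simp only [mem_union, mem_filter, mem_univ, true_and, hB'.1]
    exact hk A B (mem_filter.1 hA).2 hB'.1 hB'.2.symm
  refine ⟨A, hA, fun B' hB' hBA => ?_⟩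
  by_contra hc
  have h2 := d.two
  obtain ⟨B₀, hB₀⟩ := card_pos.1 (show 0 < #{B ∈ ({x | I x k} : Finset P) | R A B} by omega)
  simp only [mem_filter, mem_univ, true_and] at hB₀
  obtain ⟨hB₀, l₀, hl₀, hl₀'⟩ := hB₀
  have hfix : ∀ τ ∈ d.TC A, τ • A = A ∧ τ • k = k := fun τ ⟨j, _, hτ⟩ =>
    ⟨d.cen_fix hτ.1, hτ.1 k hA⟩
  have hex : ∀ B, ∃ τ ∈ d.TC A, I B k → R A B → τ • B₀ = B := fun B => by
    by_cases h : R A B
    · obtain ⟨l, hl, hl'⟩ := h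
      obtain ⟨τ, hτ, e⟩ := d.andre hl₀ hl
      exact ⟨τ, hτ, fun h1 _ => d.eqp (l := l) (k := k) (fun e => hl.1 (e ▸ hA)) (e ▸ d.inv1 hl₀')
        (d.invl (hfix τ hτ).2 hB₀) hl' h1⟩
    · exact ⟨1, one_mem _, fun _ h' => absurd h' h⟩
  choose τ hτ hτ' using hex
  have h3 : #{B ∈ ({x | I x k} : Finset P) | R A B} ≤
      #{B ∈ ({x | I x k ∧ x ≠ A} : Finset P) | ¬ R A B} := by
    refine card_le_card_of_injOn (fun B => τ B • B') (fun B hB => ?_) (fun B hB C hC e => ?_)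
    · simp only [coe_filter, mem_filter, mem_univ, true_and, Set.mem_ofPred_eq]
      refine ⟨⟨d.invl (hfix _ (hτ B)).2 hB', fun e => hBA ?_⟩, fun ⟨l, hl, hl'⟩ => hc ?_⟩
      · rwa [← (hfix _ (hτ B)).1, smul_left_cancel_iff] at e
      · refine ⟨(τ B)⁻¹ • l, ?_, by simpa using d.inv1 (g := (τ B)⁻¹) hl'⟩
        have := d.IH_smul (τ B)⁻¹ hl
        rwa [(hfix _ (inv_mem (hτ B))).1] at this
    · simp only [coe_filter, mem_filter, mem_univ, true_and, Set.mem_ofPred_eq] at hB hC e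
      obtain ⟨j, hj, hw⟩ := mul_mem (inv_mem (hτ C)) (hτ B)
      have h4 : ((τ C)⁻¹ * τ B) • B₀ = B₀ := by
        by_cases h1 : (τ C)⁻¹ * τ B = 1
        · rw [h1, one_smul]
        have := (d.fix_pt hw h1 (X := B') (by rw [mul_smul, e, inv_smul_smul])).resolve_left hBA
        exact hw.2 _ (d.eql hBA hB' hA this hj ▸ hB₀)
      rw [mul_smul, inv_smul_eq_iff, hτ' B hB.1 hB.2, hτ' C hC.1 hC.2] at h4
      exact h4
  have h4 : #{B ∈ ({x | I x k ∧ x ≠ A} : Finset P) | R A B} =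
      #{B ∈ ({x | I x k} : Finset P) | R A B} := by
    rw [filter_filter, filter_filter]
    exact congrArg _ (filter_congr fun B _ => ⟨fun h => ⟨h.1.1, h.2⟩,
      fun ⟨h, l, hl, hl'⟩ => ⟨⟨h, fun e => hl.1 (e ▸ hl')⟩, l, hl, hl'⟩⟩)
  have h5 := card_filter_add_card_filter_not (s := ({x | I x k ∧ x ≠ A} : Finset P)) (R A)
  rw [d.card_erase hA, h4] at h5
  obtain ⟨m, hm⟩ := hodd
  omega

theorem axis_all (hodd : Odd n) (hnp : ∀ p e : ℕ, p.Prime → n ≠ p ^ e)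
    (hpp : ∀ x y : P, x ≠ y → ∃ C c, ¬ I C c ∧ ∃ g ∈ persp G I C c, g ≠ 1 ∧ g * g = 1 ∧
      g • x = x ∧ g • y = y) (k : L) : ∃ C, IH G I C k := by
  by_contra hk
  push Not at hk
  obtain ⟨A, hA, hall⟩ := d.exists_full hodd (k := k) fun A B hA hB hAB => by
    obtain ⟨C, c, h1, g, h2, h3, h4, h5, h6⟩ := hpp A B hAB
    have hI : IH G I C c := ⟨h1, g, h2, h3, h4⟩
    rcases d.fix_pt h2 h3 h5 with rfl | h7
    · exact Or.inl ⟨c, hI, (d.fix_pt h2 h3 h6).resolve_left hAB.symm⟩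
    rcases d.fix_pt h2 h3 h6 with rfl | h8
    · exact Or.inr ⟨c, hI, h7⟩
    · exact absurd (d.eql hAB h7 h8 hA hB ▸ hI) (hk C)
  have hfix : ∀ τ ∈ d.TC A, τ • A = A ∧ ∀ l, I A l → τ • l = l := fun τ ⟨j, _, hτ⟩ =>
    ⟨d.cen_fix hτ.1, hτ.1⟩
  have htr : ∀ B, I B k → B ≠ A → ∀ B', I B' k → B' ≠ A → ∃ τ ∈ d.TC A, τ • B = B' := by
    intro B h1 h2 B' h3 h4
    obtain ⟨l, hl, hl'⟩ := hall B h1 h2
    obtain ⟨l', hl1, hl1'⟩ := hall B' h3 h4
    obtain ⟨τ, hτ, e⟩ := d.andre hl hl1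
    exact ⟨τ, hτ, d.eqp (l := l') (k := k) (fun e => hl1.1 (e ▸ hA)) (e ▸ d.inv1 hl')
      (d.invl ((hfix τ hτ).2 k hA) h1) hl1' h3⟩
  obtain ⟨B₁, hB₁, hB₁A, -⟩ := d.ex2 k A A
  have hnp' : ∀ p : ℕ, p.Prime → ¬ ∀ a ∈ d.TC A, a ^ p = 1 := fun p hp h => by
    obtain ⟨e, he⟩ := card_pow_of_trans hp (H3.isPGroup_of_pow_eq_one h)
      (s := {x | I x k ∧ x ≠ A}) (fun g hg x hx => by
        simp only [mem_filter, mem_univ, true_and] at hx ⊢
        refine ⟨d.invl ((hfix g hg).2 k hA) hx.1, fun e => hx.2 ?_⟩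
        rwa [← (hfix g hg).1, smul_left_cancel_iff] at e)
      (fun x hx y hy => htr x (mem_filter.1 hx).2.1 (mem_filter.1 hx).2.2 y (mem_filter.1 hy).2.1
        (mem_filter.1 hy).2.2) (x := B₁) (by simp [hB₁, hB₁A])
    exact hnp p e hp ((d.card_erase hA).symm.trans he)
  obtain ⟨B₂, hB₂, hB₂A, hB₂₁⟩ := d.ex2 k A B₁
  obtain ⟨τ₀, ⟨j, hj, hτ₀⟩, e₀⟩ := htr B₁ hB₁ hB₁A B₂ hB₂ hB₂A
  have hEF : EF G I A j := ⟨hj, τ₀, hτ₀, fun e => hB₂₁ (by rw [← e₀, e, one_smul])⟩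
  have hjk : j ≠ k := fun e => hB₂₁ (by rw [← e₀, hτ₀.2 _ (e ▸ hB₁)])
  have hu1 : ∀ j', EF G I A j' → j' = j := fun j' h => by
    by_contra e
    obtain ⟨p, hp, h1⟩ := d.TC_pow h hEF e
    exact hnp' p hp h1
  have hT : ∀ τ ∈ d.TC A, τ ∈ persp G I A j := fun τ ⟨j', h1, h2⟩ => by
    by_cases e : τ = 1
    · rw [e]; exact one_mem _
    · exact hu1 j' ⟨h1, τ, h2, e⟩ ▸ h2
  have hu2 : ∀ E, EF G I E j → E = A := fun E h => by
    by_contra e
    obtain ⟨p, hp, h1⟩ := d.dual.TC_pow (EF_dual.2 h) (EF_dual.2 hEF) e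
    exact hnp' p hp fun a ha => h1 a ⟨A, hj, (persp_dual I A j).ge (hT a ha)⟩
  obtain ⟨a₀, ha₀, -⟩ := hall B₁ hB₁ hB₁A
  obtain ⟨D, hD, hD'⟩ := d.meet a₀ j
  refine d.endgame hj hu2 fun Y hY => ?_
  obtain ⟨B, hB, hBA, hBD⟩ := d.ex2 j A D
  obtain ⟨C, c, h1, η, h2, h3, h4, h5, h6⟩ := hpp Y B fun e => hY (e ▸ hB)
  have hAD : A ≠ D := fun e => ha₀.1 (e ▸ hD)
  by_cases hη : η • A = A
  · have h7 : η • j = j := d.fixl hBA h6 hη hB hj
    have h8 := d.IH_smul η ha₀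
    rw [hη] at h8
    obtain ⟨τ, hτ, e⟩ := d.andre ha₀ h8
    have h9 : η • D = D := d.eqp (l := η • a₀) (k := j) (fun e => h8.1 (e ▸ hj)) (d.inv1 hD)
      (d.invl h7 hD') (e ▸ d.invp ((hT τ hτ).2 D hD') hD) hD'
    have h10 : c = j := by
      rcases d.fix_pt h2 h3 hη with e1 | e1
      · exact d.eql hBD ((d.fix_pt h2 h3 h6).resolve_left (e1 ▸ hBA))
          ((d.fix_pt h2 h3 h9).resolve_left (e1 ▸ hAD.symm)) hB hD'
      rcases d.fix_pt h2 h3 h6 with e2 | e2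
      · exact d.eql hAD e1 ((d.fix_pt h2 h3 h9).resolve_left (e2 ▸ hBD.symm)) hj hD'
      · exact d.eql hBA e2 e1 hB hj
    subst h10
    rw [(d.fix_pt h2 h3 h5).resolve_right hY]
    exact ⟨h1, η, h2, h3, h4⟩
  exfalso
  have h7 := d.EF_smul η hEF
  have h8 : η • j ≠ j := fun e => hη (hu2 _ (e ▸ h7))
  have h9 : ¬ I (η • A) j := fun e =>
    hBA ((smul_left_cancel_iff η).1 (h6.trans (d.eqp h8 (d.invp h6 hB) hB h7.1 e)))
  obtain ⟨k₁, hk₁, hk₁'⟩ := d.join A (η • A)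
  obtain ⟨h10, α, hα, hα1, -⟩ := ha₀
  have h11 : ¬ I (α • η • A) j := by rwa [← hα.1 j hj, d.inv]
  obtain ⟨τ, hτ, e⟩ : ∃ τ ∈ persp G I A j, τ • η • A = α • η • A := by
    have hw : ∀ X, ¬ I X j → ∃ b W, I B b ∧ I X b ∧ I W b ∧ I W k ∧ W ≠ A ∧ ¬ I A b ∧ W ≠ B := by
      intro X hX
      obtain ⟨b, e1, e2⟩ := d.join B X
      obtain ⟨W, e3, e4⟩ := d.meet b k
      have e5 : ¬ I A b := fun e => hX (d.eql hBA e1 e hB hj ▸ e2)
      exact ⟨b, W, e1, e2, e3, e4, fun e => e5 (e ▸ e3), e5,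
        fun e => hBA (d.eqp hjk hB (e ▸ e4) hj hA)⟩
    obtain ⟨b, W, e1, e2, e3, e4, e5, -, -⟩ := hw _ h9
    obtain ⟨b', W', f1, f2, f3, f4, f5, f6, f7⟩ := hw _ h11
    obtain ⟨τ, hτ, e⟩ := htr W e4 e5 W' f4 f5
    have hτ' := hT τ hτ
    have g1 : τ • b = b' := d.eql f7 (e ▸ d.inv1 e3) (d.invp (hτ'.2 B hB) e1) f3 f1
    exact ⟨τ, hτ', d.eqp (l := b') (k := k₁) (fun e => f6 (e ▸ hk₁)) (g1 ▸ d.inv1 e2)
      (d.invl (hτ'.1 _ hk₁) hk₁') f2 (d.invl (hα.1 _ hk₁) hk₁')⟩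
  have h12 := d.EF_smul (η⁻¹ * τ⁻¹ * α) h7
  rw [mul_smul, mul_smul, ← e, inv_smul_smul, inv_smul_smul] at h12
  have h13 := hu1 _ h12
  rw [mul_smul, mul_smul, inv_smul_eq_iff, inv_smul_eq_iff] at h13
  have h14 : α • B = B := d.eqp (l := α • η • j) (k := j)
    (fun e => h8 ((smul_left_cancel_iff α).1 (e.trans (hα.1 j hj).symm)))
    (d.inv1 (d.invp h6 hB)) (d.invl (hα.1 j hj) hB) (h13 ▸ d.invp (hτ.2 B hB) (d.invp h6 hB)) hB
  exact hBD (d.eqp (l := a₀) (k := j) (fun e => h10 (e ▸ hj))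
    ((d.fix_pt hα hα1 h14).resolve_left hBA) hB hD hD')

theorem TC_decomp {A C : P} {j k : L} (h : IH G I C k) (hk : I A k) (hj : I A j) (hC : I C j)
    {τ : G} (hτ : τ ∈ d.TC A) : ∃ u ∈ persp G I A k, u⁻¹ * τ ∈ persp G I A j := by
  obtain ⟨h1, γ, h2, h3, -⟩ := h
  have hAC : C ≠ A := fun e => h1 (e ▸ hk)
  obtain ⟨j', hj', hτ'⟩ := id hτ
  have h4 := d.conj_persp γ hτ'
  rw [h2.2 A hk] at h4
  obtain ⟨u, hu, h5⟩ := exists_comm_eq (H := persp G I A k) (γ := γ) (fun u hu => by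
    have := d.conj_persp γ hu
    rwa [h2.2 A hk, d.ax_fix h2.2] at this) (fun u hu e' => by
      by_contra hu1
      exact (d.fix_pt hu hu1 (d.fix_cen_of_comm h2 h3 e')).elim hAC h1)
    (h := γ * τ * γ⁻¹ * τ⁻¹) ⟨fun l hl => by rw [mul_smul, (inv_mem hτ').1 l hl, h4.1 l hl],
      fun x hx => by
        rw [mul_smul, mul_smul, (inv_mem h2).2 _ (d.invl ((inv_mem hτ').1 k hk) hx), mul_smul,
          smul_inv_smul, h2.2 x hx]⟩
  refine ⟨u, hu, ?_⟩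
  obtain ⟨j'', h6, h7⟩ := mul_mem (inv_mem (d.persp_le_TC hk hu)) hτ
  by_cases e : u⁻¹ * τ = 1
  · rw [e]; exact one_mem _
  have h8 := d.fix_cen_of_comm h2 h3 (u := u⁻¹ * τ) (by
    calc γ * (u⁻¹ * τ) = γ * u⁻¹ * γ⁻¹ * (γ * τ * γ⁻¹ * τ⁻¹) * τ * γ := by group
      _ = _ := by rw [← h5]; group)
  exact d.eql hAC ((d.fix_pt h7 e h8).resolve_left hAC) h6 hC hj ▸ h7

theorem single_ax (hnp : ∀ p e : ℕ, p.Prime → n ≠ p ^ e) (hax : ∀ k, ∃ C, IH G I C k) {A : P}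
    {j j' : L} (h : EF G I A j) (h' : EF G I A j') : j = j' := by
  by_contra hne
  have := Fintype.ofFinite G
  let e : L → ℕ := fun k => #{g : G | g ∈ persp G I A k}
  let t := #{g : G | g ∈ d.TC A}
  have h1 : ∀ k k', I A k → I A k' → k ≠ k' → e k * e k' ≤ t := fun k k' hk hk' hkk => by
    rw [← card_product]
    refine card_le_card_of_injOn (fun x => x.1 * x.2) (fun x hx => ?_) (fun x hx y hy e => ?_)
    · simp only [coe_product, coe_filter, mem_univ, true_and, Set.mem_prod,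
        Set.mem_ofPred_eq] at hx ⊢
      exact mul_mem (d.persp_le_TC hk hx.1) (d.persp_le_TC hk' hx.2)
    · simp only [coe_product, coe_filter, mem_univ, true_and, Set.mem_prod,
        Set.mem_ofPred_eq] at hx hy e
      have e1 : y.1⁻¹ * x.1 = y.2 * x.2⁻¹ := by
        rw [inv_mul_eq_iff_eq_mul, ← mul_assoc, ← e, mul_inv_cancel_right]
      have e2 := d.two_ax hkk (mul_mem (inv_mem hy.1) hx.1).2 (e1 ▸ (mul_mem hy.2 (inv_mem hx.2)).2)
      exact Prod.ext (inv_mul_eq_one.1 e2).symm (mul_inv_eq_one.1 (e1 ▸ e2)).symm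
  have h2 : ∀ k, I A k → ∃ k', I A k' ∧ k ≠ k' ∧ t ≤ e k * e k' := fun k hk => by
    obtain ⟨C, hC⟩ := hax k
    obtain ⟨k', h3, h4⟩ := d.join A C
    refine ⟨k', h3, fun e => hC.1 (e ▸ h4), ?_⟩
    rw [← card_product]
    refine card_le_card_of_surjOn (fun x => x.1 * x.2) fun τ hτ => ?_
    obtain ⟨u, hu, hu'⟩ := d.TC_decomp hC hk h3 h4 (mem_filter.1 (mem_coe.1 hτ)).2
    exact ⟨(u, u⁻¹ * τ), by simp [hu, hu'], mul_inv_cancel_left u τ⟩
  have h3 : ∀ k, 1 ≤ e k := fun k => card_pos.2 ⟨1, by simp⟩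
  have h4 : ∀ k, EF G I A k → 2 ≤ e k := fun k ⟨_, g, hg, hg1⟩ =>
    one_lt_card.2 ⟨g, by simpa using hg, 1, by simp, hg1⟩
  have h5 : ∀ k, I A k → 2 ≤ e k := fun k hk => by
    obtain ⟨k', h6, -, h7⟩ := h2 k hk
    obtain ⟨j₀, h8, h9⟩ : ∃ j₀, EF G I A j₀ ∧ j₀ ≠ k' := by
      by_cases e : j = k'
      · exact ⟨j', h', e ▸ Ne.symm hne⟩
      · exact ⟨j, h, e⟩
    exact (h4 j₀ h8).trans (Nat.le_of_mul_le_mul_right ((h1 _ _ h8.1 h6 h9).trans h7) (h3 k'))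
  obtain ⟨k₁, hk₁, hmax⟩ := exists_max_image ({l | I A l} : Finset L) e ⟨j, by simpa using h.1⟩
  simp only [mem_filter, mem_univ, true_and] at hk₁ hmax
  obtain ⟨j₁, hj₁, hkj, h6⟩ := h2 k₁ hk₁
  have h7 : t = e k₁ * e j₁ := le_antisymm h6 (h1 _ _ hk₁ hj₁ hkj)
  have h8 : ∀ k, I A k → k ≠ k₁ → e k = e j₁ := fun k hk hk' => by
    refine le_antisymm (Nat.le_of_mul_le_mul_left ((h1 _ _ hk₁ hk hk'.symm).trans h6) (h3 k₁)) ?_
    obtain ⟨k', h9, -, h10⟩ := h2 k hk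
    refine Nat.le_of_mul_le_mul_left ?_ (h3 k₁)
    rw [← h7, mul_comm]
    exact h10.trans (Nat.mul_le_mul_left _ (hmax k' h9))
  have h9 := dcount (fun g k => g ∈ persp G I A k) (({g : G | g ∈ d.TC A} : Finset G).erase 1)
    {l | I A l}
  have hm : k₁ ∈ ({l | I A l} : Finset L) := by simpa using hk₁
  have h10 : ∀ k, I A k →
      #{g ∈ ({g : G | g ∈ d.TC A} : Finset G).erase 1 | g ∈ persp G I A k} = e k - 1 := by
    intro k hk
    rw [← card_erase_of_mem (a := 1) (by simp)]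
    congr 1
    ext g
    simp only [mem_filter, mem_erase, mem_univ, true_and]
    exact ⟨fun h => ⟨h.1.1, h.2⟩, fun h => ⟨⟨h.1, d.persp_le_TC hk h.2⟩, h.2⟩⟩
  rw [sum_congr rfl (g := fun _ => 1) fun g hg => by
      obtain ⟨g1, hg'⟩ := mem_erase.1 hg
      obtain ⟨k, hk, hk'⟩ := (mem_filter.1 hg').2
      refine card_eq_one.2 ⟨k, eq_singleton_iff_unique_mem.2 ⟨by simp [hk, hk'], fun k' h => ?_⟩⟩
      by_contra e
      exact g1 (d.two_ax e (mem_filter.1 h).2.2 hk'.2),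
    sum_const, card_erase_of_mem (by simp), ← add_sum_erase _ _ hm, h10 k₁ hk₁,
    sum_congr rfl (g := fun _ => e j₁ - 1) fun k hk => by
      have := (mem_filter.1 (mem_of_mem_erase hk)).2
      rw [h10 k this, h8 k this (ne_of_mem_erase hk)],
    sum_const, card_erase_of_mem hm, d.cardP, smul_eq_mul, smul_eq_mul, mul_one] at h9
  have h11 : e k₁ = n := by
    obtain ⟨s, hs⟩ := Nat.exists_eq_add_of_le (h5 j₁ hj₁)
    obtain ⟨m, hm⟩ := Nat.exists_eq_add_of_le (h3 k₁)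
    change t - 1 = _ at h9
    rw [h7, hs, hm, show (1 + m) * (2 + s) - 1 = m + (1 + m) * (s + 1) by
      rw [show (1 + m) * (2 + s) = m + (1 + m) * (s + 1) + 1 by ring]; rfl,
      show 2 + s - 1 = s + 1 by omega, Nat.add_sub_cancel_left, Nat.add_sub_cancel] at h9
    rw [hm]
    exact Nat.eq_of_mul_eq_mul_right (Nat.succ_pos s) (Nat.add_left_cancel h9)
  obtain ⟨p, hp, h12⟩ := d.TC_pow h h' hne
  have := Fact.mk hp
  obtain ⟨m, hm⟩ := (H3.isPGroup_of_pow_eq_one (N := persp G I A k₁)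
    fun a ha => h12 a (d.persp_le_TC hk₁ ha)).exists_card_eq
  refine hnp p m hp ?_
  rw [← hm, ← h11, Nat.card_eq_fintype_card, Fintype.card_subtype]

theorem cen_on (hnp : ∀ p e : ℕ, p.Prime → n ≠ p ^ e) (hax : ∀ k, ∃ C, IH G I C k) {A C : P}
    {j k : L} (h : EF G I A j) (hk : I A k) (hkj : k ≠ j) (hC : IH G I C k) : I C j := by
  obtain ⟨k', h3, h4⟩ := d.join A C
  obtain ⟨h1, τ, hτ, hτ1⟩ := id h
  obtain ⟨u, hu, hu'⟩ := d.TC_decomp hC hk h3 h4 (d.persp_le_TC h1 hτ)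
  by_cases e : u = 1
  · rw [e, inv_one, one_mul] at hu'
    exact d.single_ax hnp hax ⟨h3, τ, hu', hτ1⟩ h ▸ h4
  · exact absurd (d.single_ax hnp hax ⟨hk, u, hu, e⟩ h) hkj

omit [Finite G] in
theorem exists_EF (hax : ∀ k, ∃ C, IH G I C k) (hcen : ∀ A, ∃ a, IH G I A a) :
    ∃ A j, EF G I A j := by
  by_contra hc
  push Not at hc
  choose ρ hρ using hcen
  have hinj : ∀ x y, ρ x = ρ y → x = y := fun x y e => by
    by_contra hne
    obtain ⟨k, h1, h2⟩ := d.join x y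
    obtain ⟨E, -, hE⟩ := d.EF_of_IH (hρ x) (e ▸ hρ y) hne h1 h2
    exact hc _ _ hE
  have hun : ∀ x a, IH G I x a → a = ρ x := fun x a h => by
    by_contra hne
    obtain ⟨k, h1, h2⟩ := d.meet a (ρ x)
    obtain ⟨E, -, hE⟩ := d.dual.EF_of_IH (IH_dual.2 h) (IH_dual.2 (hρ x)) hne h1 h2
    exact hc _ _ (EF_dual.1 hE)
  have hsym : ∀ x y, I y (ρ x) → I x (ρ y) := fun x y h => by
    obtain ⟨h1, g, h2, h3, -⟩ := hρ x
    have h4 := d.IH_smul g (hρ y)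
    rw [h2.2 y h] at h4
    exact (d.fix_ln h2 h3 (hun _ _ h4)).resolve_left fun e => (hρ y).1 (e ▸ h)
  obtain ⟨p, hp, hpn⟩ := Nat.exists_prime_and_dvd (show n ≠ 1 by have := d.two; omega)
  have := Fact.mk hp
  have hn : (n : ZMod p) = 0 := (ZMod.natCast_eq_zero_iff _ _).2 hpn
  let M : Matrix P P (ZMod p) := fun x y => if I y (ρ x) then 1 else 0
  let J : Matrix P P (ZMod p) := fun _ _ => 1
  have h1 : M * J = J := by
    ext x y
    rw [Matrix.mul_apply]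
    simp only [M, J, mul_one, sum_boole, d.cardL]
    push_cast
    rw [hn, zero_add]
  have h2 : M * M = J := by
    ext x y
    have : ∀ z, M x z * M z y = if I z (ρ x) ∧ I z (ρ y) then 1 else 0 := fun z => by
      simp only [M, (⟨hsym _ _, hsym _ _⟩ : I y (ρ z) ↔ I z (ρ y)), ite_zero_mul_ite_zero, mul_one]
    simp only [Matrix.mul_apply, this, sum_boole, J]
    by_cases e : x = y
    · rw [e, filter_congr (q := fun z => I z (ρ y)) fun _ _ => and_self_iff, d.cardL]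
      push_cast
      rw [hn, zero_add]
    · rw [d.card_meet fun e' => e (hinj _ _ e'), Nat.cast_one]
  have h3 : ∀ k, M ^ (k + 2) = J := fun k => by
    induction k with
    | zero => rw [zero_add, sq, h2]
    | succ k ih => rw [add_right_comm, pow_succ', ih, h1]
  have h4 := ZMod.trace_pow_card M
  obtain ⟨k, hk⟩ := Nat.exists_eq_add_of_le' hp.two_le
  have h5 : M.trace = 0 := sum_eq_zero fun x _ => if_neg (hρ x).1
  have h6 : J.trace = 1 := by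
    simp only [Matrix.trace, Matrix.diag, J, sum_const, card_univ, d.card_pts, nsmul_eq_mul]
    push_cast
    rw [hn]; ring
  rw [h5, zero_pow hp.ne_zero, show M ^ p = J from hk ▸ h3 k, h6] at h4
  exact one_ne_zero h4

theorem all_false (hnp : ∀ p e : ℕ, p.Prime → n ≠ p ^ e) (hax : ∀ k, ∃ C, IH G I C k)
    (hcen : ∀ A, ∃ a, IH G I A a) : False := by
  obtain ⟨A, j, h⟩ := d.exists_EF hax hcen
  have hcen' : ∀ A, ∃ a, IH G (fun l x => I x l) a A := fun A => (hcen A).imp fun _ => IH_dual.2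
  have hu : ∀ {E E' : P} {j : L}, EF G I E j → EF G I E' j → E = E' := fun h h' =>
    d.dual.single_ax hnp hcen' (EF_dual.2 h) (EF_dual.2 h')
  have hoff : ∀ {A A' : P} {j j' : L}, EF G I A j → EF G I A' j' → A ≠ A' → ¬ I A' j := by
    intro A A' j j' h h' hne hA'
    have hjj : j ≠ j' := fun e => hne (hu h (e ▸ h'))
    obtain ⟨C, hC⟩ := hax j
    obtain ⟨h1, τ, hτ, hτ1⟩ := id h
    have h2 := d.IH_smul τ hC
    rw [hτ.1 j h1] at h2
    obtain ⟨k, h3, h4⟩ := d.join A C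
    have h5 : k = j' := d.eql (x := τ • C) (y := C)
      (fun e => (d.fix_pt hτ hτ1 e).elim (fun e => hC.1 (e ▸ h1)) hC.1) (d.invl (hτ.1 k h3) h4) h4
      (d.cen_on hnp hax h' hA' hjj h2) (d.cen_on hnp hax h' hA' hjj hC)
    exact hne (d.eqp hjj h1 (h5 ▸ h3) hA' h'.1)
  obtain ⟨a, ha, α, hα, hα1, -⟩ := hcen A
  obtain ⟨D, hD, hD'⟩ := d.meet a j
  have haj : a ≠ j := fun e => ha (e ▸ h.1)
  have hkey : ∀ {A' : P} {j' : L}, EF G I A' j' → A ≠ A' → I D j' := by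
    intro A' j' h' hne
    obtain ⟨k, h1, h2⟩ := d.join A A'
    obtain ⟨C, hC⟩ := hax k
    have h3 : k ≠ j := fun e => hoff h h' hne (e ▸ h2)
    have h4 : k ≠ j' := fun e => hoff h' h hne.symm (e ▸ h1)
    have h5 := d.IH_smul α hC
    rw [hα.1 k h1] at h5
    have h6 := d.eqp (l := j) (k := j') (fun e => hne (hu h (e ▸ h'))) (d.cen_on hnp hax h h1 h3 h5)
      (d.cen_on hnp hax h' h2 h4 h5) (d.cen_on hnp hax h h1 h3 hC) (d.cen_on hnp hax h' h2 h4 hC)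
    exact d.eqp haj ((d.fix_pt hα hα1 h6).resolve_left fun e => hC.1 (e ▸ h1))
      (d.cen_on hnp hax h h1 h3 hC) hD hD' ▸ d.cen_on hnp hax h' h2 h4 hC
  have huniq : ∀ {A' : P} {j' : L}, EF G I A' j' → A = A' := by
    intro A' j' h'
    by_contra hne
    obtain ⟨B, hB, hBA, hBD⟩ := d.ex2 j A D
    obtain ⟨b, hb⟩ := hcen B
    have h1 : I A b := d.dual.cen_on hnp hcen' (EF_dual.2 h) hB hBA (IH_dual.2 hb)
    obtain ⟨h2, β, hβ, hβ1, -⟩ := hb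
    have h3 := d.EF_smul β h'
    have h4 : A ≠ β • A' := fun e => hne ((smul_left_cancel_iff β).1 ((hβ.2 A h1).trans e))
    have h5 := d.eqp (l := j) (k := β • j') (fun e => h4 (hu h (e ▸ h3))) (d.invl (hβ.1 j hB) hD')
      (d.inv1 (hkey h' hne)) hD' (hkey h3 h4)
    exact ha (d.eqp (l := b) (k := j) (fun e => h2 (e ▸ hB))
      ((d.fix_pt hβ hβ1 h5).resolve_left hBD.symm) hD' h1 h.1 ▸ hD)
  refine d.endgame h.1 (fun E hE => hu hE h) fun Y hY => ?_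
  obtain ⟨y, h1, η, h2, h3, h4⟩ := hcen Y
  have h5 := d.EF_smul η h
  rw [← huniq h5] at h5
  rw [(d.fix_ln h2 h3 (d.single_ax hnp hax h5 h)).resolve_right hY]
  exact ⟨h1, η, h2, h3, h4⟩

theorem wagner (hodd : Odd n)
    (hpp : ∀ x y : P, x ≠ y → ∃ C c, ¬ I C c ∧ ∃ g ∈ persp G I C c, g ≠ 1 ∧ g * g = 1 ∧
      g • x = x ∧ g • y = y)
    (hll : ∀ x y : L, x ≠ y → ∃ C c, ¬ I C c ∧ ∃ g ∈ persp G I C c, g ≠ 1 ∧ g * g = 1 ∧
      g • x = x ∧ g • y = y) : ∃ p e : ℕ, p.Prime ∧ n = p ^ e := by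
  by_contra hnp
  push Not at hnp
  refine d.all_false hnp (d.axis_all hodd hnp hpp) fun A => ?_
  refine (d.dual.axis_all hodd hnp (fun x y hxy => ?_) A).imp fun _ => IH_dual.1
  obtain ⟨C, c, h1, g, h2, h3⟩ := hll x y hxy
  exact ⟨c, C, h1, g, (persp_dual I C c).ge h2, h3⟩

end CP

end Cfsg.Agent.H56
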