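import Mathlib
import Cfsg.Agent.H56.Wagner
import Cfsg.Agent.H56.ONanPSL
import Cfsg.Agent.H11.PermChar

/-!
The Ostrom-Wagner theorem.
-/

set_option autoImplicit false

namespace Cfsg.Agent.H56

open Subgroup H85 MulAction Finset
open scoped Classical

universe u v

theorem exists_central_prime {G : Type*} [Group G] [Finite G] {p : ℕ} (hp : p.Prime)
    {R : Subgroup G} (hR : IsPGroup p R) (h0 : R ≠ ⊥) :
    ∃ z ∈ R, z ≠ 1 ∧ z ^ p = 1 ∧ ∀ s ∈ R, z * s = s * z := by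
  have := Fact.mk hp
  obtain ⟨⟨a, ha⟩, ha1⟩ := ne_bot_iff_exists_ne_one.1 (inf_centralizer_ne_bot hR h0)
  obtain ⟨z, h1, -, h2, h3⟩ := exists_pow_mem_lt hp (T := ⊥) (hR.to_le (H := zpowers a)
    (zpowers_le.2 ha.1)) (bot_lt_iff_ne_bot.2 (zpowers_ne_bot.2 fun e => ha1 (Subtype.ext e)))
  have h4 := zpowers_le.2 ha h1
  exact ⟨z, h4.1, h2, h3, fun s hs => (h4.2 s hs).symm⟩

theorem fix_conj_iff {G X : Type*} [Group G] [MulAction G X] {T : Subgroup G} {t : G}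
    (ht : t ∈ normalizer (T : Set G)) (x : X) :
    (∀ u ∈ T, u • t • x = t • x) ↔ ∀ u ∈ T, u • x = x := by
  refine ⟨fun h u hu => ?_, fun h u hu => ?_⟩
  · have := h _ ((mem_normalizer_iff.1 ht u).1 hu)
    rwa [mul_smul, inv_smul_smul, mul_smul, smul_left_cancel_iff] at this
  · have := h _ ((mem_normalizer_iff.1 (inv_mem ht) u).1 hu)
    rwa [inv_inv, mul_smul, mul_smul, inv_smul_eq_iff] at this

theorem fix_sup_iff {G X : Type*} [Group G] [MulAction G X] {T : Subgroup G} {t : G} (x : X) :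
    (∀ u ∈ T ⊔ zpowers t, u • x = x) ↔ (∀ u ∈ T, u • x = x) ∧ t • x = x :=
  ⟨fun h => ⟨fun u hu => h u (mem_sup_left hu), h t (mem_sup_right (mem_zpowers t))⟩,
    fun h => sup_le (c := stabilizer G x) h.1 (zpowers_le.2 h.2)⟩

theorem card_filter_sub {α : Type*} [Fintype α] {p : α → Prop} [Fintype {x // p x}]
    {q : {x // p x} → Prop} {r : α → Prop} {_ : DecidablePred q} {_ : DecidablePred r}
    (h : ∀ x, r x ↔ ∃ hx, q ⟨x, hx⟩) : #{x | q x} = #{x | r x} :=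
  card_bij (fun x _ => x.1) (fun x hx => by simpa using (h x).2 ⟨x.2, (mem_filter.1 hx).2⟩)
    (fun _ _ _ _ e => Subtype.ext e) fun y hy => by
      obtain ⟨h1, h2⟩ := (h y).1 (mem_filter.1 hy).2
      exact ⟨⟨y, h1⟩, by simpa using h2, rfl⟩

theorem PPlane.exists_col {P : Type u} {L : Type v} [Fintype P] [Fintype L] {I : P → L → Prop}
    {n : ℕ} (d : PPlane I n) : ∃ (Γ : Type (max u v)) (_ : Group Γ) (_ : Finite Γ)
      (_ : MulAction Γ P) (_ : MulAction Γ L), CP Γ I n ∧ ∀ (σ : Equiv.Perm P) (τ : Equiv.Perm L),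
      (∀ x l, I (σ x) (τ l) ↔ I x l) → ∃ g : Γ, (∀ x, g • x = σ x) ∧ ∀ l, g • l = τ l := by
  let Γ : Subgroup (Equiv.Perm P × Equiv.Perm L) :=
    { carrier := {g | ∀ x l, I (g.1 x) (g.2 l) ↔ I x l}
      one_mem' := fun _ _ => Iff.rfl
      mul_mem' := fun {g h} hg hh x l => (hg _ _).trans (hh x l)
      inv_mem' := fun {g} hg x l => by
        rw [← hg]; simp }
  let : MulAction Γ P := MulAction.compHom P ((MonoidHom.fst _ _).comp Γ.subtype)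
  let : MulAction Γ L := MulAction.compHom L ((MonoidHom.snd _ _).comp Γ.subtype)
  refine ⟨Γ, inferInstance, inferInstance, inferInstance, inferInstance,
    ⟨d, fun g => g.2, fun g hg => ?_⟩, fun σ τ h => ⟨⟨(σ, τ), h⟩, fun _ => rfl, fun _ => rfl⟩⟩
  refine Subtype.ext (Prod.ext (Equiv.ext hg) (Equiv.ext fun l => ?_))
  exact (d.symD.eq_of_sub fun a ha => (show g.1.1 a = a from hg a) ▸ (g.2 a l).2 ha).symm

variable {P L : Type*} [Fintype P] [Fintype L] {G : Type*} [Group G] [MulAction G P] [MulAction G L]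

namespace CP
variable {I : P → L → Prop} {n : ℕ} (d : CP G I n)
include d

theorem two_fix {t : G} (ht : t * t = 1) : ∃ x y : P, x ≠ y ∧ t • x = x ∧ t • y = y := by
  by_contra hc
  push Not at hc
  have h1 : #{x : P | t • x = x} ≤ 1 := card_le_one.2 fun x hx y hy => by
    by_contra e
    exact hc x y e (mem_filter.1 hx).2 (mem_filter.1 hy).2
  have h2 := d.two
  have key : ∀ k, ∃ k', k' ≠ k ∧ t • k' = k' := fun k => by
    obtain ⟨Z, hZ, hZ'⟩ := exists_mem_notMem_of_card_lt_card (s := {x : P | t • x = x})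
      (t := {x | ¬ I x k}) (by rw [d.card_off]; nlinarith)
    simp only [mem_filter, mem_univ, true_and] at hZ hZ'
    obtain ⟨k', h3, h4⟩ := d.join Z (t • Z)
    exact ⟨k', fun e => hZ (e ▸ h3), d.eql (Ne.symm hZ')
      (by simpa [← mul_smul, ht] using d.inv1 (g := t) h4) (d.inv1 h3) h3 h4⟩
  obtain ⟨k, -, hk⟩ := key d.dual.neP.some
  obtain ⟨k', h3, hk'⟩ := key k
  rw [d.card_fix] at h1
  exact h3 (card_le_one.1 h1 _ (by simpa using hk') _ (by simpa using hk))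

theorem inv_cases {t : G} (ht : t * t = 1) : t = 1 ∨ (t ≠ 1 ∧ ∃ C c, t ∈ persp G I C c) ∨
    ∃ r, r * r = n ∧ (∃ x : P, t • x = x) ∧ (∀ l, t • l = l → #{x | I x l ∧ t • x = x} = r + 1) ∧
      ∀ x, t • x = x → #{l | I x l ∧ t • l = l} = r + 1 := by
  by_cases h1 : t = 1
  · exact Or.inl h1
  by_cases h2 : ∀ a, ∃ x, I x a ∧ t • x ≠ x
  · obtain ⟨x, -, -, hx, -⟩ := d.two_fix ht
    obtain ⟨r, h3, h4⟩ := d.baer ht h2 hx
    exact Or.inr (Or.inr ⟨r, h3, ⟨x, hx⟩, h4⟩)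
  push Not at h2
  obtain ⟨a, ha⟩ := h2
  obtain ⟨C, hC⟩ := d.exists_cen ha
  exact Or.inr (Or.inl ⟨h1, C, a, hC⟩)

variable [Finite G]
  (h2 : ∀ x y x' y' : P, x ≠ y → x' ≠ y' → ∃ g : G, g • x = x' ∧ g • y = y')
include h2

omit [Finite G] in
theorem flag {x x' : P} {l l' : L} (h : I x l) (h' : I x' l') : ∃ g : G, g • x = x' ∧ g • l = l' := by
  obtain ⟨y, hy, hyx, -⟩ := d.ex2 l x x
  obtain ⟨y', hy', hyx', -⟩ := d.ex2 l' x' x'
  obtain ⟨g, h3, h4⟩ := h2 x y x' y' hyx.symm hyx'.symm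
  exact ⟨g, h3, d.eql hyx' (h4 ▸ d.inv1 hy) (h3 ▸ d.inv1 h) hy' h'⟩

theorem two_lines : (∀ x y x' y' : L, x ≠ y → x' ≠ y' → ∃ g : G, g • x = x' ∧ g • y = y') ∧
    ∀ x x' l l', ¬ I x l → ¬ I x' l' → ∃ g : G, g • x = x' ∧ g • l = l' := by
  have := Fintype.ofFinite G
  have h3 := d.two
  have : Nontrivial P := Fintype.one_lt_card_iff_nontrivial.1 (by rw [d.card_pts]; omega)
  have : Nontrivial L := Fintype.one_lt_card_iff_nontrivial.1 (by rw [d.dual.card_pts]; omega)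
  have : IsPretransitive G P := ⟨fun x y => by
    obtain ⟨l, h, h'⟩ := d.join x y
    exact (d.flag h2 h h').imp fun _ h => h.1⟩
  have : IsPretransitive G L := ⟨fun x y => by
    obtain ⟨l, h, h'⟩ := d.meet x y
    exact (d.flag h2 h h').imp fun _ h => h.2⟩
  have h4 : H11.permChar G P = H11.permChar G L := funext fun g => by
    rw [H11.permChar_apply, H11.permChar_apply, Nat.card_eq_fintype_card, Nat.card_eq_fintype_card,
      Fintype.card_subtype, Fintype.card_subtype]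
    exact congrArg _ (d.card_fix g)
  have h5 : IsMultiplyPretransitive G P 2 := is_two_pretransitive_iff.2 fun h h' => h2 _ _ _ _ h h'
  have h6 := (H11.isIrrCharacter_permChar_sub_one_iff (G := G) L).1
    (h4 ▸ (H11.isIrrCharacter_permChar_sub_one_iff (G := G) P).2 h5)
  refine ⟨fun _ _ _ _ h h' => is_two_pretransitive_iff.1 h6 h h', fun x x' l l' h h' => ?_⟩
  have h7 := H11.classInner_permChar_permChar (G := G) P L
  rw [← h4, H11.classInner_permChar_permChar, (H11.card_orbits_prod_eq_two_iff P).2 h5] at h7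
  obtain ⟨a, b, -, h8⟩ := Nat.card_eq_two_iff.1 (Nat.cast_injective h7).symm
  obtain ⟨k, hk, -⟩ := d.join x x
  have h9 : ∀ y m, ¬ I y m → (Quotient.mk _ (y, m) : orbitRel.Quotient G (P × L)) ≠
      Quotient.mk _ (x, k) := fun y m hy e => by
    obtain ⟨g, hg⟩ := Quotient.exact e
    obtain ⟨rfl, rfl⟩ := Prod.mk.inj hg
    exact hy (d.inv1 hk)
  have h10 : (Quotient.mk _ (x', l') : orbitRel.Quotient G (P × L)) = Quotient.mk _ (x, l) := by
    have e1 := h9 x l h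
    have e2 := h9 x' l' h'
    rcases h8.ge (Set.mem_univ (Quotient.mk _ (x, k))) with e3 | e3 <;>
    rcases h8.ge (Set.mem_univ (Quotient.mk _ (x, l))) with e4 | e4 <;>
    rcases h8.ge (Set.mem_univ (Quotient.mk _ (x', l'))) with e5 | e5 <;> simp_all
  obtain ⟨g, hg⟩ := Quotient.exact h10
  exact ⟨g, Prod.mk.inj hg⟩

theorem EF_of_even (he : 2 ∣ n) : ∃ A j, EF G I A j := by
  obtain ⟨l⟩ := d.dual.neP
  obtain ⟨S, hS⟩ := exists_isSyl 2 (stabilizer G l)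
  have h3 := d.two
  obtain ⟨a, m, hm, hn⟩ := Nat.exists_eq_two_pow_mul_odd (show n ≠ 0 by omega)
  have ha : a ≠ 0 := by
    rintro rfl
    rw [pow_zero, one_mul] at hn
    exact (Nat.not_even_iff_odd.2 hm) (even_iff_two_dvd.2 (hn ▸ he))
  have key : ∀ t : Finset P, t ⊆ ({x | ¬ I x l} : Finset P) → (∀ g ∈ S, ∀ x ∈ t, g • x ∈ t) →
      2 ^ (a + a) ∣ #t := fun t h1 h4 =>
    syl_dvd_card Nat.prime_two hS (s := {x | ¬ I x l}) (fun g hg x hx => by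
      simp only [mem_filter, mem_univ, true_and] at hx ⊢
      rwa [← (show g • l = l from hg), d.inv]) (fun x hx y hy => by
      obtain ⟨g, h5, h6⟩ := (d.two_lines h2).2 x y l l (mem_filter.1 hx).2 (mem_filter.1 hy).2
      exact ⟨g, h6, h5⟩) (by
      rw [d.card_off, pow_add, hn]
      exact mul_dvd_mul (dvd_mul_right _ _) (dvd_mul_right _ _)) h1 h4
  have hS0 : S ≠ ⊥ := by
    rintro rfl
    obtain ⟨x, hx⟩ := d.exOff l
    have := key {x} (by simpa using hx) (fun g hg y hy => by rwa [mem_bot.1 hg, one_smul])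
    rw [card_singleton, Nat.dvd_one, Nat.pow_eq_one] at this
    omega
  obtain ⟨z, hz, hz1, hz2, hzc⟩ := exists_central_prime Nat.prime_two hS.isPGroup hS0
  by_cases h4 : ∀ a, ∃ x, I x a ∧ z • x ≠ x
  · have h5 := key {x | ¬ I x l ∧ z • x = x} (fun x hx => by simpa using (mem_filter.1 hx).2.1)
      fun g hg x hx => by
        simp only [mem_filter, mem_univ, true_and] at hx ⊢
        exact ⟨by rw [← (show g • l = l from hS.le hg), d.inv]; exact hx.1,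
          by rw [← mul_smul, hzc g hg, mul_smul, hx.2]⟩
    rw [d.card_fix_off (sq z ▸ hz2) h4 (hS.le hz), hn, pow_add] at h5
    exact absurd (even_iff_two_dvd.2 ((dvd_pow_self 2 ha).trans
      (Nat.dvd_of_mul_dvd_mul_left (by positivity) h5))) (Nat.not_even_iff_odd.2 hm)
  push Not at h4
  obtain ⟨j, hj⟩ := h4
  obtain ⟨A, hA⟩ := d.exists_cen hj
  refine ⟨A, j, ?_, z, hA, hz1⟩
  by_contra hc
  exact (d.dvd_of_persp Nat.prime_two hz2 hz1 hA).2 hc he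

theorem syl_lines {p e : ℕ} (hp : p.Prime) (hn : n = p ^ e) {c b : P}
    {W : Subgroup G} (hW : IsSyl p W (stabilizer G c ⊓ stabilizer G b)) {k k' : L} (hk : I b k)
    (hk' : I b k') (hc : ¬ I c k) (hc' : ¬ I c k') : ∃ w ∈ W, w • k = k' := by
  have := Fact.mk hp
  have hpn : p ∣ n := hn ▸ dvd_pow_self p (by
    rintro rfl; have := d.two; rw [pow_zero] at hn; omega)
  obtain ⟨l, hl, hl'⟩ := d.join c b
  obtain ⟨Y₀, hY₀⟩ := exists_isSyl p (stabilizer G c)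
  obtain ⟨l₀, hl₀⟩ := card_pos.1 (Nat.pos_of_ne_zero fun e :
      #{x ∈ ({l | I c l} : Finset L) | ∀ g ∈ Y₀, g • x = x} = 0 => by
    have := card_modEq_fix hp hY₀.isPGroup {l | I c l} fun g hg x hx => by
      simpa using d.invp (hY₀.le hg) (mem_filter.1 hx).2
    rw [e, d.cardP] at this
    exact hp.one_lt.ne' (Nat.dvd_one.1 ((Nat.dvd_add_right hpn).1
      ((Nat.modEq_zero_iff_dvd).1 this))))
  simp only [mem_filter, mem_univ, true_and] at hl₀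
  obtain ⟨g, hg, hg'⟩ := d.flag h2 hl₀.1 hl
  have hY := hY₀.cj_of_mem (g := g) hg
  have hYl : ∀ y ∈ cj g Y₀, y • l = l := by
    rintro _ ⟨y, hy, rfl⟩
    show (g * y * g⁻¹) • l = l
    rw [← hg', mul_smul, inv_smul_smul, mul_smul, hl₀.2 y hy]
  obtain ⟨u, hu, hu'⟩ := hW.exists_cj_le (Q := cj g Y₀ ⊓ stabilizer G b)
    hY.isPGroup.to_inf_left (inf_le_inf_right _ hY.le)
  have h3 : ∀ k, ¬ I c k → ¬ I c (u⁻¹ • k) := fun k h e => h (by simpa using d.invp hu.1 e)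
  obtain ⟨y, hy, hy'⟩ := syl_trans (e := e + e) hp hY (s := {k | ¬ I c k}) (fun g hg x hx => by
      simp only [mem_filter, mem_univ, true_and] at hx ⊢
      rwa [← (show g • c = c from hg), d.inv]) (fun x hx y hy => by
      obtain ⟨g, h5, h6⟩ := (d.two_lines h2).2 c c x y (mem_filter.1 hx).2 (mem_filter.1 hy).2
      exact ⟨g, h5, h6⟩) (by rw [d.dual.card_off, pow_add, hn]) (u⁻¹ • k) (by simpa using h3 k hc)
    (u⁻¹ • k') (by simpa using h3 k' hc')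
  have h4 : y • b = b := d.eqp (l := l) (k := u⁻¹ • k') (fun e => h3 k' hc' (e ▸ hl))
    (d.invl (hYl y hy) hl') (hy' ▸ d.inv1 (d.invp (inv_mem hu).2 hk)) hl' (d.invp (inv_mem hu).2 hk')
  exact ⟨_, hu' (conj_mem_cj ⟨hy, h4⟩), by rw [mul_smul, mul_smul, hy', smul_inv_smul]⟩

theorem EF_of_pp {p e : ℕ} (hp : p.Prime) (hn : n = p ^ e) : ∃ A j, EF G I A j := by
  have := Fact.mk hp
  have hpn : p ∣ n := hn ▸ dvd_pow_self p (by
    rintro rfl; have := d.two; rw [pow_zero] at hn; omega)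
  obtain ⟨l⟩ := d.dual.neP
  obtain ⟨c, hc, -⟩ := d.meet l l
  obtain ⟨b, hb, hbc, -⟩ := d.ex2 l c c
  obtain ⟨W, hW⟩ := exists_isSyl p (stabilizer G c ⊓ stabilizer G b)
  have hW0 : W ≠ ⊥ := by
    rintro rfl
    obtain ⟨k, hk, hkl, -⟩ := d.dual.ex2 b l l
    obtain ⟨k', hk', hkl', hkk⟩ := d.dual.ex2 b l k
    obtain ⟨w, hw, e⟩ := d.syl_lines h2 hp hn hW hk hk'
      (fun e => hkl (d.eql hbc hk e hb hc)) (fun e => hkl' (d.eql hbc hk' e hb hc))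
    rw [mem_bot.1 hw, one_smul] at e
    exact hkk e.symm
  obtain ⟨y, hy, hy1, hyp, hyc⟩ := exists_central_prime hp hW.isPGroup hW0
  have key : ∀ c' e' : P, c' ≠ e' → IsSyl p W (stabilizer G c' ⊓ stabilizer G e') → ∀ k, I e' k →
      ¬ I c' k → y • k = k → ∃ A j, EF G I A j := by
    intro c' e' h3 h4 k h5 h6 h7
    obtain ⟨j, hj⟩ := d.exists_ax (g := y) (A := e') fun k' hk' => by
      by_cases h8 : I c' k'
      · exact d.fixl h3 (h4.le hy).1 (h4.le hy).2 h8 hk'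
      obtain ⟨w, hw, rfl⟩ := d.syl_lines h2 hp hn h4 h5 hk' h6 h8
      rw [← mul_smul, hyc w hw, mul_smul, h7]
    refine ⟨e', j, ?_, y, hj, hy1⟩
    by_contra h8
    exact (d.dvd_of_persp hp hyp hy1 hj).2 h8 hpn
  have hW' : IsSyl p W (stabilizer G b ⊓ stabilizer G c) := inf_comm (stabilizer G c) _ ▸ hW
  obtain ⟨k, hk, hkl⟩ := exists_mem_ne (show 1 < #{k : L | y • k = k} by
    rw [← d.card_fix]
    exact one_lt_card.2 ⟨b, by simpa using (hW.le hy).2, c, by simpa using (hW.le hy).1, hbc⟩) l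
  have hk' := (mem_filter.1 hk).2
  obtain ⟨E, hE, hE'⟩ := d.meet k l
  by_cases h3 : ∀ w ∈ W, w • E = E
  · by_cases h4 : E = c
    · exact key b c hbc hW' k (h4 ▸ hE) (fun e => hkl (d.eql hbc e (h4 ▸ hE) hb hc)) hk'
    obtain ⟨g, h5, h6⟩ := h2 c b c E hbc.symm (Ne.symm h4)
    have h7 := hW.cj g
    rw [cj_inf, cj_stabilizer, cj_stabilizer, h5, h6] at h7
    exact key c E (Ne.symm h4) (h7.of_card_le hW.isPGroup (fun w hw => ⟨(hW.le hw).1, h3 w hw⟩)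
      (card_cj _ _).le) k hE (fun e => hkl (d.eql h4 hE e hE' hc)) hk'
  push Not at h3
  obtain ⟨w, hw, h4⟩ := h3
  have h5 : w • l = l := d.fixl hbc (hW.le hw).2 (hW.le hw).1 hb hc
  have h6 : w • k ≠ k := fun e => h4 (d.fixp hkl e h5 hE hE')
  obtain ⟨O, h7, h8⟩ := d.meet (w • k) k
  have h9 : ¬ I O l := fun e => h6 (d.eql h4 (d.inv1 hE) (d.eqp hkl h8 e hE hE' ▸ h7)
    (d.eqp (l := w • k) (k := l) (fun e => hkl ((smul_left_cancel_iff w).1 (e.trans h5.symm)))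
      h7 e (d.inv1 hE) (d.invl h5 hE') ▸ h8) hE)
  have h10 := d.fixp h6 (by rw [← mul_smul, hyc w hw, mul_smul, hk']) hk' h7 h8
  obtain ⟨k', h11, h12⟩ := d.join O c
  exact key b c hbc hW' k' h12 (fun e => h9 (d.eql hbc e h12 hb hc ▸ h11))
    (d.fixl (fun e : O = c => h9 (e ▸ hc)) h10 (hW.le hy).1 h11 h12)

theorem pp_of_odd (hodd : Odd n) : ∃ p e : ℕ, p.Prime ∧ n = p ^ e := by
  let Q : Subgroup G → ℕ → Prop := fun T m => IsPGroup 2 T ∧ 2 ≤ m ∧ (∃ e, n = m ^ e) ∧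
    (∃ x : P, ∀ t ∈ T, t • x = x) ∧
    (∀ l : L, (∀ t ∈ T, t • l = l) → #{x | (∀ t ∈ T, t • x = x) ∧ I x l} = m + 1) ∧
    ∀ x : P, (∀ t ∈ T, t • x = x) → #{l | (∀ t ∈ T, t • l = l) ∧ I x l} = m + 1
  obtain ⟨T, ⟨m, hT, hm, ⟨e, he⟩, ⟨x₀, hx₀⟩, hL, hP⟩, hmax⟩ :=
    Set.exists_max_image {T | ∃ m, Q T m} (fun T => Nat.card T) (Set.toFinite _)
      ⟨⊥, n, IsPGroup.of_bot, d.two, ⟨1, (pow_one n).symm⟩, ⟨d.neP.some, by simp⟩,
        fun l _ => by simpa using d.cardL l, fun l _ => by simpa using d.cardP l⟩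
  let I₀ : {x : P // ∀ t ∈ T, t • x = x} → {l : L // ∀ t ∈ T, t • l = l} → Prop :=
    fun x l => I x l
  have d₀ : PPlane I₀ m := by
    refine ⟨fun x y => ?_, fun x y => ?_, fun h1 h3 h4 h5 => (d.uniq h1 h3 h4 h5).imp Subtype.ext
      Subtype.ext, fun l => (card_filter_sub fun x => exists_prop.symm).trans (hL l l.2),
      fun x => (card_filter_sub fun x => exists_prop.symm).trans (hP x x.2), hm, ⟨⟨x₀, hx₀⟩⟩⟩
    · by_cases e : x = y
      · obtain ⟨l, hl⟩ := card_pos.1 ((hP x x.2).symm ▸ m.add_one_pos)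
        exact ⟨⟨l, (mem_filter.1 hl).2.1⟩, (mem_filter.1 hl).2.2, e ▸ (mem_filter.1 hl).2.2⟩
      · obtain ⟨l, h1, h3⟩ := d.join x y
        exact ⟨⟨l, fun t ht => d.fixl (fun e' => e (Subtype.ext e')) (x.2 t ht) (y.2 t ht) h1 h3⟩,
          h1, h3⟩
    · by_cases e : x = y
      · obtain ⟨l, hl⟩ := card_pos.1 ((hL x x.2).symm ▸ m.add_one_pos)
        exact ⟨⟨l, (mem_filter.1 hl).2.1⟩, (mem_filter.1 hl).2.2, e ▸ (mem_filter.1 hl).2.2⟩
      · obtain ⟨l, h1, h3⟩ := d.meet x y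
        exact ⟨⟨l, fun t ht => d.fixp (fun e' => e (Subtype.ext e')) (x.2 t ht) (y.2 t ht) h1 h3⟩,
          h1, h3⟩
  obtain ⟨Γ, _, _, _, _, c₀, hΓ⟩ := d₀.exists_col
  have res : ∀ t ∈ normalizer (T : Set G), t ^ 2 ∈ T → ∃ g : Γ, g * g = 1 ∧
      (∀ x : {x : P // ∀ t ∈ T, t • x = x}, g • x = x ↔ t • (x : P) = x) ∧
      ∀ x : {l : L // ∀ t ∈ T, t • l = l}, g • x = x ↔ t • (x : L) = x := by
    intro t ht ht2
    obtain ⟨g, h3, h4⟩ := hΓ ((toPerm t).subtypePerm (fix_conj_iff ht))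
      ((toPerm t).subtypePerm (fix_conj_iff ht)) fun x l => d.inv t x l
    refine ⟨g, c₀.faith _ fun x => Subtype.ext ?_, fun x => by rw [h3, Subtype.ext_iff]; rfl,
      fun x => by rw [h4, Subtype.ext_iff]; rfl⟩
    rw [mul_smul, h3, h3]
    exact (mul_smul t t (x : P)).symm.trans (sq t ▸ x.2 _ ht2)
  have hmodd : Odd m := by
    have h3 := d.two
    refine (Nat.odd_pow_iff (e := e) ?_).1 (he ▸ hodd)
    rintro rfl
    rw [pow_zero] at he
    omega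
  have hom : ∀ t ∈ normalizer (T : Set G), t ∉ T → t ^ 2 ∈ T → ∃ C c, ¬ I₀ C c ∧
      ∃ g ∈ persp Γ I₀ C c, g ≠ 1 ∧ g * g = 1 ∧
      (∀ x : {x : P // ∀ t ∈ T, t • x = x}, t • (x : P) = x → g • x = x) ∧
      ∀ x : {l : L // ∀ t ∈ T, t • l = l}, t • (x : L) = x → g • x = x := by
    intro t ht htT ht2
    obtain ⟨g, h3, h4, h5⟩ := res t ht ht2
    have hno : ∀ r, ¬ Q (T ⊔ zpowers t) r := fun r hr =>
      htT ((eq_of_le_of_card_ge le_sup_left (hmax _ ⟨r, hr⟩)).ge (mem_sup_right (mem_zpowers t)))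
    have hp2 := isPGroup_sup_zpowers hT ht ht2
    rcases c₀.inv_cases h3 with rfl | ⟨h6, C, c, h7⟩ | ⟨r, h6, ⟨x, hx⟩, h7, h8⟩
    · have e1 : ∀ x : P, (∀ u ∈ T ⊔ zpowers t, u • x = x) ↔ ∀ u ∈ T, u • x = x := fun x =>
        (fix_sup_iff x).trans ⟨fun h => h.1, fun h => ⟨h, (h4 ⟨x, h⟩).1 (one_smul _ _)⟩⟩
      have e2 : ∀ x : L, (∀ u ∈ T ⊔ zpowers t, u • x = x) ↔ ∀ u ∈ T, u • x = x := fun x =>
        (fix_sup_iff x).trans ⟨fun h => h.1, fun h => ⟨h, (h5 ⟨x, h⟩).1 (one_smul _ _)⟩⟩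
      refine absurd ⟨hp2, hm, ⟨e, he⟩, ⟨x₀, (e1 x₀).2 hx₀⟩, ?_, ?_⟩ (hno m)
      · simpa only [e1, e2] using hL
      · simpa only [e1, e2] using hP
    · refine ⟨C, c, fun h => ?_, g, h7, h6, h3, fun x => (h4 x).2, fun x => (h5 x).2⟩
      exact (Nat.not_even_iff_odd.2 hmodd) (even_iff_two_dvd.2
        ((c₀.dvd_of_persp Nat.prime_two (by rw [sq, h3]) h6 h7).1 h))
    · refine absurd ⟨hp2, ?_, ⟨2 * e, by rw [he, ← h6, pow_mul, sq]⟩,
        ⟨x, (fix_sup_iff _).2 ⟨x.2, (h4 x).1 hx⟩⟩, fun l hl => ?_, fun l hl => ?_⟩ (hno r)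
      · by_contra h
        have : r = 0 ∨ r = 1 := by omega
        rcases this with rfl | rfl <;> omega
      · obtain ⟨h9, h10⟩ := (fix_sup_iff l).1 hl
        rw [← h7 ⟨l, h9⟩ ((h5 _).2 h10)]
        refine (card_filter_sub fun x => ?_).symm
        rw [fix_sup_iff]
        exact ⟨fun h => ⟨h.1.1, h.2, (h4 _).2 h.1.2⟩, fun ⟨a, b, c⟩ => ⟨⟨a, (h4 _).1 c⟩, b⟩⟩
      · obtain ⟨h9, h10⟩ := (fix_sup_iff l).1 hl
        rw [← h8 ⟨l, h9⟩ ((h4 _).2 h10)]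
        refine (card_filter_sub fun x => ?_).symm
        rw [fix_sup_iff]
        exact ⟨fun h => ⟨h.1.1, h.2, (h5 _).2 h.1.2⟩, fun ⟨a, b, c⟩ => ⟨⟨a, (h5 _).1 c⟩, b⟩⟩
  obtain ⟨p, k, hp, hk⟩ := c₀.wagner hmodd (fun x y hxy => by
    obtain ⟨t, h3, h4, h5, h6, h7⟩ := exists_ext h2 hT (fun e => hxy (Subtype.ext e)) x.2 y.2
      fun g hg hg2 => by
        obtain ⟨γ, h3, h4, -⟩ := res g hg hg2
        obtain ⟨a, b, h5, h6, h7⟩ := c₀.two_fix h3
        exact ⟨a, b, fun e => h5 (Subtype.ext e), a.2, b.2, (h4 a).1 h6, (h4 b).1 h7⟩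
    obtain ⟨C, c, h8, g, h9, h10, h11, h12, -⟩ := hom t h3 h4 h5
    exact ⟨C, c, h8, g, h9, h10, h11, h12 x h6, h12 y h7⟩) (fun x y hxy => by
    obtain ⟨t, h3, h4, h5, h6, h7⟩ := exists_ext (d.two_lines h2).1 hT
      (fun e => hxy (Subtype.ext e)) x.2 y.2 fun g hg hg2 => by
        obtain ⟨γ, h3, -, h4⟩ := res g hg hg2
        obtain ⟨a, b, h5, h6, h7⟩ := c₀.dual.two_fix h3
        exact ⟨a, b, fun e => h5 (Subtype.ext e), a.2, b.2, (h4 a).1 h6, (h4 b).1 h7⟩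
    obtain ⟨C, c, h8, g, h9, h10, h11, -, h12⟩ := hom t h3 h4 h5
    exact ⟨C, c, h8, g, h9, h10, h11, h12 x h6, h12 y h7⟩)
  exact ⟨p, k * e, hp, by rw [he, hk, pow_mul]⟩

theorem EF_all {A : P} {j : L} (h : I A j) : EF G I A j := by
  obtain ⟨A', j', h'⟩ : ∃ A j, EF G I A j := by
    rcases Nat.even_or_odd n with he | ho
    · exact d.EF_of_even h2 (even_iff_two_dvd.1 he)
    · obtain ⟨p, e, hp, he⟩ := d.pp_of_odd h2 ho
      exact d.EF_of_pp h2 hp he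
  obtain ⟨g, rfl, rfl⟩ := d.flag h2 h'.1 h
  exact d.EF_smul g h'

theorem onLine_iff {x y : P} {l : L} (hxy : x ≠ y) (hx : I x l) (hy : I y l) (z : P) :
    z ∈ onLine d.TC x y ↔ I z l := by
  refine ⟨fun h => ?_, fun h u ⟨j, h3, hu⟩ huy => ?_⟩
  · obtain ⟨-, u, hu, hu1⟩ := d.EF_all h2 hx
    exact (d.fix_pt hu hu1 (h u ⟨l, hx, hu⟩ (hu.2 y hy))).elim (fun e => e ▸ hx) id
  · by_cases e : u = 1
    · rw [e, one_smul]
    exact hu.2 z (d.eql hxy hx hy h3 ((d.fix_pt hu e huy).resolve_left hxy.symm) ▸ h)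

theorem exists_ON : ∃ p : ℕ, p.Prime ∧ ON p d.TC := by
  have hcj : ∀ (g : G) x, ∀ a ∈ d.TC x, g * a * g⁻¹ ∈ d.TC (g • x) := fun g x a ⟨j, h1, h3⟩ =>
    ⟨_, d.inv1 h1, d.conj_persp g h3⟩
  have htwo : ∀ x, ∃ j j', EF G I x j ∧ EF G I x j' ∧ j ≠ j' := fun x => by
    obtain ⟨j, hj, -⟩ := d.join x x
    obtain ⟨j', hj', h3, -⟩ := d.dual.ex2 x j j
    exact ⟨j', j, d.EF_all h2 hj', d.EF_all h2 hj, h3⟩
  obtain ⟨x₀⟩ := d.neP
  obtain ⟨j, j', h3, h4, h5⟩ := htwo x₀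
  obtain ⟨p, hp, h6⟩ := d.TC_pow h3 h4 h5
  refine ⟨p, hp, fun g x => le_antisymm (fun a ha => mem_cj.2 ?_) ?_,
    fun x a ⟨j, _, h⟩ => d.cen_fix h.1, fun x => ?_, fun x a ha => ?_, h2, ?_⟩
  · simpa using hcj g⁻¹ _ a ha
  · rintro _ ⟨a, ha, rfl⟩
    exact hcj g x a ha
  · obtain ⟨j, j', h3, h4, h5⟩ := htwo x
    exact d.TC_comm h3 h4 h5
  · obtain ⟨l, h7, h8⟩ := d.join x x₀
    obtain ⟨g, h9, -⟩ := d.flag h2 h7 h8
    have := hcj g x a ha
    rw [h9] at this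
    simpa using h6 _ this
  · obtain ⟨y, hy, hyx, -⟩ := d.ex2 j x₀ x₀
    obtain ⟨h7, a, ha, ha1⟩ := h3
    exact ⟨x₀, y, hyx.symm, a, ⟨j, h7, ha⟩, ha1, ha.2 y hy⟩

theorem desargues : ∃ (F : Type) (_ : Field F) (_ : Fintype F)
    (φ : P ≃ Projectivization F (Fin 3 → F)),
      (∀ l : L, ∃ W : Submodule F (Fin 3 → F), Module.finrank F W = 2 ∧
          ∀ p : P, I p l ↔ (φ p).submodule ≤ W) ∧
      (∀ W : Submodule F (Fin 3 → F), Module.finrank F W = 2 →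
          ∃ l : L, ∀ p : P, I p l ↔ (φ p).submodule ≤ W) := by
  obtain ⟨p, hp, h⟩ := d.exists_ON h2
  have := Fact.mk hp
  have : FaithfulSMul G P := ⟨fun {a b} h => by
    rw [← inv_mul_eq_one]
    exact d.faith _ fun y => by rw [mul_smul, ← h, inv_smul_smul]⟩
  obtain ⟨F, _, _, N, ψ, hN, fr, -⟩ := h.exists_frame
  have key : ∀ v v' l, v ≠ 0 → v' ≠ 0 → ψ v ≠ ψ v' → I (ψ v) l → I (ψ v') l → ∀ w, w ≠ 0 →
      (I (ψ w) l ↔ ∃ s t : F, w = s • v + t • v') := fun v v' l hv hv' hne h3 h4 w hw =>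
    (d.onLine_iff h2 hne h3 h4 _).symm.trans (fr.line _ _ _ hv hv' hw hne)
  obtain rfl : N = 3 := by
    by_contra hN3
    obtain ⟨M, rfl⟩ : ∃ M, N = M + 4 := ⟨N - 4, by omega⟩
    have h0 : ∀ i : Fin (M + 4), (Pi.single i 1 : Fin (M + 4) → F) ≠ 0 := fun i => by simp
    have h1 : ∀ i j : Fin (M + 4), i ≠ j → ψ (Pi.single i 1) ≠ ψ (Pi.single j 1) := by
      intro i j hij e
      obtain ⟨t, ht⟩ := (fr.eq_iff _ _ (h0 i) (h0 j)).1 e
      simpa [hij.symm] using congrFun ht j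
    have a01 : (⟨0, by omega⟩ : Fin (M + 4)) ≠ ⟨1, by omega⟩ := by simp
    have a23 : (⟨2, by omega⟩ : Fin (M + 4)) ≠ ⟨3, by omega⟩ := by simp
    obtain ⟨l, h3, h4⟩ := d.join (ψ (Pi.single ⟨0, by omega⟩ 1)) (ψ (Pi.single ⟨1, by omega⟩ 1))
    obtain ⟨k, h5, h6⟩ := d.join (ψ (Pi.single ⟨2, by omega⟩ 1)) (ψ (Pi.single ⟨3, by omega⟩ 1))
    obtain ⟨z, h7, h8⟩ := d.meet l k
    obtain ⟨w, hw, rfl⟩ := fr.surj z
    obtain ⟨s, t, e1⟩ := (key _ _ l (h0 _) (h0 _) (h1 _ _ a01) h3 h4 w hw).1 h7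
    obtain ⟨s', t', e2⟩ := (key _ _ k (h0 _) (h0 _) (h1 _ _ a23) h5 h6 w hw).1 h8
    have e3 := congrFun (e1.symm.trans e2) ⟨0, by omega⟩
    have e4 := congrFun (e1.symm.trans e2) ⟨1, by omega⟩
    simp [Fin.ext_iff] at e3 e4
    exact hw (by rw [e1, e3, e4]; simp)
  obtain ⟨φ, hφ⟩ := fr.exists_equiv
  have key2 : ∀ v v' l, v ≠ 0 → v' ≠ 0 → ψ v ≠ ψ v' → I (ψ v) l → I (ψ v') l → ∀ x,
      (I x l ↔ (φ x).submodule ≤ Submodule.span F {v, v'}) := fun v v' l hv hv' hne h3 h4 x => by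
    obtain ⟨w, hw, rfl⟩ := fr.surj x
    rw [key v v' l hv hv' hne h3 h4 w hw, hφ w hw, Projectivization.submodule_mk,
      Submodule.span_singleton_le_iff_mem, Submodule.mem_span_pair]
    simp only [eq_comm]
  refine ⟨F, inferInstance, inferInstance, φ, fun l => ?_, fun W hW => ?_⟩
  · obtain ⟨x, hx, -⟩ := d.meet l l
    obtain ⟨y, hy, hyx, -⟩ := d.ex2 l x x
    obtain ⟨v, hv, rfl⟩ := fr.surj x
    obtain ⟨v', hv', rfl⟩ := fr.surj y
    refine ⟨_, ?_, key2 v v' l hv hv' hyx.symm hx hy⟩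
    have hli : LinearIndependent F ![v, v'] := (LinearIndependent.pair_iff' hv).2 fun t e =>
      hyx ((fr.eq_iff _ _ hv hv').2 ⟨t, e.symm⟩).symm
    have := finrank_span_eq_card hli
    rwa [Matrix.range_cons_cons_empty, Fintype.card_fin] at this
  · let b := Module.finBasisOfFinrankEq F W hW
    have hli := b.linearIndependent.map' W.subtype W.ker_subtype
    have hv : ((b 0 : W) : Fin 3 → F) ≠ 0 := hli.ne_zero 0
    have hv' : ((b 1 : W) : Fin 3 → F) ≠ 0 := hli.ne_zero 1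
    have hne : ψ (b 0) ≠ ψ (b 1) := fun e => by
      obtain ⟨t, ht⟩ := (fr.eq_iff _ _ hv hv').1 e
      have := congrArg (b.coord 1) (Subtype.ext ht : b 1 = t • b 0)
      simp at this
    obtain ⟨l, h3, h4⟩ := d.join (ψ (b 0)) (ψ (b 1))
    refine ⟨l, fun x => (key2 _ _ l hv hv' hne h3 h4 x).trans ?_⟩
    have : Submodule.span F {((b 0 : W) : Fin 3 → F), (b 1 : Fin 3 → F)} = W := by
      refine le_antisymm (Submodule.span_le.2 (Set.pair_subset (b 0).2 (b 1).2)) fun w hw => ?_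
      refine Submodule.mem_span_pair.2 ⟨b.repr ⟨w, hw⟩ 0, b.repr ⟨w, hw⟩ 1, ?_⟩
      have := congrArg Subtype.val (b.sum_repr ⟨w, hw⟩)
      rwa [Fin.sum_univ_two] at this
    rw [this]

end CP

end Cfsg.Agent.H56
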