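import Cfsg.Agent.H56.ZCDefs

/-!
The basic facts on points and blocks without the condition `r ≠ 2`.
-/

set_option autoImplicit false

namespace Cfsg.Agent.H56.ZC

open Subgroup Cfsg.Agent.H56.FS

variable {G : Type*} [Group G] {p r : ℕ} {D : Set (Subgroup G)}

namespace Bs2

variable (h : Bs2 p r D)
include h

theorem ne_bot {A : Subgroup G} (hA : A ∈ D) : A ≠ ⊥ := fun e => by
  have := h.card A hA
  rw [e, card_bot] at this
  exact h.pp.one_lt.ne this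

theorem eq_of_le [Finite G] {A B : Subgroup G} (hA : A ∈ D) (hB : B ∈ D) (hle : A ≤ B) : A = B :=
  eq_of_le_of_card_ge hle (by rw [h.card A hA, h.card B hB])

theorem pow_p {A : Subgroup G} (hA : A ∈ D) {a : G} (ha : a ∈ A) : a ^ p = 1 := by
  rw [← h.card A hA]; exact H4.pow_card_eq_one_of_mem ha

theorem orderOf_eq {A : Subgroup G} (hA : A ∈ D) {a : G} (ha : a ∈ A) (a1 : a ≠ 1) :
    orderOf a = p := by
  have := Fact.mk h.pp
  exact orderOf_eq_prime (h.pow_p hA ha) a1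

theorem zpowers_eq [Finite G] {A : Subgroup G} (hA : A ∈ D) {a : G} (ha : a ∈ A) (a1 : a ≠ 1) :
    zpowers a = A :=
  eq_of_le_of_card_ge (zpowers_le.2 ha) (by rw [h.card A hA, Nat.card_zpowers, h.orderOf_eq hA ha a1])

theorem exists_gen [Finite G] {A : Subgroup G} (hA : A ∈ D) : ∃ a ∈ A, a ≠ 1 ∧ zpowers a = A := by
  obtain ⟨⟨a, ha⟩, a1⟩ := (ne_bot_iff_exists_ne_one).1 (h.ne_bot hA)
  have a1' : a ≠ 1 := fun e => a1 (Subtype.ext e)
  exact ⟨a, ha, a1', h.zpowers_eq hA ha a1'⟩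

theorem comm [Finite G] {A : Subgroup G} (hA : A ∈ D) : A ≤ centralizer (A : Set G) := by
  obtain ⟨a, -, -, e⟩ := h.exists_gen hA
  rw [← e]
  rintro _ ⟨i, rfl⟩ _ ⟨j, rfl⟩
  exact (Commute.zpow_zpow_self a j i).eq

theorem eq_of_inf [Finite G] {A B : Subgroup G} (hA : A ∈ D) (hB : B ∈ D) {a : G} (ha : a ∈ A)
    (hb : a ∈ B) (a1 : a ≠ 1) : A = B := by
  rw [← h.zpowers_eq hA ha a1, ← h.zpowers_eq hB hb a1]

theorem cop [Finite G] {A R : Subgroup G} (hA : A ∈ D) (hR : IsPGroup r R) :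
    (Nat.card A).Coprime (Nat.card R) := by
  have := Fact.mk h.pr
  refine H4.coprime_card_of_isPGroup ?_ hR
  rw [h.card A hA]
  exact (Nat.coprime_primes h.pp h.pr).2 h.rp.symm

theorem inf_bot [Finite G] {A R : Subgroup G} (hA : A ∈ D) (hR : IsPGroup r R) : R ⊓ A = ⊥ :=
  disjoint_iff.1 (disjoint_of_coprime_natCard (h.cop hA hR).symm)

theorem solv_pt [Finite G] {A : Subgroup G} (hA : A ∈ D) : Group.IsSolvable A := by
  have : IsMulCommutative A := ⟨⟨fun a b => Subtype.ext (h.comm hA b.2 a a.2)⟩⟩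
  exact H4.isSolvable_of_isMulCommutative A

end Bs2

namespace Cl2

variable [Finite G] (h : Cl2 p r D) {X : Subgroup G} (hX : Group.IsSolvable ↥(LL D X))
include h hX

theorem decomp {A : Subgroup G} (hA : A ∈ D) (hAX : A ≤ X) {x : G} (hx : x ∈ LL D X) :
    ∃ u ∈ RR D X, ∃ a ∈ A, x = u * a := by
  rw [h.sup X hX A hA hAX] at hx
  exact mem_sup_of_norm ((le_LL hA hAX).trans (LL_le_norm_RR X)) hx

theorem card_LL {A : Subgroup G} (hA : A ∈ D) (hAX : A ≤ X) :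
    Nat.card (LL D X) = Nat.card (RR D X) * p := by
  rw [h.sup X hX A hA hAX, H67.card_sup_of_inf_eq_bot
    (Or.inr ((le_LL hA hAX).trans (LL_le_norm_RR X))) (h.inf_bot hA (h.pg X hX)), h.card A hA]

theorem conj_pt {A B : Subgroup G} (hA : A ∈ D) (hAX : A ≤ X) (hB : B ∈ D) (hBX : B ≤ X) :
    ∃ u ∈ RR D X, B = cj u A := by
  have := Fact.mk h.pp
  have := Fact.mk h.pr
  obtain ⟨k, hk⟩ := IsPGroup.iff_card.1 (h.pg X hX)
  have hf : p ^ (Nat.card (LL D X)).factorization p = p := by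
    rw [h.card_LL hX hA hAX, hk, Nat.factorization_mul (pow_ne_zero _ h.pr.ne_zero) h.pp.ne_zero,
      Finsupp.add_apply, h.pp.factorization_self, Nat.factorization_pow, Finsupp.smul_apply,
      h.pr.factorization, Finsupp.single_eq_of_ne h.rp.symm]
    simp
  have c : ∀ C ∈ D, C ≤ X → Nat.card (C.subgroupOf (LL D X)) =
      p ^ (Nat.card (LL D X)).factorization p := fun C hC hCX => by
    rw [hf, Nat.card_congr (subgroupOfEquivOfLe (le_LL hC hCX)).toEquiv, h.card C hC]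
  obtain ⟨x, hx⟩ := MulAction.exists_smul_eq (LL D X) (Sylow.ofCard _ (c A hA hAX))
    (Sylow.ofCard _ (c B hB hBX))
  obtain ⟨u, hu, a, ha, e⟩ := h.decomp hX hA hAX x.2
  refine ⟨u, hu, (h.eq_of_le (h.inv A hA u) hB ?_).symm⟩
  rw [← cj_of_mem ha, cj_cj, ← e]
  rintro _ ⟨y, hy, rfl⟩
  have h1 : (MulAut.conj x) • (⟨y, le_LL hA hAX hy⟩ : LL D X) ∈
      ((x • Sylow.ofCard _ (c A hA hAX) : Sylow p (LL D X)) : Subgroup (LL D X)) := by
    rw [Sylow.coe_subgroup_smul]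
    exact smul_mem_pointwise_smul _ _ _ hy
  rw [hx] at h1
  exact h1

theorem norm_cen {A : Subgroup G} (hA : A ∈ D) (hAX : A ≤ X) {u : G} (hu : u ∈ RR D X)
    (e : cj u A = A) : u ∈ centralizer (A : Set G) := by
  intro a ha
  have h1 : u * a * u⁻¹ * a⁻¹ ∈ RR D X ⊓ A := by
    refine mem_inf.2 ⟨?_, mul_mem (e ▸ conj_mem_cj ha) (inv_mem ha)⟩
    have := (mem_normalizer_iff.1 (LL_le_norm_RR X (le_LL hA hAX ha)) u⁻¹).1 (inv_mem hu)
    simpa [mul_assoc] using mul_mem hu this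
  rw [h.inf_bot hA (h.pg X hX), mem_bot] at h1
  calc a * u = (u * a * u⁻¹ * a⁻¹) * (a * u) := by rw [h1, one_mul]
    _ = u * a := by group

theorem norm_cen' {A : Subgroup G} (hA : A ∈ D) (hAX : A ≤ X) {u : G} (hu : u ∈ RR D X)
    (e : cj u A = A) : u ∈ centralizer (LL D X : Set G) :=
  h.cen X hX A hA hAX ⟨hu, h.norm_cen hX hA hAX hu e⟩

end Cl2

namespace Cl2

variable [Finite G] (h : Cl2 p r D)
include h

theorem sol_pair {A B : Subgroup G} (hA : A ∈ D) (hB : B ∈ D) :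
    Group.IsSolvable ↥(LL D (A ⊔ B)) := by
  rw [LL_pair hA hB]; exact h.pair A hA B hB

theorem conj_pt_pair {A B : Subgroup G} (hA : A ∈ D) (hB : B ∈ D) :
    ∃ u ∈ RR D (A ⊔ B), B = cj u A :=
  h.conj_pt (h.sol_pair hA hB) hA le_sup_left hB le_sup_right

/-- an element normalising two points acts on them by the same power -/
theorem eps {A B : Subgroup G} (hA : A ∈ D) (hB : B ∈ D) {x : G} (eB : cj x B = B) {k : ℤ}
    (hk : ∀ a ∈ A, x * a * x⁻¹ = a ^ k) (eA : cj x A = A) : ∀ b ∈ B, x * b * x⁻¹ = b ^ k := by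
  intro b hb
  have hs := h.sol_pair hA hB
  have hn : x ∈ normalizer (RR D (A ⊔ B) : Set G) :=
    norm_RR _ (norm_LL h.inv _ (cj_eq_iff.1 (by rw [cj_sup, eA, eB])))
  obtain ⟨u, hu, a, ha, e⟩ := h.decomp hs hA le_sup_left (le_LL hB le_sup_right hb)
  let L := LL D (A ⊔ B)
  have hN : ((RR D (A ⊔ B)).subgroupOf L).Normal :=
    normal_subgroupOf_of_le_normalizer (LL_le_norm_RR _)
  have hbL : b ∈ L := le_LL hB le_sup_right hb
  have haL : a ∈ L := le_LL hA le_sup_left ha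
  have huL : u ∈ L := RR_le _ hu
  have hx : x * u * x⁻¹ ∈ RR D (A ⊔ B) := (mem_normalizer_iff.1 hn u).1 hu
  have h1 : (QuotientGroup.mk ⟨b, hbL⟩ : L ⧸ (RR D (A ⊔ B)).subgroupOf L) =
      QuotientGroup.mk ⟨a, haL⟩ := by
    have : (⟨b, hbL⟩ : L) = ⟨u, huL⟩ * ⟨a, haL⟩ := Subtype.ext e
    rw [this, QuotientGroup.mk_mul, (QuotientGroup.eq_one_iff _).2 (by exact hu), one_mul]
  have h2 : (b ^ k)⁻¹ * a ^ k ∈ RR D (A ⊔ B) := by
    have : (QuotientGroup.mk (⟨b, hbL⟩ ^ k) : L ⧸ (RR D (A ⊔ B)).subgroupOf L) =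
      QuotientGroup.mk (⟨a, haL⟩ ^ k) := by
      rw [QuotientGroup.mk_zpow, QuotientGroup.mk_zpow, h1]
    simpa [mem_subgroupOf] using QuotientGroup.eq.1 this
  have h3 : (b ^ k)⁻¹ * (x * b * x⁻¹) ∈ RR D (A ⊔ B) ⊓ B := by
    refine mem_inf.2 ⟨?_, mul_mem (inv_mem (zpow_mem hb k)) (eB ▸ conj_mem_cj hb)⟩
    have h4 := (mem_normalizer_iff.1 (LL_le_norm_RR _ (inv_mem (zpow_mem haL k))) _).1 hx
    have : (b ^ k)⁻¹ * (x * b * x⁻¹) =
        ((b ^ k)⁻¹ * a ^ k) * ((a ^ k)⁻¹ * (x * u * x⁻¹) * (a ^ k)⁻¹⁻¹) := by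
      calc (b ^ k)⁻¹ * (x * b * x⁻¹) = (b ^ k)⁻¹ * (x * (u * a) * x⁻¹) := by rw [← e]
        _ = (b ^ k)⁻¹ * (x * u * x⁻¹ * (x * a * x⁻¹)) := by group
        _ = _ := by rw [hk a ha]; group
    rw [this]
    exact mul_mem h2 h4
  rw [h.inf_bot hB (h.pg _ hs), mem_bot] at h3
  exact (inv_mul_eq_one.1 h3).symm

/-- an element centralising a point centralises all points it normalises -/
theorem k1 {A B : Subgroup G} (hA : A ∈ D) (hB : B ∈ D) {x : G} (hx : A ≤ Ce x)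
    (eB : cj x B = B) : B ≤ Ce x := by
  intro b hb
  have := h.eps hA hB eB (k := 1) (fun a ha => by
    rw [← mem_Ce.1 (hx ha)]; group) (cj_of_cent (le_Ce_iff.1 hx)) b hb
  rw [zpow_one] at this
  rw [mem_Ce]
  calc b * x = (x * b * x⁻¹) * x := by rw [this]
    _ = x * b := by group

theorem RR_pair_ne {A B : Subgroup G} (hA : A ∈ D) (hB : B ∈ D) (ne : A ≠ B) :
    RR D (A ⊔ B) ≠ ⊥ := fun e => by
  obtain ⟨u, hu, e'⟩ := h.conj_pt_pair hA hB
  rw [e, mem_bot] at hu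
  rw [hu, cj_one] at e'
  exact ne e'.symm

end Cl2

namespace Mn2

variable [Finite G] (h : Mn2 p r D)
include h

theorem norm_ne_top {N : Subgroup G} (hN : N ≠ ⊥) (hs : Group.IsSolvable N) :
    normalizer (N : Set G) ≠ ⊤ := fun e => hN (h.nsn N (normalizer_eq_top_iff.1 e) hs)

theorem center_eq : center G = ⊥ :=
  h.nsn _ inferInstance (H4.isSolvable_of_isMulCommutative _)

theorem Ce_ne_top {x : G} (hx : x ≠ 1) : Ce x ≠ ⊤ := fun e => by
  have : x ∈ center G := mem_center_iff.2 fun g => mem_Ce.1 (e ▸ mem_top g)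
  rw [h.center_eq, mem_bot] at this
  exact hx this

theorem exists_pt : ∃ A, A ∈ D := by
  by_contra hne
  have : (⊤ : Subgroup G) = ⊥ := by
    rw [← h.gen]; exact le_bot_iff.1 (sSup_le fun B hB => (hne ⟨B, hB⟩).elim)
  have : Subsingleton G := ⟨fun a b => by
    rw [mem_bot.1 (this.le (mem_top a)), mem_bot.1 (this.le (mem_top b))]⟩
  exact h.nsol inferInstance

end Mn2


end Cfsg.Agent.H56.ZC
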