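import Cfsg.Agent.H56.HLDefs

/-! Project HL (S3727): global kit. -/

set_option autoImplicit false
set_option linter.unusedSectionVars false

namespace Cfsg.Agent.H56.HL

open MulAction Subgroup Cfsg.Agent.H83 Cfsg.Agent.H56.TT
open scoped Cfsg.Agent.H63

universe u v

variable {G : Type u} [Group G] {Ω : Type v} [MulAction G Ω] {NN : Ω → Subgroup G} {q : ℕ}

/-- an invariant property of one pair holds for all pairs -/
theorem St.spread (h : St NN q) (P : Ω → Ω → Prop)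
    (hP : ∀ (g : G) (x y : Ω), x ≠ y → P x y → P (g • x) (g • y)) {a b : Ω} (hab : a ≠ b)
    (h0 : P a b) : ∀ x y, x ≠ y → P x y := fun x y hxy => by
  obtain ⟨g, rfl, rfl⟩ := h.two a b x y hab hxy
  exact hP g a b hab h0

theorem Fx_cj (g : G) (H : Subgroup G) : Fx Ω (cj g H) = (fun x => g • x) '' Fx Ω H := by
  ext x
  constructor
  · intro hx
    exact ⟨g⁻¹ • x, smul_mem_Fx.1 (by rwa [smul_inv_smul]), smul_inv_smul g x⟩
  · rintro ⟨y, hy, rfl⟩
    exact smul_mem_Fx.2 hy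

theorem ncard_Fx_cj (g : G) (H : Subgroup G) : (Fx Ω (cj g H)).ncard = (Fx Ω H).ncard := by
  rw [Fx_cj, Set.ncard_image_of_injective _ (MulAction.injective g)]

theorem Fx_sup (A B : Subgroup G) : Fx Ω (A ⊔ B) = Fx Ω A ∩ Fx Ω B := by
  ext x; simp only [mem_Fx, sup_le_iff, Set.mem_inter_iff]

theorem Fx_anti {A B : Subgroup G} (h : A ≤ B) : Fx Ω B ⊆ Fx Ω A := fun _ hx => h.trans hx

/-- an element normalising `N` which changes the type of one vertex changes all types -/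
theorem Kit.swap_type {N E X : Subgroup G} (h : Kit N q) {g : G} (hg : g ∈ N[N]) (hE : Vx N q E)
    (hn : ¬ Same N E (cj g E)) (hX : Vx N q X) : Same N E X ↔ ¬ Same N E (cj g X) := by
  constructor
  · exact fun h1 h2 => hn (h2.trans (h1.cj hg).symm)
  · intro h1
    by_contra h2
    obtain ⟨F, hF⟩ := h.ka.nbr hE
    have fa := h.l3.fa hF
    have e1 : Same N F X := (fa.two X hX).resolve_left h2
    have e2 : Same N F (cj g E) := (fa.two _ (hE.cj hg)).resolve_left hn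
    have e3 : Same N F (cj g X) := (fa.two _ (hX.cj hg)).resolve_left h1
    exact (h.l3.fa (hF.cj hg)).ns (e2.symm.trans (e3.trans (e1.cj hg).symm))

/-- parity: an equivariant choice of vertices has constant type -/
theorem St.same_of_smul [Finite Ω] (h : St NN q) {EE : Ω → Ω → Subgroup G}
    (vx : ∀ {x y}, x ≠ y → Vx (NN x) q (EE x y))
    (smul : ∀ (g : G) {x y}, x ≠ y → EE (g • x) (g • y) = cj g (EE x y))
    {x y p : Ω} (hy : x ≠ y) (hp : x ≠ p) : Same (NN x) (EE x y) (EE x p) := by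
  by_contra hn
  obtain ⟨g, hg1, hg2⟩ := h.two x y x p hy hp
  have hs : ∀ z, x ≠ z → EE x (g • z) = cj g (EE x z) := fun z hz => by
    rw [← smul g hz, hg1]
  have hne : ∀ z, x ≠ z → x ≠ g • z := fun z hz e => hz (MulAction.injective g (hg1.trans e))
  rw [← hg2, hs y hy] at hn
  have key : ∀ z, x ≠ z → (Same (NN x) (EE x y) (EE x z) ↔ ¬ Same (NN x) (EE x y) (EE x (g • z))) :=
    fun z hz => by rw [hs z hz]; exact (h.kit x).swap_type (h.norm hg1) (vx hy) hn (vx hz)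
  set A : Set Ω := {z | x ≠ z ∧ Same (NN x) (EE x y) (EE x z)} with hA
  set B : Set Ω := {z | x ≠ z ∧ ¬ Same (NN x) (EE x y) (EE x z)} with hB
  have h1 : A.ncard ≤ B.ncard := Set.ncard_le_ncard_of_injOn (fun z => g • z)
    (fun z hz => ⟨hne z hz.1, (key z hz.1).1 hz.2⟩) (MulAction.injective g).injOn
  have h2 : B.ncard ≤ A.ncard := Set.ncard_le_ncard_of_injOn (fun z => g • z)
    (fun z hz => ⟨hne z hz.1, by_contra fun h3 => hz.2 ((key z hz.1).2 h3)⟩)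
    (MulAction.injective g).injOn
  have h3 : (Set.univ : Set Ω) = insert x (A ∪ B) := by
    ext z
    simp only [Set.mem_univ, Set.mem_insert_iff, Set.mem_union, hA, hB, Set.mem_ofPred_eq, true_iff]
    by_cases e : z = x
    · exact Or.inl e
    · by_cases e' : Same (NN x) (EE x y) (EE x z)
      · exact Or.inr (Or.inl ⟨Ne.symm e, e'⟩)
      · exact Or.inr (Or.inr ⟨Ne.symm e, e'⟩)
  have h4 : Nat.card Ω = A.ncard + B.ncard + 1 := by
    rw [← Set.ncard_univ, h3, Set.ncard_insert_of_notMem (by simp [hA, hB]),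
      Set.ncard_union_eq (Set.disjoint_left.2 fun z hz hz' => hz'.2 hz.2)]
  obtain ⟨m, hm⟩ := h.even
  omega

/-- an element centralising `NN a` and fixing a point of every orbit is trivial -/
theorem St.cen_eq_one [FaithfulSMul G Ω] (h : St NN q) {a : Ω} {c : G} (hc : c ∈ C[NN a])
    (hfix : ∀ y, a ≠ y → ∃ n ∈ NN a, ∃ z, n • z = y ∧ c • z = z) : c = 1 := by
  refine eq_of_smul_eq_smul (α := Ω) fun y => ?_
  rw [one_smul]
  by_cases e : a = y
  · rw [← e]; exact h.cen_fix hc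
  · obtain ⟨n, hn, z, rfl, hz⟩ := hfix y e
    rw [← mul_smul, ← mem_centralizer_iff.1 hc n hn, mul_smul, hz]

theorem Tr.cen_eq_one [FaithfulSMul G Ω] (ht : Tr NN) (h : St NN q) {a b : Ω} (hab : a ≠ b) {c : G}
    (hc : c ∈ C[NN a]) (hb : c • b = b) : c = 1 :=
  h.cen_eq_one hc fun y hy => by
    obtain ⟨n, hn, e⟩ := ht a b y hab.symm hy.symm
    exact ⟨n, hn, b, e, hb⟩

theorem UU_le_left (h : St NN q) (x y : Ω) : UU NN x y ≤ stabilizer G x :=
  (UU_le NN x y).trans (h.fix x)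

section BK
variable (h : St NN q) (hB : BK NN q)
include h hB

theorem BK.syl {x y : Ω} (hxy : x ≠ y) : IsSylowIn 2 (UU NN x y) (NN x) := by
  obtain ⟨E, F, hA, e, -⟩ := hB x y hxy
  rw [e]; exact ((h.kit x).l3.fb hA).syl

theorem BK.card {x y : Ω} (hxy : x ≠ y) : Nat.card (UU NN x y) = q ^ 3 := by
  obtain ⟨E, F, hA, e, -⟩ := hB x y hxy
  rw [e]; exact ((h.kit x).l3.fb hA).cardU

theorem BK.cardZ {x y : Ω} (hxy : x ≠ y) : Nat.card (ZZ NN x y) = q := by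
  obtain ⟨E, F, hA, -, e⟩ := hB x y hxy
  rw [e]; exact ((h.kit x).l3.fb hA).cardZ

theorem BK.is2 {x y : Ω} (hxy : x ≠ y) {g : G} (hg : g ∈ UU NN x y) : Is2 g :=
  Is2.of_mem (BK.syl h hB hxy).isPGroup hg

theorem BK.mem_iff {x y : Ω} (hxy : x ≠ y) {g : G} :
    g ∈ UU NN x y ↔ g ∈ NN x ∧ g • y = y ∧ Is2 g :=
  ⟨fun hg => ⟨UU_le NN x y hg, UU_le_stab NN x y hg, BK.is2 h hB hxy hg⟩,
    fun hg => mem_UU hg.1 hg.2.1 hg.2.2⟩

/-- a 2-subgroup of `NN x` fixing `y` lies in `UU x y` -/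
theorem BK.le_UU {x y : Ω} {P : Subgroup G} (hP : IsPGroup 2 P) (h1 : P ≤ NN x)
    (h2 : P ≤ stabilizer G y) : P ≤ UU NN x y :=
  fun _ hg => mem_UU (h1 hg) (h2 hg) (Is2.of_mem hP hg)

theorem BK.eq_of_fix {x y p : Ω} (hxy : x ≠ y) (hxp : x ≠ p) (hp : UU NN x y ≤ stabilizer G p) :
    UU NN x p = UU NN x y :=
  (BK.syl h hB hxy).max _ (UU_le NN x p) (BK.syl h hB hxp).isPGroup
    (BK.le_UU h hB (BK.syl h hB hxy).isPGroup (UU_le NN x y) hp)

/-- a flag whose Sylow subgroup fixes `y` is the flag of `UU x y` -/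
theorem BK.eq_of_adj {x y : Ω} {E F : Subgroup G} (hxy : x ≠ y) (hA : Adj (NN x) q E F)
    (hy : E ⊔ F ≤ stabilizer G y) : UU NN x y = E ⊔ F :=
  ((h.kit x).l3.fb hA).syl.max _ (UU_le NN x y) (BK.syl h hB hxy).isPGroup
    (BK.le_UU h hB ((h.kit x).l3.fb hA).syl.isPGroup ((h.kit x).l3.fb hA).syl.le hy)

omit hB in
theorem BK.zz {x y : Ω} {E F : Subgroup G} (hA : Adj (NN x) q E F) (e : UU NN x y = E ⊔ F) :
    ZZ NN x y = E ⊓ F := by
  rw [ZZ, e]; exact (h.kit x).ka.cenU hA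

theorem BK.conj [Finite G] {x y p : Ω} (hxy : x ≠ y) (hxp : x ≠ p) :
    ∃ n ∈ NN x, cj n (UU NN x y) = UU NN x p :=
  (BK.syl h hB hxy).exists_conj (BK.syl h hB hxp)

/-- every flag occurs -/
theorem BK.flag [Finite G] {x : Ω} {E F : Subgroup G} (hA : Adj (NN x) q E F) :
    ∃ y, x ≠ y ∧ UU NN x y = E ⊔ F := by
  obtain ⟨b, hb⟩ : ∃ b, x ≠ b := by
    obtain ⟨a, b, hab⟩ := h.nt
    by_cases e : x = a
    · exact ⟨b, e ▸ hab⟩
    · exact ⟨a, e⟩
  obtain ⟨n, hn, e⟩ := (BK.syl h hB hb).exists_conj ((h.kit x).l3.fb hA).syl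
  have e1 : n • x = x := h.fix x hn
  refine ⟨n • b, fun e' => hb (MulAction.injective n (e1.trans e')), ?_⟩
  rw [← e, h.cj_UU, e1]

/-- every point `y ≠ a` is the image under `NN a` of a fixed point of `UU a b` -/
theorem BK.cover [Finite G] {a b y : Ω} (hab : a ≠ b) (hy : a ≠ y) :
    ∃ n ∈ NN a, ∃ z, n • z = y ∧ z ∈ Fx Ω (UU NN a b) := by
  obtain ⟨n, hn, e⟩ := BK.conj h hB hab hy
  refine ⟨n, hn, n⁻¹ • y, smul_inv_smul n y, (smul_mem_Fx (g := n)).1 ?_⟩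
  rw [smul_inv_smul, e]; exact UU_le_stab NN a y

/-- all blocks have the same size -/
theorem BK.ncard_Fx {a b x y : Ω} (hab : a ≠ b) (hxy : x ≠ y) :
    (Fx Ω (UU NN x y)).ncard = (Fx Ω (UU NN a b)).ncard := by
  obtain ⟨g, rfl, rfl⟩ := h.two a b x y hab hxy
  rw [← h.cj_UU, ncard_Fx_cj]

end BK

theorem Ln.ncard_Fx {EE : Ω → Ω → Subgroup G} (h : St NN q) (hl : Ln NN q EE) {a b x y : Ω}
    (hab : a ≠ b) (hxy : x ≠ y) : (Fx Ω (EE x y)).ncard = (Fx Ω (EE a b)).ncard := by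
  obtain ⟨g, rfl, rfl⟩ := h.two a b x y hab hxy
  rw [hl.smul g hab, ncard_Fx_cj]

theorem St.exists_ne (h : St NN q) (x : Ω) : ∃ b, x ≠ b := by
  obtain ⟨a, b, hab⟩ := h.nt
  by_cases e : x = a
  · exact ⟨b, e ▸ hab⟩
  · exact ⟨a, e⟩

/-- commutators of two subgroups normalising each other -/
theorem St.comm_UU (h : St NN q) {a b : Ω} {x y : G} (hx : x ∈ UU NN a b) (hy : y ∈ UU NN b a) :
    x * y * x⁻¹ * y⁻¹ ∈ UU NN a b ⊓ UU NN b a := by
  have h1 : y ∈ N[UU NN a b] := h.norm_UU (UU_le_stab NN b a hy) (UU_le_left h b a hy)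
  have h2 : x ∈ N[UU NN b a] := h.norm_UU (UU_le_stab NN a b hx) (UU_le_left h a b hx)
  refine mem_inf.2 ⟨?_, mul_mem ((mem_normalizer_iff.1 h2 y).1 hy) (inv_mem hy)⟩
  have := mul_mem hx ((mem_normalizer_iff.1 h1 _).1 (inv_mem hx))
  simpa only [mul_assoc] using this

end Cfsg.Agent.H56.HL
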