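import Cfsg.Agent.H56.W2K2
import Cfsg.Agent.H83.Misc
import Cfsg.Agent.H32.MinDegSL
import Cfsg.Prelude.Def_Sporadic

/-! Project HL (S3727): definitions and the statements of the pieces
(paper proof: `stubs/notes/h56_hl.md`). -/

set_option autoImplicit false
set_option linter.unusedSectionVars false

namespace Cfsg.Agent.H56.HL

open MulAction Subgroup Cfsg.Agent.H83 Cfsg.Agent.H56.TT
open scoped Cfsg.Agent.H63

universe u v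

section local_defs
variable {G : Type u} [Group G]

/-- a 2-element -/
def Is2 (g : G) : Prop := ∃ m : ℕ, g ^ 2 ^ m = 1

/-- a vertex: an elementary abelian subgroup of order `q ^ 2` of `N` -/
structure Vx (N : Subgroup G) (q : ℕ) (E : Subgroup G) : Prop where
  le : E ≤ N
  sq : ∀ x ∈ E, x * x = 1
  card : Nat.card E = q ^ 2

/-- adjacent (incident) vertices -/
structure Adj (N : Subgroup G) (q : ℕ) (E F : Subgroup G) : Prop where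
  vl : Vx N q E
  vr : Vx N q F
  ne : E ≠ F
  inf : E ⊓ F ≠ ⊥

/-- conjugate under `N` -/
def Same (N E F : Subgroup G) : Prop := ∃ g ∈ N, cj g E = F

/-- the subgroup generated by the neighbours of `F` -/
def SS (N : Subgroup G) (q : ℕ) (F : Subgroup G) : Subgroup G :=
  closure {x | ∃ E, Adj N q E F ∧ x ∈ E}

/-- geometry at a flag -/
structure FA (N : Subgroup G) (q : ℕ) (E F : Subgroup G) : Prop where
  ns : ¬ Same N E F
  two : ∀ X, Vx N q X → Same N E X ∨ Same N F X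
  join : ∀ X Y, Same N E X → Same N E Y → X ≠ Y → ∃ M, Adj N q X M ∧ Adj N q Y M
  uniq : ∀ X Y M M', Same N E X → X ≠ Y → Adj N q X M → Adj N q Y M → Adj N q X M' →
    Adj N q Y M' → M = M'
  nb : Set.ncard {X | Adj N q X F} = q + 1
  cl : Set.ncard {X | Same N E X} = q ^ 2 + q + 1
  cov : ∀ t ∈ E, t ≠ 1 → ∃ M, Adj N q E M ∧ t ∈ M

/-- the Sylow subgroup `E ⊔ F` of a flag, with centre `E ⊓ F` -/
structure FB (N : Subgroup G) (q : ℕ) (E F : Subgroup G) : Prop where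
  cardZ : Nat.card ↥(E ⊓ F) = q
  syl : IsSylowIn 2 (E ⊔ F) N
  cardU : Nat.card ↥(E ⊔ F) = q ^ 3
  mul : ∀ u ∈ E ⊔ F, ∃ e ∈ E, ∃ f ∈ F, u = e * f
  inv : ∀ u ∈ E ⊔ F, u * u = 1 → u ∈ E ∨ u ∈ F
  comm : ∀ x ∈ E ⊔ F, ∀ y ∈ E ⊔ F, x * y * x⁻¹ * y⁻¹ ∈ E ⊓ F
  onto : ∀ x ∈ E ⊔ F, x ∉ E ⊓ F → ∀ z ∈ E ⊓ F, ∃ y ∈ E ⊔ F, x * y * x⁻¹ * y⁻¹ = z
  cen : ∀ x ∈ E, x ∉ F → ∀ y ∈ E ⊔ F, x * y = y * x → y ∈ E

/-- action of the flag on the vertices -/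
structure FC (N : Subgroup G) (q : ℕ) (E F : Subgroup G) : Prop where
  nrm : ∀ t ∈ E ⊓ F, t ≠ 1 → ∀ X, Same N E X → (t ∈ N[X] ↔ Adj N q X F)
  trF : ∀ X Y, Same N E X → Same N E Y → ¬ Adj N q X F → ¬ Adj N q Y F → ∃ f ∈ F, cj f X = Y
  trE : ∀ X Y, Adj N q X F → Adj N q Y F → X ≠ E → Y ≠ E → ∃ e ∈ E, cj e X = Y
  trZ : ∀ M X Y, Adj N q E M → M ≠ F → Adj N q X M → Adj N q Y M → X ≠ E → Y ≠ E →
    ∃ z ∈ E ⊓ F, cj z X = Y

/-- the group `SS F` -/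
structure FD (N : Subgroup G) (q : ℕ) (E F : Subgroup G) : Prop where
  trS : ∀ t ∈ F, ∀ t' ∈ F, t ≠ 1 → t' ≠ 1 → ∃ g ∈ SS N q F, g * t * g⁻¹ = t'
  three : ∀ g ∈ SS N q F, ∀ X Y, Adj N q X F → Adj N q Y F → X ≠ E → Y ≠ E → X ≠ Y →
    g ∈ N[E] → g ∈ N[X] → g ∈ N[Y] → g ∈ F
  swap : ∀ g ∈ SS N q F, ∀ Y, Adj N q Y F → Y ≠ E → g ∈ N[E] → g ∈ N[Y] →
    ∃ w ∈ SS N q F, cj w E = Y ∧ w * g * w⁻¹ * g ∈ F
  odd : SS N q F ⊓ SS N q E ≤ E ⊔ F → ∃ m, Odd m ∧ q = 2 ^ m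

/-- `SS F / F ≅ L₂(q)` -/
structure FE (N : Subgroup G) (q : ℕ) (F : Subgroup G) : Prop where
  cardS : Nat.card (SS N q F) = q ^ 3 * (q ^ 2 - 1)
  l2 : ∃ (K : Type) (_ : Field K) (_ : Fintype K), Fintype.card K = q ∧
    ∃ f : SS N q F →* Matrix.ProjectiveSpecialLinearGroup (Fin 2) K, Function.Surjective f ∧
      ∀ s : SS N q F, f s = 1 ↔ (s : G) ∈ F

/-- `N` looks like `L₃(q)`, `q` even -/
structure L3 (N : Subgroup G) (q : ℕ) : Prop where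
  simple : IsSimpleGroup N
  nonab : ¬ IsMulCommutative N
  pow : ∃ m, 1 ≤ m ∧ q = 2 ^ m
  c4 : q = 4 → Nat.card N = 20160
  ex : ∃ E F, Adj N q E F
  fa : ∀ {E F}, Adj N q E F → FA N q E F
  fb : ∀ {E F}, Adj N q E F → FB N q E F
  fc : ∀ {E F}, Adj N q E F → FC N q E F
  fd : ∀ {E F}, Adj N q E F → FD N q E F
  fe : ∀ {E F}, Adj N q E F → FE N q F

/-- easy consequences of `L3` -/
structure KA (N : Subgroup G) (q : ℕ) : Prop where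
  nbr : ∀ {E}, Vx N q E → ∃ F, Adj N q E F
  infBot : ∀ {X Y}, Vx N q X → Same N X Y → X ≠ Y → X ⊓ Y = ⊥
  sameAdj : ∀ {X Y F}, Adj N q X F → Adj N q Y F → Same N X Y
  uniq : ∀ {X Y M M'}, X ≠ Y → Adj N q X M → Adj N q Y M → Adj N q X M' → Adj N q Y M' → M = M'
  inZ : ∀ {E F X t}, Adj N q E F → t ∈ E ⊓ F → t ≠ 1 → Vx N q X → t ∈ X → X = E ∨ X = F
  inU : ∀ {E F X}, Adj N q E F → Vx N q X → X ≤ E ⊔ F → X = E ∨ X = F
  nE : ∀ {E F}, Adj N q E F → E ⊔ F ≤ N[F]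
  leSS : ∀ {E}, Vx N q E → E ≤ SS N q E
  third : ∀ {X Y F}, Adj N q X F → Adj N q Y F → ∃ W, Adj N q W F ∧ W ≠ X ∧ W ≠ Y
  move : ∀ {X Y}, Vx N q X → Same N X Y → X ≠ Y → ¬ X ≤ N[Y]
  stabU : ∀ {E F M}, Adj N q E F → Adj N q E M → M ≠ F → ∀ u ∈ E ⊔ F, u ∈ N[M] → u ∈ E
  borel : ∀ {E F}, Adj N q E F → ∀ g ∈ N, g ∈ N[E] → g ∈ N[F] → Is2 g → g ∈ E ⊔ F
  cenN : ∀ g ∈ N, g ∈ C[N] → g = 1
  cenU : ∀ {E F}, Adj N q E F → (E ⊔ F) ⊓ C[E ⊔ F] = E ⊓ F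
  sylow : ∀ {P}, IsSylowIn 2 P N → ∃ E F, Adj N q E F ∧ P = E ⊔ F
  normS : ∀ {E X}, Vx N q E → Vx N q X → SS N q E ≤ N[X] → X = E
  trN : ∀ {E X Y}, Adj N q X E → Adj N q Y E → ∃ s ∈ SS N q E, cj s X = Y
  swapU : ∀ {E F}, Adj N q E F → ∀ g ∈ N[N], g ∈ N[E ⊔ F] →
    (g ∈ N[E] ∧ g ∈ N[F]) ∨ (cj g E = F ∧ cj g F = E)
  flagTr : ∀ {E F E' F'}, Adj N q E F → Adj N q E' F' → Same N E E' →
    ∃ g ∈ N, cj g E = E' ∧ cj g F = F'
  notFix : ∀ {E}, Vx N q E → ¬ N ≤ N[E]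

/-- automorphisms fixing much are trivial -/
structure KB (N : Subgroup G) (q : ℕ) : Prop where
  a5 : ∀ {E}, Vx N q E → ∀ w ∈ N[N], (∀ X, Same N E X → w ∈ N[X]) → w ∈ C[N]
  a6 : ∀ {E F}, Adj N q E F → ∀ w ∈ N[N], w ∈ C[E ⊔ F] → ∃ z ∈ E ⊓ F, ∃ c ∈ C[N], w = z * c
  ck : ∀ {E}, Vx N q E → ∀ w ∈ N[N], w ∈ C[SS N q E] → w ∈ C[N]

/-- automorphisms acting on a Sylow subgroup -/
structure KC (N : Subgroup G) (q : ℕ) : Prop where
  a6' : ∀ {E F}, Adj N q E F → ∀ w ∈ N[N], (∀ y ∈ E ⊔ F, w * y * w⁻¹ * y⁻¹ ∈ E ⊓ F) →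
    ∃ y ∈ E ⊔ F, ∃ c ∈ C[N], w = y * c
  a7 : ∀ {E F}, Adj N q E F → ∀ w ∈ N[N], w ∈ N[E] → w ∈ N[F] → Is2 w → w ∈ C[E ⊓ F] →
    ∃ y ∈ E ⊔ F, ∃ c ∈ C[N], w = y * c
  a8 : ∀ {E F}, Adj N q E F → ∀ w ∈ N[N], w ∈ N[F] → Is2 w →
    (∀ y ∈ E ⊔ F, w * y * w⁻¹ * y⁻¹ ∈ E) → w ∈ C[E ⊓ F]

/-- overgroups of a Sylow subgroup -/
structure KD (N : Subgroup G) (q : ℕ) : Prop where
  ov1 : ∀ {E F K}, Adj N q E F → E ⊔ F ≤ K → K ≤ N → K ≠ N → K ≤ N[E] ∨ K ≤ N[F]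
  ov2 : ∀ {E F K}, Adj N q E F → E ⊔ F ≤ K → K ≤ N → K ≤ N[E] → ¬ K ≤ N[F] → SS N q E ≤ K

/-- everything about `N` -/
structure Kit (N : Subgroup G) (q : ℕ) : Prop where
  l3 : L3 N q
  ka : KA N q
  kb : KB N q
  kc : KC N q
  kd : KD N q

end local_defs

section model
variable {G : Type u} [Group G] {K : Type} [Field K]
open Matrix Cfsg.Agent.H32

/-- `π` maps `SL₃(K)` onto `N` with kernel the centre -/
structure Md (π : SpecialLinearGroup (Fin 3) K →* G) (N : Subgroup G) : Prop where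
  range : π.range = N
  ker : ∀ g, π g = 1 ↔ g ∈ center (SpecialLinearGroup (Fin 3) K)
  two : (2 : K) = 0

/-- transvections with centre `v` -/
def EP (π : SpecialLinearGroup (Fin 3) K →* G) (v : Fin 3 → K) : Subgroup G where
  carrier := {x | ∃ φ : Fin 3 → K, φ ⬝ᵥ v = 0 ∧ x = π (ts v φ)}
  one_mem' := ⟨0, zero_dotProduct v, by rw [ts_zero_right, map_one]⟩
  mul_mem' := by
    rintro _ _ ⟨φ, h, rfl⟩ ⟨ψ, h', rfl⟩
    exact ⟨φ + ψ, by rw [add_dotProduct, h, h', add_zero], by rw [ts_add_right h h', map_mul]⟩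
  inv_mem' := by
    rintro _ ⟨φ, h, rfl⟩
    exact ⟨-φ, by rw [neg_dotProduct, h, neg_zero], by rw [← map_inv, ts_inv h]⟩

/-- transvections with axis `φ` -/
def FL (π : SpecialLinearGroup (Fin 3) K →* G) (φ : Fin 3 → K) : Subgroup G where
  carrier := {x | ∃ v : Fin 3 → K, φ ⬝ᵥ v = 0 ∧ x = π (ts v φ)}
  one_mem' := ⟨0, dotProduct_zero φ, by rw [ts_zero_left, map_one]⟩
  mul_mem' := by
    rintro _ _ ⟨v, h, rfl⟩ ⟨w, h', rfl⟩
    exact ⟨v + w, by rw [dotProduct_add, h, h', add_zero], by rw [ts_add_left h h', map_mul]⟩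
  inv_mem' := by
    rintro _ ⟨v, h, rfl⟩
    refine ⟨-v, by rw [dotProduct_neg, h, neg_zero], ?_⟩
    rw [← map_inv, ts_inv h, ← neg_one_smul K φ, ← ts_smul h, neg_one_smul]

theorem mem_EP {π : SpecialLinearGroup (Fin 3) K →* G} {v : Fin 3 → K} {x : G} :
    x ∈ EP π v ↔ ∃ φ : Fin 3 → K, φ ⬝ᵥ v = 0 ∧ x = π (ts v φ) := Iff.rfl

theorem mem_FL {π : SpecialLinearGroup (Fin 3) K →* G} {φ : Fin 3 → K} {x : G} :
    x ∈ FL π φ ↔ ∃ v : Fin 3 → K, φ ⬝ᵥ v = 0 ∧ x = π (ts v φ) := Iff.rfl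

theorem cj_EP (π : SpecialLinearGroup (Fin 3) K →* G) (g : SpecialLinearGroup (Fin 3) K)
    (v : Fin 3 → K) : cj (π g) (EP π v) = EP π ((g : Matrix (Fin 3) (Fin 3) K) *ᵥ v) := by
  have key : ∀ (g : SpecialLinearGroup (Fin 3) K) (v : Fin 3 → K),
      cj (π g) (EP π v) ≤ EP π ((g : Matrix (Fin 3) (Fin 3) K) *ᵥ v) := by
    rintro g v _ ⟨_, ⟨φ, h, rfl⟩, rfl⟩
    refine ⟨φ ᵥ* ((g⁻¹ : SpecialLinearGroup (Fin 3) K) : Matrix (Fin 3) (Fin 3) K), ?_, ?_⟩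
    · rw [← dotProduct_mulVec, mulVec_mulVec, sl_inv_mul, one_mulVec, h]
    · rw [← conj_ts]; simp
  refine le_antisymm (key g v) ?_
  have := key g⁻¹ ((g : Matrix (Fin 3) (Fin 3) K) *ᵥ v)
  rw [mulVec_mulVec, sl_inv_mul, one_mulVec, map_inv, cj_le_iff, inv_inv] at this
  exact this

theorem cj_FL (π : SpecialLinearGroup (Fin 3) K →* G) (g : SpecialLinearGroup (Fin 3) K)
    (φ : Fin 3 → K) : cj (π g) (FL π φ) =
      FL π (φ ᵥ* ((g⁻¹ : SpecialLinearGroup (Fin 3) K) : Matrix (Fin 3) (Fin 3) K)) := by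
  have key : ∀ (g : SpecialLinearGroup (Fin 3) K) (φ : Fin 3 → K), cj (π g) (FL π φ) ≤
      FL π (φ ᵥ* ((g⁻¹ : SpecialLinearGroup (Fin 3) K) : Matrix (Fin 3) (Fin 3) K)) := by
    rintro g φ _ ⟨_, ⟨v, h, rfl⟩, rfl⟩
    refine ⟨(g : Matrix (Fin 3) (Fin 3) K) *ᵥ v, ?_, ?_⟩
    · rw [← dotProduct_mulVec, mulVec_mulVec, sl_inv_mul, one_mulVec, h]
    · rw [← conj_ts]; simp
  refine le_antisymm (key g φ) ?_
  have := key g⁻¹ (φ ᵥ* ((g⁻¹ : SpecialLinearGroup (Fin 3) K) : Matrix (Fin 3) (Fin 3) K))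
  rw [inv_inv, vecMul_vecMul, sl_inv_mul, vecMul_one, map_inv, cj_le_iff, inv_inv] at this
  exact this

/-- the dictionary between vertices and points / lines -/
structure MK (π : SpecialLinearGroup (Fin 3) K →* G) (N : Subgroup G) (q : ℕ) : Prop where
  md : Md π N
  inj : ∀ v φ w ψ : Fin 3 → K, φ ⬝ᵥ v = 0 → ψ ⬝ᵥ w = 0 → π (ts v φ) = π (ts w ψ) →
    vecMulVec v φ = vecMulVec w ψ
  vx : ∀ X, Vx N q X ↔ (∃ v, v ≠ 0 ∧ X = EP π v) ∨ (∃ φ, φ ≠ 0 ∧ X = FL π φ)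
  eqE : ∀ v w : Fin 3 → K, v ≠ 0 → w ≠ 0 → (EP π v = EP π w ↔ ∃ c : K, w = c • v)
  eqF : ∀ φ ψ : Fin 3 → K, φ ≠ 0 → ψ ≠ 0 → (FL π φ = FL π ψ ↔ ∃ c : K, ψ = c • φ)
  adjF : ∀ (X : Subgroup G) (φ : Fin 3 → K), φ ≠ 0 →
    (Adj N q X (FL π φ) ↔ ∃ v, v ≠ 0 ∧ φ ⬝ᵥ v = 0 ∧ X = EP π v)
  adjE : ∀ (X : Subgroup G) (v : Fin 3 → K), v ≠ 0 →
    (Adj N q (EP π v) X ↔ ∃ φ, φ ≠ 0 ∧ φ ⬝ᵥ v = 0 ∧ X = FL π φ)
  adj : ∀ v φ : Fin 3 → K, v ≠ 0 → φ ≠ 0 → (Adj N q (EP π v) (FL π φ) ↔ φ ⬝ᵥ v = 0)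
  sameE : ∀ (X : Subgroup G) (v : Fin 3 → K), v ≠ 0 →
    (Same N (EP π v) X ↔ ∃ w, w ≠ 0 ∧ X = EP π w)
  sameF : ∀ (X : Subgroup G) (φ : Fin 3 → K), φ ≠ 0 →
    (Same N (FL π φ) X ↔ ∃ ψ, ψ ≠ 0 ∧ X = FL π ψ)
  neEF : ∀ v φ : Fin 3 → K, v ≠ 0 → φ ≠ 0 → EP π v ≠ FL π φ
  memZ : ∀ (v φ : Fin 3 → K) (x : G), v ≠ 0 → φ ≠ 0 → φ ⬝ᵥ v = 0 →
    (x ∈ EP π v ⊓ FL π φ ↔ ∃ c : K, x = π (ts v (c • φ)))

end model

/-- a statement about all flags `(EP v, FL φ)` of the model -/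
def ModFor (P : ∀ {G : Type u} [Group G], Subgroup G → ℕ → Subgroup G → Subgroup G → Prop) : Prop :=
  ∀ (G : Type u) [Group G] [Finite G] (K : Type) [Field K] [Fintype K]
    (π : Matrix.SpecialLinearGroup (Fin 3) K →* G) (N : Subgroup G),
    MK π N (Fintype.card K) → ∀ v φ : Fin 3 → K, v ≠ 0 → φ ≠ 0 → φ ⬝ᵥ v = 0 →
      P N (Fintype.card K) (EP π v) (FL π φ)

def M0Stmt : Prop :=
  ∀ (G : Type u) [Group G] [Finite G] (K : Type) [Field K] [Fintype K]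
    (π : Matrix.SpecialLinearGroup (Fin 3) K →* G) (N : Subgroup G),
    Md π N → MK π N (Fintype.card K)

def MAStmt : Prop := ModFor.{u} FA
def MBStmt : Prop := ModFor.{u} FB
def MCStmt : Prop := ModFor.{u} FC
def MDStmt : Prop := ModFor.{u} FD
def MEStmt : Prop := ModFor.{u} fun N q _ F => FE N q F

def ModStmt : Prop :=
  ∀ (G : Type u) [Group G] [Finite G] (N : Subgroup G) (K : Type) [Field K] [Fintype K] (n : ℕ),
    Fintype.card K = 2 ^ n → 1 ≤ n →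
    Nonempty (N ≃* Matrix.ProjectiveSpecialLinearGroup (Fin 3) K) → L3 N (2 ^ n)

/-- assembly of the model (duality: compose `π` with the inverse transpose) -/
def MXStmt : Prop :=
  M0Stmt.{u} → MAStmt.{u} → MBStmt.{u} → MCStmt.{u} → MDStmt.{u} → MEStmt.{u} → ModStmt.{u}

def KAStmt : Prop :=
  ∀ (G : Type u) [Group G] [Finite G] (N : Subgroup G) (q : ℕ), L3 N q → KA N q
def KBStmt : Prop :=
  ∀ (G : Type u) [Group G] [Finite G] (N : Subgroup G) (q : ℕ), L3 N q → KA N q → KB N q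
def KCStmt : Prop :=
  ∀ (G : Type u) [Group G] [Finite G] (N : Subgroup G) (q : ℕ), L3 N q → KA N q → KB N q → KC N q
def KDStmt : Prop :=
  ∀ (G : Type u) [Group G] [Finite G] (N : Subgroup G) (q : ℕ), L3 N q → KA N q → KD N q

section global_defs
variable {G : Type u} [Group G] {Ω : Type v} [MulAction G Ω]

/-- the setup: `NN x` is the normal subgroup of the stabiliser of `x` -/
structure St (NN : Ω → Subgroup G) (q : ℕ) : Prop where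
  two : Two G Ω
  nt : ∃ x y : Ω, x ≠ y
  even : Even (Nat.card Ω)
  smul : ∀ (g : G) (x : Ω), NN (g • x) = cj g (NN x)
  fix : ∀ x, NN x ≤ stabilizer G x
  kit : ∀ x, Kit (NN x) q

/-- the fixed points of a subgroup -/
def Fx (Ω : Type v) [MulAction G Ω] (H : Subgroup G) : Set Ω := {x | H ≤ stabilizer G x}

/-- the pointwise stabiliser of the fixed points of `F` -/
def JJ (Ω : Type v) [MulAction G Ω] (F : Subgroup G) : Subgroup G :=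
  ⨅ x ∈ Fx Ω F, stabilizer G x

/-- generated by the 2-elements of `NN x` fixing `y` -/
def UU (NN : Ω → Subgroup G) (x y : Ω) : Subgroup G :=
  closure {g | g ∈ NN x ∧ g • y = y ∧ Is2 g}

/-- the centre of `UU` -/
def ZZ (NN : Ω → Subgroup G) (x y : Ω) : Subgroup G := UU NN x y ⊓ C[UU NN x y]

/-- Borel case -/
def BK (NN : Ω → Subgroup G) (q : ℕ) : Prop :=
  ∀ x y, x ≠ y → ∃ E F, Adj (NN x) q E F ∧ UU NN x y = E ⊔ F ∧ ZZ NN x y = E ⊓ F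

/-- parabolic case -/
def PK (NN : Ω → Subgroup G) (q : ℕ) : Prop :=
  ∀ x y, x ≠ y → ∃ E, Vx (NN x) q E ∧ NN x ⊓ stabilizer G y ≤ N[E] ∧
    SS (NN x) q E ≤ stabilizer G y

def ZLe (NN : Ω → Subgroup G) : Prop := ∀ x y, x ≠ y → ZZ NN x y ≤ NN y
def ZSym (NN : Ω → Subgroup G) : Prop := ∀ x y, x ≠ y → ZZ NN x y = ZZ NN y x
def FixEq (NN : Ω → Subgroup G) : Prop :=
  ∀ x y p : Ω, x ≠ y → UU NN x y ≤ stabilizer G p → UU NN y x ≤ stabilizer G p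
def USym (NN : Ω → Subgroup G) : Prop := ∀ x y, x ≠ y → UU NN x y = UU NN y x

/-- the outcome of B4a -/
def B4c (NN : Ω → Subgroup G) (q : ℕ) : Prop :=
  q = 2 ∧ ∀ x y E F, x ≠ y → Adj (NN x) q E F → UU NN x y = E ⊔ F →
    (∀ w ∈ UU NN y x, w ∈ N[E] → w ∈ UU NN x y) ∧ E ⊓ UU NN y x ≤ F

/-- the outcome of B5a -/
def B5c (NN : Ω → Subgroup G) (q : ℕ) : Prop :=
  q = 2 ∧ ∀ x y p : Ω, x ≠ y → UU NN x y ≤ stabilizer G p → p = x ∨ p = y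

/-- lines: `EE x y` is a vertex of `NN x` and of `NN y` -/
structure Ln (NN : Ω → Subgroup G) (q : ℕ) (EE : Ω → Ω → Subgroup G) : Prop where
  vx : ∀ {x y}, x ≠ y → Vx (NN x) q (EE x y)
  symm : ∀ x y, x ≠ y → EE x y = EE y x
  smul : ∀ (g : G) {x y}, x ≠ y → EE (g • x) (g • y) = cj g (EE x y)
  fixl : ∀ {x y p}, x ≠ y → x ≠ p → EE x y ≤ stabilizer G p → EE x p = EE x y
  same : ∀ {x y p}, x ≠ y → x ≠ p → Same (NN x) (EE x y) (EE x p)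

/-- lines in the parabolic case -/
structure PL (NN : Ω → Subgroup G) (q : ℕ) (EE : Ω → Ω → Subgroup G) : Prop where
  st : St NN q
  ln : Ln NN q EE
  sS : ∀ {x y}, x ≠ y → SS (NN x) q (EE x y) ≤ stabilizer G y

/-- `F` is a plane group at `a` -/
def Pln (NN : Ω → Subgroup G) (q : ℕ) (EE : Ω → Ω → Subgroup G) (a : Ω) (F : Subgroup G) : Prop :=
  ∃ y, a ≠ y ∧ Adj (NN a) q (EE a y) F

structure P2a (NN : Ω → Subgroup G) (q : ℕ) (EE : Ω → Ω → Subgroup G) : Prop where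
  fixt : ∀ {a F}, Pln NN q EE a F → ∀ t ∈ F, t ≠ 1 → ∀ z, a ≠ z →
    (t • z = z ↔ Adj (NN a) q (EE a z) F)
  fixF : ∀ {a F}, Pln NN q EE a F → ∀ z, a ≠ z → (z ∈ Fx Ω F ↔ Adj (NN a) q (EE a z) F)
  fj : ∀ {a F}, Pln NN q EE a F → ∀ j ∈ JJ Ω F, j ∈ C[F] → j ∈ F
  nJ : ∀ {a F}, Pln NN q EE a F → JJ Ω F ≤ N[F]

structure P2b (NN : Ω → Subgroup G) (q : ℕ) (EE : Ω → Ω → Subgroup G) : Prop where
  pl : ∀ {a F x}, Pln NN q EE a F → x ∈ Fx Ω F → Pln NN q EE x F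
  adj : ∀ {x y p M}, x ≠ y → p ∈ Fx Ω (EE x y) → Adj (NN x) q (EE x y) M →
    Adj (NN p) q (EE x y) M
  ss : ∀ {x y p}, x ≠ y → p ∈ Fx Ω (EE x y) → SS (NN p) q (EE x y) = SS (NN x) q (EE x y)

structure P3a (NN : Ω → Subgroup G) (q : ℕ) (EE : Ω → Ω → Subgroup G) (k : ℕ) : Prop where
  line : ∀ {x y}, x ≠ y → (Fx Ω (EE x y)).ncard = k
  two : 2 ≤ k
  even : Even k
  le : k ≤ q + 1
  plane : ∀ {a F}, Pln NN q EE a F → (Fx Ω F).ncard = 1 + (q + 1) * (k - 1)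
  all : Nat.card Ω = 1 + (q ^ 2 + q + 1) * (k - 1)

structure P3b (NN : Ω → Subgroup G) (q : ℕ) (EE : Ω → Ω → Subgroup G) : Prop where
  tr2 : ∀ {a F}, Pln NN q EE a F → ∀ x ∈ Fx Ω F, ∀ y ∈ Fx Ω F, ∀ x' ∈ Fx Ω F, ∀ y' ∈ Fx Ω F,
    x ≠ y → x' ≠ y' → ∃ g ∈ N[F], g • x = x' ∧ g • y = y'
  three : ∀ a x y : Ω, ∃ F, Pln NN q EE a F ∧ x ∈ Fx Ω F ∧ y ∈ Fx Ω F
  uniq : ∀ {a x y F F'}, Pln NN q EE a F → Pln NN q EE a F' → a ≠ x → y ∉ Fx Ω (EE a x) →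
    x ∈ Fx Ω F → y ∈ Fx Ω F → x ∈ Fx Ω F' → y ∈ Fx Ω F' → F = F'
  jS : ∀ {x F}, Pln NN q EE x F → ∀ g ∈ JJ Ω F, g ∈ SS (NN x) q F → g ∈ F
  nJ : ∀ {x F}, Pln NN q EE x F → ¬ SS (NN x) q F ≤ JJ Ω F

/-- all the geometry of the parabolic case -/
structure PG (NN : Ω → Subgroup G) (q : ℕ) (EE : Ω → Ω → Subgroup G) (k : ℕ) : Prop where
  pl : PL NN q EE
  p2a : P2a NN q EE
  p2b : P2b NN q EE
  p3a : P3a NN q EE k
  p3b : P3b NN q EE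

/-- the preimage of a regular normal subgroup of `N(F) / J` on the plane `Fx F` -/
structure RT (Ω : Type v) [MulAction G Ω] (F R : Subgroup G) : Prop where
  jle : JJ Ω F ≤ R
  le : R ≤ N[F]
  nrm : N[F] ≤ N[R]
  tr : ∀ x ∈ Fx Ω F, ∀ y ∈ Fx Ω F, ∃ r ∈ R, r • x = y
  reg : ∀ r ∈ R, ∀ x ∈ Fx Ω F, r • x = x → r ∈ JJ Ω F
  sq : ∀ r ∈ R, r * r ∈ JJ Ω F
  comm : ∀ r ∈ R, ∀ s ∈ R, r * s * r⁻¹ * s⁻¹ ∈ JJ Ω F

/-- `NN a` is transitive on the other points -/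
def Tr (NN : Ω → Subgroup G) : Prop := ∀ a x y : Ω, x ≠ a → y ≠ a → ∃ g ∈ NN a, g • x = y

/-- the translation from `a` to `x` -/
def Tau (NN : Ω → Subgroup G) (q : ℕ) (EE : Ω → Ω → Subgroup G) (F R : Subgroup G) (a x : Ω) :
    Prop :=
  ∃ τ ∈ R, τ ∈ C[F] ∧ τ ∈ C[SS (NN a) q (EE a x)] ∧ τ • a = x ∧ τ * τ = 1

end global_defs

/-- quantification over the setups -/
def ForAll (P : ∀ {G : Type u} [Group G] {Ω : Type v} [MulAction G Ω], (Ω → Subgroup G) → ℕ → Prop) :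
    Prop :=
  ∀ (G : Type u) (Ω : Type v) [Group G] [Finite G] [Finite Ω] [MulAction G Ω] [FaithfulSMul G Ω]
    (NN : Ω → Subgroup G) (q : ℕ), St NN q → P NN q

/-- quantification over the setups with lines -/
def ForPL (P : ∀ {G : Type u} [Group G] {Ω : Type v} [MulAction G Ω], (Ω → Subgroup G) → ℕ →
    (Ω → Ω → Subgroup G) → Prop) : Prop :=
  ∀ (G : Type u) (Ω : Type v) [Group G] [Finite G] [Finite Ω] [MulAction G Ω] [FaithfulSMul G Ω]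
    (NN : Ω → Subgroup G) (q : ℕ) (EE : Ω → Ω → Subgroup G), PL NN q EE → P NN q EE

/-- quantification over the setups with planes -/
def ForPG (P : ∀ {G : Type u} [Group G] {Ω : Type v} [MulAction G Ω], (Ω → Subgroup G) → ℕ →
    (Ω → Ω → Subgroup G) → ℕ → Prop) : Prop :=
  ∀ (G : Type u) (Ω : Type v) [Group G] [Finite G] [Finite Ω] [MulAction G Ω] [FaithfulSMul G Ω]
    (NN : Ω → Subgroup G) (q : ℕ) (EE : Ω → Ω → Subgroup G) (k : ℕ), PG NN q EE k → P NN q EE k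

def G0Stmt : Prop := ForAll.{u, v} fun NN q => PK NN q ∨ BK NN q
def B1Stmt : Prop := ForAll.{u, v} fun NN q => BK NN q → ZLe NN
def B2Stmt : Prop := ForAll.{u, v} fun NN q => BK NN q → ZLe NN → ZSym NN
def B3aStmt : Prop := ForAll.{u, v} fun NN q => BK NN q → ZSym NN → ¬ FixEq NN →
  ∃ EE, Ln NN q EE ∧ ∀ x y, x ≠ y → EE x y ≤ UU NN x y
def B3bStmt : Prop := ForAll.{u, v} fun NN q => BK NN q → ZSym NN → ¬ FixEq NN →
  ∀ EE, Ln NN q EE → (∀ x y, x ≠ y → EE x y ≤ UU NN x y) → False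
def B4aStmt : Prop := ForAll.{u, v} fun NN q => BK NN q → ZSym NN → FixEq NN → ¬ USym NN → B4c NN q
def B4bStmt : Prop := ForAll.{u, v} fun NN q => BK NN q → FixEq NN → B4c NN q → False
def B5aStmt : Prop := ForAll.{u, v} fun NN q => BK NN q → USym NN → B5c NN q
def B5bStmt : Prop := ForAll.{u, v} fun {G} _ {Ω} _ NN q => BK NN q → B5c NN q →
  Nat.card Ω = 22 ∧ ∃ a b : Ω, a ≠ b ∧ (Nat.card ↥(stabilizer G a ⊓ stabilizer G b) = 8 ∨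
    Nat.card ↥(stabilizer G a ⊓ stabilizer G b) = 16)
def B6Stmt : Prop :=
  ∀ (G : Type u) (Ω : Type v) [Group G] [Finite G] [Finite Ω] [MulAction G Ω] [FaithfulSMul G Ω],
    Two G Ω → Nat.card Ω = 22 → ∀ a b : Ω, a ≠ b →
    (Nat.card ↥(stabilizer G a ⊓ stabilizer G b) = 8 ∨
      Nat.card ↥(stabilizer G a ⊓ stabilizer G b) = 16) → False

def P1Stmt : Prop := ForAll.{u, v} fun NN q => PK NN q → ∃ EE, PL NN q EE
def P2aStmt : Prop := ForPL.{u, v} fun NN q EE => P2a NN q EE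
def P2bStmt : Prop := ForPL.{u, v} fun NN q EE => P2a NN q EE → P2b NN q EE
def P3aStmt : Prop := ForPL.{u, v} fun NN q EE => P2a NN q EE → P2b NN q EE → ∃ k, P3a NN q EE k
def P3bStmt : Prop := ForPL.{u, v} fun NN q EE => P2a NN q EE → P2b NN q EE → P3b NN q EE
def P4Stmt : Prop := ForPG.{u, v} fun {_} _ {Ω} _ NN q EE k => ∀ a F, Pln NN q EE a F →
  (q = 4 ∧ k = 2) ∨ ∃ R, RT Ω F R
def P5aStmt : Prop := ForPG.{u, v} fun {_} _ {Ω} _ NN q EE k => ∀ a F R, Pln NN q EE a F →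
  RT Ω F R → k = q
def P5bStmt : Prop := ForPG.{u, v} fun {_} _ {Ω} _ NN q EE _ => ∀ a b F R, a ≠ b →
  Adj (NN a) q (EE a b) F → RT Ω F R → ∀ g ∈ SS (NN a) q F, g • b = b → g ∈ EE a b ⊔ F
def P5cStmt : Prop := ForPG.{u, v} fun NN q EE k => k = q →
  (∀ a b F, a ≠ b → Adj (NN a) q (EE a b) F → ∀ g ∈ SS (NN a) q F, g • b = b → g ∈ EE a b ⊔ F) →
  Tr NN ∧ ∃ m, Odd m ∧ q = 2 ^ m
def P6Stmt : Prop := ForPG.{u, v} fun {_} _ {Ω} _ NN q EE _ => ∀ a F R, Pln NN q EE a F →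
  RT Ω F R → ∀ x ∈ Fx Ω F, ∃ r ∈ R, r ∈ C[F] ∧ r • a = x
def P7Stmt : Prop := ForPG.{u, v} fun {_} _ {Ω} _ NN q EE _ => ∀ a F R x, Pln NN q EE a F →
  RT Ω F R → x ∈ Fx Ω F → a ≠ x → (∃ r ∈ R, r ∈ C[F] ∧ r • a = x) → Tau NN q EE F R a x
def P8Stmt : Prop := ForPG.{u, v} fun {G} _ {Ω} _ NN q EE _ => Tr NN →
  (∀ a F, Pln NN q EE a F → ∃ R, RT Ω F R ∧ ∀ x ∈ Fx Ω F, a ≠ x → Tau NN q EE F R a x) → RNS G Ω
def P9Stmt : Prop := ForPG.{u, v} fun {G} _ {Ω} _ NN q _ k => q = 4 → k = 2 →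
  Nat.card Ω = 22 ∧ Tr NN ∧
    (Cfsg.Spor.IsoM22 G ∨ ∃ H : Subgroup G, H.index = 2 ∧ Cfsg.Spor.IsoM22 ↥H)

section api
variable {G : Type u} [Group G] {N E F X : Subgroup G} {q : ℕ} {g : G}

theorem Is2.one : Is2 (1 : G) := ⟨0, one_pow _⟩
theorem Is2.of_sq {x : G} (h : x * x = 1) : Is2 x := ⟨1, by rw [pow_one, sq, h]⟩
theorem Is2.of_mem {P : Subgroup G} (hP : IsPGroup 2 P) {x : G} (hx : x ∈ P) : Is2 x :=
  isPGroup_iff.1 hP x hx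
theorem Is2.conj {x : G} (h : Is2 x) (g : G) : Is2 (g * x * g⁻¹) := by
  obtain ⟨m, hm⟩ := h
  exact ⟨m, by rw [conj_pow', hm]; group⟩

theorem Vx.comm (h : Vx N q E) {x y : G} (hx : x ∈ E) (hy : y ∈ E) : x * y = y * x := by
  have h1 := h.sq _ (E.mul_mem hx hy)
  have h2 : x⁻¹ = x := inv_eq_of_mul_eq_one_right (h.sq x hx)
  have h3 : y⁻¹ = y := inv_eq_of_mul_eq_one_right (h.sq y hy)
  have h4 : (x * y)⁻¹ = x * y := inv_eq_of_mul_eq_one_right h1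
  rw [← h4, mul_inv_rev, h2, h3]

theorem Vx.inv_eq (h : Vx N q E) {x : G} (hx : x ∈ E) : x⁻¹ = x :=
  inv_eq_of_mul_eq_one_right (h.sq x hx)

theorem Vx.isPGroup (h : Vx N q E) : IsPGroup 2 E :=
  isPGroup_iff.2 fun x hx => Is2.of_sq (h.sq x hx)

theorem Vx.cj' (h : Vx N q E) (g : G) : Vx (cj g N) q (cj g E) where
  le := cj_mono g h.le
  sq := by
    rintro _ ⟨x, hx, rfl⟩
    rw [← map_mul, h.sq x hx, map_one]
  card := (card_cj g E).trans h.card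

theorem Vx.cj (h : Vx N q E) (hg : g ∈ N[N]) : Vx N q (cj g E) := by
  have := h.cj' g
  rwa [cj_eq_self hg] at this

theorem Adj.symm (h : Adj N q E F) : Adj N q F E :=
  ⟨h.vr, h.vl, h.ne.symm, by rw [inf_comm]; exact h.inf⟩

theorem Adj.cj' (h : Adj N q E F) (g : G) : Adj (cj g N) q (cj g E) (cj g F) :=
  ⟨h.vl.cj' g, h.vr.cj' g, fun e => h.ne (cj_inj.1 e), by
    rw [← cj_inf, Ne, cj_eq_bot_iff]; exact h.inf⟩

theorem Adj.cj (h : Adj N q E F) (hg : g ∈ N[N]) : Adj N q (cj g E) (cj g F) := by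
  have := h.cj' g
  rwa [cj_eq_self hg] at this

theorem Adj.exists_ne (h : Adj N q E F) : ∃ t ∈ E ⊓ F, t ≠ 1 := by
  by_contra hc
  push Not at hc
  exact h.inf ((eq_bot_iff_forall _).2 hc)

theorem Same.refl (N E : Subgroup G) : Same N E E := ⟨1, N.one_mem, cj_one E⟩

theorem Same.symm (h : Same N E F) : Same N F E := by
  obtain ⟨g, hg, rfl⟩ := h
  exact ⟨g⁻¹, N.inv_mem hg, cj_inv_cj g E⟩

theorem Same.trans (h : Same N E F) (h' : Same N F X) : Same N E X := by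
  obtain ⟨g, hg, rfl⟩ := h
  obtain ⟨g', hg', rfl⟩ := h'
  exact ⟨g' * g, N.mul_mem hg' hg, cj_mul _ _ _⟩

theorem Same.vx (h : Same N E F) (hE : Vx N q E) : Vx N q F := by
  obtain ⟨g, hg, rfl⟩ := h
  exact hE.cj (le_normalizer hg)

theorem Same.cj' (h : Same N E F) (g : G) : Same (cj g N) (cj g E) (cj g F) := by
  obtain ⟨n, hn, rfl⟩ := h
  refine ⟨g * n * g⁻¹, conj_mem_cj hn, ?_⟩
  rw [← cj_mul, ← cj_mul, inv_mul_cancel_right]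

theorem Same.cj (h : Same N E F) (hg : g ∈ N[N]) : Same N (cj g E) (cj g F) := by
  have := h.cj' g
  rwa [cj_eq_self hg] at this

theorem Adj.le_SS (h : Adj N q E F) : E ≤ SS N q F := fun _ hx => subset_closure ⟨E, h, hx⟩

theorem SS_le {K : Subgroup G} (h : ∀ E, Adj N q E F → E ≤ K) : SS N q F ≤ K :=
  (closure_le _).2 fun _ ⟨E, hE, hx⟩ => h E hE hx

theorem SS_le_N : SS N q F ≤ N := SS_le fun _ h => h.vl.le

theorem cj_SS' (g : G) (N : Subgroup G) (q : ℕ) (F : Subgroup G) :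
    cj g (SS N q F) = SS (cj g N) q (cj g F) := by
  have key : ∀ (g : G) (N F : Subgroup G), cj g (SS N q F) ≤ SS (cj g N) q (cj g F) :=
    fun g N F => cj_le_iff.2 (SS_le fun E h => cj_le_iff.1 (h.cj' g).le_SS)
  refine le_antisymm (key g N F) ?_
  have := key g⁻¹ (cj g N) (cj g F)
  rwa [cj_inv_cj, cj_inv_cj, cj_le_iff, inv_inv] at this

theorem cj_SS (hg : g ∈ N[N]) (F : Subgroup G) : cj g (SS N q F) = SS N q (cj g F) := by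
  rw [cj_SS', cj_eq_self hg]

theorem mem_norm_SS (hg : g ∈ N[N]) (hF : g ∈ N[F]) : g ∈ N[SS N q F] :=
  cj_eq_self_iff.1 (by rw [cj_SS hg, cj_eq_self hF])

theorem L3.two_le (h : L3 N q) : 2 ≤ q := by
  obtain ⟨m, hm, rfl⟩ := h.pow
  exact (pow_one 2).symm.le.trans (Nat.pow_le_pow_right (by norm_num) hm)

variable {Ω : Type v} [MulAction G Ω] {NN : Ω → Subgroup G} {EE : Ω → Ω → Subgroup G}

theorem mem_Fx {H : Subgroup G} {x : Ω} : x ∈ Fx Ω H ↔ H ≤ stabilizer G x := Iff.rfl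

theorem mem_JJ {j : G} : j ∈ JJ Ω F ↔ ∀ x ∈ Fx Ω F, j • x = x := by
  simp only [JJ, mem_iInf, mem_stabilizer_iff]

theorem le_JJ (F : Subgroup G) : F ≤ JJ Ω F := fun _ hj => mem_JJ.2 fun _ hx => hx hj

theorem cj_stab (g : G) (x : Ω) : cj g (stabilizer G x) = stabilizer G (g • x) := by
  ext y
  rw [mem_cj, mem_stabilizer_iff, mem_stabilizer_iff, mul_smul, mul_smul, inv_smul_eq_iff]

theorem smul_mem_Fx {H : Subgroup G} {x : Ω} : g • x ∈ Fx Ω (cj g H) ↔ x ∈ Fx Ω H := by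
  rw [mem_Fx, mem_Fx, ← cj_stab, cj_le_cj_iff]

theorem smul_mem_Fx_of {H : Subgroup G} {x : Ω} (hg : g ∈ N[H]) (hx : x ∈ Fx Ω H) :
    g • x ∈ Fx Ω H := by
  rw [← cj_eq_self hg]; exact smul_mem_Fx.2 hx

theorem cj_JJ (g : G) (F : Subgroup G) : cj g (JJ Ω F) = JJ Ω (cj g F) := by
  ext j
  rw [mem_cj, mem_JJ, mem_JJ]
  constructor
  · intro h x hx
    have := h (g⁻¹ • x) (smul_mem_Fx.1 (by rwa [smul_inv_smul]))
    rwa [mul_smul, mul_smul, smul_inv_smul, smul_left_cancel_iff] at this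
  · intro h x hx
    rw [mul_smul, mul_smul, h _ (smul_mem_Fx.2 hx), inv_smul_smul]

theorem norm_le_norm_JJ (F : Subgroup G) : N[F] ≤ N[JJ Ω F] := fun g hg =>
  cj_eq_self_iff.1 (by rw [cj_JJ, cj_eq_self hg])

theorem mem_UU {x y : Ω} (h1 : g ∈ NN x) (h2 : g • y = y) (h3 : Is2 g) : g ∈ UU NN x y :=
  subset_closure ⟨h1, h2, h3⟩

theorem UU_le (NN : Ω → Subgroup G) (x y : Ω) : UU NN x y ≤ NN x :=
  (closure_le _).2 fun _ h => h.1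

theorem UU_le_stab (NN : Ω → Subgroup G) (x y : Ω) : UU NN x y ≤ stabilizer G y :=
  (closure_le _).2 fun _ h => h.2.1

theorem ZZ_le (NN : Ω → Subgroup G) (x y : Ω) : ZZ NN x y ≤ UU NN x y := inf_le_left

theorem St.norm (h : St NN q) {x : Ω} (hg : g • x = x) : g ∈ N[NN x] :=
  cj_eq_self_iff.1 (by rw [← h.smul, hg])

theorem St.cj_UU (h : St NN q) (g : G) (x y : Ω) :
    cj g (UU NN x y) = UU NN (g • x) (g • y) := by
  have key : ∀ (g : G) (x y : Ω), cj g (UU NN x y) ≤ UU NN (g • x) (g • y) := fun g x y => by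
    refine cj_le_iff.2 ((closure_le _).2 fun t ht => ?_)
    rw [SetLike.mem_coe, mem_cj, inv_inv]
    refine mem_UU (by rw [h.smul]; exact conj_mem_cj ht.1) ?_ (ht.2.2.conj g)
    rw [mul_smul, mul_smul, inv_smul_smul, ht.2.1]
  refine le_antisymm (key g x y) ?_
  have := key g⁻¹ (g • x) (g • y)
  rwa [inv_smul_smul, inv_smul_smul, cj_le_iff, inv_inv] at this

theorem St.cj_ZZ (h : St NN q) (g : G) (x y : Ω) :
    cj g (ZZ NN x y) = ZZ NN (g • x) (g • y) := by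
  rw [ZZ, ZZ, cj_inf, cj_centralizer, h.cj_UU]

theorem St.norm_UU (h : St NN q) {x y : Ω} (hx : g • x = x) (hy : g • y = y) :
    g ∈ N[UU NN x y] := cj_eq_self_iff.1 (by rw [h.cj_UU, hx, hy])

theorem St.norm_ZZ (h : St NN q) {x y : Ω} (hx : g • x = x) (hy : g • y = y) :
    g ∈ N[ZZ NN x y] := cj_eq_self_iff.1 (by rw [h.cj_ZZ, hx, hy])

/-- `NN a` fixes only `a` -/
theorem St.fix1 [FaithfulSMul G Ω] (h : St NN q) {a b : Ω} (hab : a ≠ b) :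
    ∃ n ∈ NN a, n • b ≠ b := by
  by_contra hc
  push Not at hc
  have hall : ∀ n ∈ NN a, ∀ y : Ω, n • y = y := fun n hn y => by
    by_cases hy : a = y
    · rw [← hy]; exact h.fix a hn
    · obtain ⟨g, hg1, hg2⟩ := h.two a b a y hab hy
      have h1 : g⁻¹ * n * g ∈ NN a := by
        rw [← mem_cj, ← h.smul, hg1]; exact hn
      have h2 := hc _ h1
      rw [mul_smul, mul_smul, inv_smul_eq_iff, hg2] at h2
      exact h2
  apply (h.kit a).l3.nonab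
  refine ⟨⟨fun x y => Subtype.ext ?_⟩⟩
  have hx : (x : G) = 1 := eq_of_smul_eq_smul (α := Ω) fun p => by rw [hall _ x.2, one_smul]
  simp [hx]

/-- the centraliser of `NN a` fixes `a` -/
theorem St.cen_fix [FaithfulSMul G Ω] (h : St NN q) {a : Ω} {c : G} (hc : c ∈ C[NN a]) :
    c • a = a := by
  by_contra hne
  obtain ⟨n, hn, h1⟩ := h.fix1 (Ne.symm hne)
  apply h1
  rw [← mul_smul, mem_centralizer_iff.1 hc n hn, mul_smul, show n • a = a from h.fix a hn]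

theorem Ln.left (hs : St NN q) (h : Ln NN q EE) {x y : Ω} (hxy : x ≠ y) : x ∈ Fx Ω (EE x y) :=
  (h.vx hxy).le.trans (hs.fix x)

theorem Ln.right (hs : St NN q) (h : Ln NN q EE) {x y : Ω} (hxy : x ≠ y) : y ∈ Fx Ω (EE x y) := by
  rw [h.symm x y hxy]; exact h.left hs hxy.symm

/-- two points of a line determine it -/
theorem Ln.line (h : Ln NN q EE) {x y p p' : Ω} (hxy : x ≠ y) (hpp : p ≠ p')
    (hp : p ∈ Fx Ω (EE x y)) (hp' : p' ∈ Fx Ω (EE x y)) : EE p p' = EE x y := by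
  by_cases e : x = p
  · subst e; exact h.fixl hxy hpp hp'
  · have h1 : EE p x = EE x y := by rw [h.symm p x (Ne.symm e), h.fixl hxy e hp]
    rw [← h1] at hp' ⊢
    exact h.fixl (Ne.symm e) hpp hp'

/-- every vertex of the class of lines is a line -/
theorem Ln.surj (hs : St NN q) (h : Ln NN q EE) {x y : Ω} (hxy : x ≠ y)
    (hX : Same (NN x) (EE x y) X) : ∃ p, x ≠ p ∧ EE x p = X := by
  obtain ⟨n, hn, rfl⟩ := hX
  have e : n • x = x := hs.fix x hn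
  refine ⟨n • y, fun e' => hxy (MulAction.injective n (e.trans e')), ?_⟩
  rw [← h.smul n hxy, e]

theorem Ln.norm (h : Ln NN q EE) {x y : Ω} (hxy : x ≠ y) (hx : g • x = x) (hy : g • y = y) :
    g ∈ N[EE x y] := cj_eq_self_iff.1 (by rw [← h.smul g hxy, hx, hy])

theorem Pln.vx {a : Ω} (h : Pln NN q EE a F) : Vx (NN a) q F := by
  obtain ⟨_, _, h⟩ := h; exact h.vr

theorem Pln.mem (hs : St NN q) {a : Ω} (h : Pln NN q EE a F) : a ∈ Fx Ω F :=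
  h.vx.le.trans (hs.fix a)

theorem Pln.cj (hs : St NN q) (hl : Ln NN q EE) {a : Ω} (h : Pln NN q EE a F) (g : G) :
    Pln NN q EE (g • a) (cj g F) := by
  obtain ⟨y, hy, h⟩ := h
  refine ⟨g • y, fun e => hy (MulAction.injective g e), ?_⟩
  rw [hl.smul g hy, hs.smul]; exact h.cj' g

end api

end Cfsg.Agent.H56.HL
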