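import Cfsg.Agent.H56.KnE16a

/-! Project KN, piece E16. -/

set_option autoImplicit false

namespace Cfsg.Agent.H56.KnE16

open Subgroup Cfsg.Agent.H17.Kn
open Cfsg.Agent.H64.KnG (T M5 Act T_mul T_inj T_one act_one act_ut act_U act_xc)

universe u

theorem dc_xor (x y i : ℕ) : dc (Nat.xor x y) i = dc x i + dc y i := by
  have : Nat.xor x y = x ^^^ y := rfl
  rw [this, dc, dc, dc, Nat.testBit_xor]
  cases x.testBit i <;> cases y.testBit i <;> decide

theorem xor_lt {x y : ℕ} (hx : x < 1024) (hy : y < 1024) : Nat.xor x y < 1024 :=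
  Nat.xor_lt_two_pow (n := 10) hx hy

theorem mu_spec {x y : ℕ} (hx : x < 1024) (hy : y < 1024) :
    mu x y < 1024 ∧ Tn x * Tn y = Tn (mu x y) := by
  obtain ⟨a1, a2, a3, a4, a5, a6, a7, a8, a9⟩ := hA x hx
  obtain ⟨b1, b2, b3, b4, b5, b6, b7, b8, b9⟩ := hB y hy
  obtain ⟨c, c0, c1, c2, c3, c4, c5, c6, c7, c8, c9⟩ := hC _ a1 _ a2 _ a3 _ b1 _ b2 _ b3
  refine ⟨xor_lt (xor_lt hx hy) c, ?_⟩
  rw [← a4, ← b4] at c1
  rw [← a4, ← a5, ← b5, ← b7] at c2
  rw [← a4, ← a5, ← a7, ← b6, ← b8, ← b9] at c3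
  rw [← a6, ← b7] at c5
  rw [← a6, ← a8, ← b8, ← b9] at c6
  rw [← a9, ← b9] at c8
  rw [Tn, Tn, T_mul, Tn, T_inj]
  simp only [mu, corr, dc_xor, c0, c1, c2, c3, c4, c5, c6, c7, c8, c9]
  refine ⟨?_, ?_, ?_, ?_, ?_, ?_, ?_, ?_, ?_, ?_⟩ <;> ring

theorem Tn_inj {x y : ℕ} (hx : x < 1024) (hy : y < 1024) (h : Tn x = Tn y) : x = y := by
  have k : ∀ i, dc x i = dc y i → x.testBit i = y.testBit i := fun i => by
    rw [dc, dc]
    cases x.testBit i <;> cases y.testBit i <;> decide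
  obtain ⟨h0, h1, h2, h3, h4, h5, h6, h7, h8, h9⟩ := T_inj.1 h
  refine Nat.eq_of_testBit_eq fun i => ?_
  by_cases hi : i < 10
  · interval_cases i <;> exact k _ ‹_›
  · have : 2 ^ 10 ≤ 2 ^ i := Nat.pow_le_pow_right (by norm_num) (by omega)
    rw [Nat.testBit_lt_two_pow (by omega), Nat.testBit_lt_two_pow (by omega)]

/-- the properties of the code map -/
structure Cd (cd : N2 → ℕ) : Prop where
  lt : ∀ u ∈ T0, cd u < 1024
  mul : ∀ u ∈ T0, ∀ v ∈ T0, cd (u * v) = mu (cd u) (cd v)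
  inj : ∀ u ∈ T0, ∀ v ∈ T0, cd u = cd v → u = v
  one : cd 1 = 0
  z : z2 ∈ T0 → cd z2 = 8
  tv : ∀ u ∈ T0, (tv u ↔ tb (cd u) = true)

theorem exists_cd (m1 : Mod1) : ∃ cd, Cd cd := by
  have h : ∀ u : N2, ∃ x, u ∈ T0 → x < 1024 ∧ Act u (Tn x) := fun u => by
    obtain ⟨x, h1, h2⟩ := hS (en u 0 1) (en u 0 2) (en u 0 3) (en u 0 4) (en u 1 2) (en u 1 3)
      (en u 1 4) (en u 2 3) (en u 2 4) (en u 3 4)
    exact ⟨x, fun hu => ⟨h1, h2 ▸ act_U m1 hu⟩⟩
  choose cd h using h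
  have k : ∀ u ∈ T0, ∀ x < 1024, Act u (Tn x) → cd u = x := fun u hu x hx a =>
    Tn_inj (h u hu).1 hx ((h u hu).2.unique a)
  refine ⟨cd, fun u hu => (h u hu).1, fun u hu v hv => ?_, fun u hu v hv e => ?_, ?_, fun hz => ?_,
    fun u hu => ?_⟩
  · have := mu_spec (h u hu).1 (h v hv).1
    exact k _ (mul_mem hu hv) _ this.1 (this.2 ▸ (h u hu).2.mul (h v hv).2)
  · exact (h u hu).2.eq (e ▸ (h v hv).2)
  · exact k _ (one_mem _) 0 (by norm_num) ((show Tn 0 = 1 from T_one) ▸ act_one)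
  · exact k _ hz 8 (by norm_num) (act_xc 1).2.2.2.2.2.2.2.2.2.2
  · have e : u = el (cd u) := (h u hu).2.eq (act_ut fun i j => dc (cd u) (ix i j))
    rw [← hT _ (h u hu).1, ← e]

section Lists

variable {G : Type*} [Group G]

/-- a list together with a translate -/
def dbl (a : G) (L : List G) : List G := L ++ L.map (a * ·)

/-- closed under a translation -/
def Cl (g : G) (L : List G) : Prop := ∀ x ∈ L, g * x ∈ L

theorem mem_dbl {a x : G} {L : List G} : x ∈ dbl a L ↔ x ∈ L ∨ ∃ y ∈ L, a * y = x := by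
  simp [dbl]

theorem cl_self {a : G} (h : a * a = 1) (L : List G) : Cl a (dbl a L) := fun x hx => by
  rcases mem_dbl.1 hx with k | ⟨y, k, rfl⟩
  · exact mem_dbl.2 (.inr ⟨x, k, rfl⟩)
  · exact mem_dbl.2 (.inl (by rwa [← mul_assoc, h, one_mul]))

theorem Cl.dbl {a g : G} {L : List G} (h : Cl g L) (c : g * a = a * g) : Cl g (dbl a L) :=
  fun x hx => by
    rcases mem_dbl.1 hx with k | ⟨y, k, rfl⟩
    · exact mem_dbl.2 (.inl (h x k))
    · exact mem_dbl.2 (.inr ⟨_, h y k, by rw [← mul_assoc, ← c, mul_assoc]⟩)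

theorem Cl.not {g x : G} {L : List G} (h : Cl g L) (g2 : g * g = 1) (hx : x ∉ L) : g * x ∉ L :=
  fun k => hx (by simpa [← mul_assoc, g2] using h _ k)

theorem not_dbl {a x : G} {L : List G} (h : x ∉ dbl a L) : x ∉ L := fun k => h (mem_dbl.2 (.inl k))

theorem exists_not (X : Subgroup G) (L : List G) (h : L.length < Nat.card X) : ∃ a ∈ X, a ∉ L := by
  classical
  by_contra hn
  push Not at hn
  have h1 : (X : Set G) ⊆ (L.toFinset : Set G) := fun a ha => by simpa using hn a ha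
  have h2 := Set.ncard_le_ncard h1
  rw [Set.ncard_coe_finset] at h2
  have h3 := List.toFinset_card_le L
  have h4 : Nat.card X = (X : Set G).ncard := rfl
  omega

theorem exists_min (f : G → ℕ) (X : Subgroup G) (L : List G) (h : L.length < Nat.card X) :
    ∃ a ∈ X, a ∉ L ∧ ∀ b ∈ X, b ∉ L → f a ≤ f b := by
  obtain ⟨a, h1, h2⟩ := exists_not X L h
  obtain ⟨b, hb, k⟩ := (measure f).wf.has_min {a | a ∈ X ∧ a ∉ L} ⟨a, h1, h2⟩
  exact ⟨b, hb.1, hb.2, fun c h1 h2 => not_lt.1 (k c ⟨h1, h2⟩)⟩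

theorem comm_of_sq {X : Subgroup G} (h : ∀ u ∈ X, u * u = 1) {a b : G} (ha : a ∈ X) (hb : b ∈ X) :
    a * b = b * a := by
  rw [← inv_eq_of_mul_eq_one_right (h _ (mul_mem ha hb)), mul_inv_rev,
    inv_eq_of_mul_eq_one_right (h a ha), inv_eq_of_mul_eq_one_right (h b hb)]

end Lists

theorem Cd.iv {cd : N2 → ℕ} (C : Cd cd) {u : N2} (hu : u ∈ T0) (h2 : u * u = 1) (h1 : u ≠ 1) :
    cd u ∈ IV :=
  (hI _ (C.lt u hu) (by rw [← C.mul u hu u hu, h2, C.one])).resolve_left fun e =>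
    h1 (C.inj _ hu _ (one_mem _) (e.trans C.one.symm))

theorem Cd.cm {cd : N2 → ℕ} (C : Cd cd) {u v : N2} (hu : u ∈ T0) (hv : v ∈ T0)
    (h : u * v = v * u) : cm (cd u) (cd v) = true := by
  have e : cd u ^^^ cd v ^^^ corr (cd u) (cd v) = cd v ^^^ cd u ^^^ corr (cd v) (cd u) :=
    (C.mul u hu v hv).symm.trans (h ▸ C.mul v hv u hu)
  rw [Nat.xor_comm (cd v), Nat.xor_right_inj] at e
  exact Nat.beq_eq.mpr e

theorem Cd.ntv {cd : N2 → ℕ} (C : Cd cd) {u : N2} (hu : u ∈ T0) (h : ¬ H17.Kn.tv u) :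
    tb (cd u) = false := Bool.eq_false_iff.2 fun e => h ((C.tv u hu).2 e)

theorem e16 (hB : Base.{u}) : E16Stmt := by
  obtain ⟨cd, C⟩ := exists_cd hB.m1
  refine ⟨fun X hX h2 hc => ?_, fun H y hH hy h2 hc hz _ ht => ?_⟩
  · by_contra hn
    obtain ⟨t, tX, ht⟩ : ∃ t ∈ X, ∀ u ∈ X, tv u → u = t := by
      by_cases k : ∃ t ∈ X, tv t
      · obtain ⟨t, h1, k⟩ := k
        exact ⟨t, h1, fun u hu k' => by_contra fun e => hn ⟨u, hu, t, h1, e, k', k⟩⟩
      · exact ⟨1, one_mem _, fun u hu k' => absurd ⟨u, hu, k'⟩ k⟩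
    obtain ⟨a, aX, a0, am⟩ := exists_min cd X (dbl t [1]) (by rw [hc]; simp [dbl])
    obtain ⟨b, bX, b0, bm⟩ := exists_min cd X (dbl a (dbl t [1])) (by rw [hc]; simp [dbl])
    obtain ⟨c, cX, c0, cm⟩ := exists_min cd X (dbl b (dbl a (dbl t [1]))) (by rw [hc]; simp [dbl])
    obtain ⟨d, dX, d0⟩ := exists_not X [1, a, b, a * b, c, a * c, b * c, a * (b * c)]
      (by rw [hc]; simp)
    have nt : ∀ u ∈ X, u ∉ dbl t [1] → tb (cd u) = false := fun u hu k =>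
      C.ntv (hX hu) fun e => k (by rw [ht u hu e]; simp [dbl])
    have iv : ∀ u ∈ X, u ∉ dbl t [1] → cd u ∈ IV := fun u hu k =>
      C.iv (hX hu) (h2 u hu) fun e => k (by rw [e]; simp [dbl])
    have cmm : ∀ u ∈ X, ∀ v ∈ X, KnE16.cm (cd u) (cd v) = true := fun u hu v hv =>
      C.cm (hX hu) (hX hv) (comm_of_sq h2 hu hv)
    have M : ∀ {u v : N2}, u ∈ X → v ∈ X → mu (cd u) (cd v) = cd (u * v) := fun hu hv =>
      (C.mul _ (hX hu) _ (hX hv)).symm
    have l1 : Cl a (dbl a (dbl t [1])) := cl_self (h2 a aX) _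
    have l2 : Cl a (dbl b (dbl a (dbl t [1]))) := l1.dbl (comm_of_sq h2 aX bX)
    have l3 : Cl b (dbl b (dbl a (dbl t [1]))) := cl_self (h2 b bX) _
    have ab0 := l1.not (h2 a aX) b0
    have ac0 := l2.not (h2 a aX) c0
    have bc0 := l3.not (h2 b bX) c0
    have abc0 := l2.not (h2 a aX) bc0
    have abX := mul_mem aX bX
    have acX := mul_mem aX cX
    have bcX := mul_mem bX cX
    have abcX := mul_mem aX bcX
    have S := s1 (cd a) (iv a aX a0) (nt a aX a0) (cd b)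
      (List.mem_filter.2 ⟨iv b bX (not_dbl b0), cmm a aX b bX⟩) (am b bX (not_dbl b0))
      (nt b bX (not_dbl b0)) (by rw [M aX bX]; exact bm _ abX ab0)
      (by rw [M aX bX]; exact nt _ abX (not_dbl ab0)) (cd c)
      (List.mem_filter.2 ⟨List.mem_filter.2 ⟨iv c cX (not_dbl (not_dbl c0)), cmm a aX c cX⟩,
        cmm b bX c cX⟩) (bm c cX (not_dbl c0)) (nt c cX (not_dbl (not_dbl c0)))
      (by rw [M aX cX]; exact cm _ acX ac0) (by rw [M bX cX]; exact cm _ bcX bc0)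
      (by rw [M bX cX, M aX bcX]; exact cm _ abcX abc0)
      (by rw [M aX cX]; exact nt _ acX (not_dbl (not_dbl ac0)))
      (by rw [M bX cX]; exact nt _ bcX (not_dbl (not_dbl bc0)))
      (by rw [M bX cX, M aX bcX]; exact nt _ abcX (not_dbl (not_dbl abc0))) (cd d)
      (List.mem_filter.2 ⟨List.mem_filter.2 ⟨List.mem_filter.2 ⟨C.iv (hX dX) (h2 d dX)
        (fun e => d0 (by simp [e])), cmm a aX d dX⟩, cmm b bX d dX⟩, cmm c cX d dX⟩)
    have E : sp (cd a) (cd b) (cd c) = [1, a, b, a * b, c, a * c, b * c, a * (b * c)].map cd := by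
      rw [sp, M aX bX, M aX cX, M bX cX, M aX bcX, ← C.one]; rfl
    have LX : ∀ u ∈ [1, a, b, a * b, c, a * c, b * c, a * (b * c)], u ∈ X := by
      simp only [List.forall_mem_cons]
      exact ⟨one_mem _, aX, bX, abX, cX, acX, bcX, abcX, by simp⟩
    rw [E] at S
    rcases S with k | ⟨e, he, k1, e', he', ne, k2⟩
    · obtain ⟨u, hu, k⟩ := List.mem_map.1 k
      exact d0 (C.inj _ (hX (LX u hu)) _ (hX dX) k ▸ hu)
    · obtain ⟨u, hu, rfl⟩ := List.mem_map.1 he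
      obtain ⟨v, hv, rfl⟩ := List.mem_map.1 he'
      rw [M (LX u hu) dX, ← C.tv _ (hX (mul_mem (LX u hu) dX))] at k1
      rw [M (LX v hv) dX, ← C.tv _ (hX (mul_mem (LX v hv) dX))] at k2
      have := (ht _ (mul_mem (LX u hu) dX) k1).trans (ht _ (mul_mem (LX v hv) dX) k2).symm
      exact ne (by rw [mul_right_cancel this])
  · by_contra hn
    push Not at hn
    obtain ⟨a, aX, a0⟩ := exists_not H (dbl z2 [1]) (by rw [hc]; simp [dbl])
    obtain ⟨b, bX, b0⟩ := exists_not H (dbl a (dbl z2 [1])) (by rw [hc]; simp [dbl])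
    have nt : ∀ u ∈ H, u ∉ dbl z2 [1] → tb (cd u) = false := fun u hu k =>
      C.ntv (hH hu) fun e => k (by rw [ht u hu e]; simp [dbl])
    have iv : ∀ u ∈ H, u ∉ dbl z2 [1] → cd u ∈ IV := fun u hu k =>
      C.iv (hH hu) (h2 u hu) fun e => k (by rw [e]; simp [dbl])
    have M : ∀ {u v : N2}, u ∈ H → v ∈ H → mu (cd u) (cd v) = cd (u * v) := fun hu hv =>
      (C.mul _ (hH hu) _ (hH hv)).symm
    have Y : ∀ {u : N2}, u ∈ H → tb (mu (cd y) (cd u)) = true := fun hu => by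
      rw [← C.mul _ hy _ (hH hu), ← C.tv _ (mul_mem hy (hH hu))]
      exact (hn _ hu).1
    have ab0 := (cl_self (h2 a aX) _).not (h2 a aX) b0
    have z8 := C.z (hH hz)
    have S := s2 (cd y) (C.lt y hy) ((C.tv y hy).1 (by simpa using (hn 1 (one_mem _)).1))
      (z8 ▸ Y hz) (cd a) (iv a aX a0) (nt a aX a0) (Y aX)
      (by rw [← z8, M hz aX]; exact Y (mul_mem hz aX)) (cd b) (iv b bX (not_dbl b0))
      (nt b bX (not_dbl b0)) (Y bX) (by rw [← z8, M hz bX]; exact Y (mul_mem hz bX))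
      (by rw [M aX bX]; exact nt _ (mul_mem aX bX) (not_dbl ab0))
      (by rw [M aX bX]; exact Y (mul_mem aX bX))
    rw [M aX bX, ← C.one] at S
    exact not_dbl ab0 (by rw [C.inj _ (hH (mul_mem aX bX)) _ (one_mem _) S]; simp [dbl])

end Cfsg.Agent.H56.KnE16
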