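import Cfsg.Agent.H56.ZCKit
import Cfsg.Agent.H3.FsSh
import Cfsg.Agent.H21.FsCL
import Cfsg.Agent.H91.FsInd

/-!
Shape, class, subgroups and quotients without the condition `r ≠ 2`.
-/

set_option autoImplicit false

namespace Cfsg.Agent.H56.ZC

open Subgroup Cfsg.Agent.H56.FS Cfsg.Agent.H21.FsCL Cfsg.Agent.H91.FsInd Cfsg.Agent.H3
open scoped commutatorElement

universe u

theorem sh2 {G : Type u} [Group G] [Finite G] {p r : ℕ} {D : Set (Subgroup G)} (h : Pr2 p r D) :
    Sh p r D := by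
  refine ⟨fun X hX => ?_, fun X _ A hA hAX => le_antisymm (LL_le_of fun B hB hBX => ?_)
    (sup_le (RR_le X) (le_LL hA hAX))⟩
  swap
  · have := sup_le (le_LL hA hAX) (le_LL hB hBX)
    exact le_sup_right.trans ((h.psup A hA B hB).le.trans
      (sup_le_sup_right (commutator_mono this this) _))
  have := Fact.mk h.pr
  have inj := (LL D X).subtype_injective
  have q : H3.FsSh.Q p r {B : Subgroup (LL D X) | B.map (LL D X).subtype ∈ D} :=
    { card := fun A hA => by rw [← card_map_subtype, h.card _ hA]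
      inv := fun A hA g => by
        have := h.inv _ hA g
        rw [cj, map_map] at this
        rwa [Set.mem_ofPred_eq, cj, map_map]
      ppg := fun A hA B hB => by
        have := h.ppg _ hA _ hB
        rw [← Subgroup.map_sup, ← map_commutator] at this
        exact this.of_equiv (equivMapOfInjective _ _ inj).symm
      psup := fun A hA B hB => by
        have := le_sup_right.trans (h.psup _ hA _ hB).le
        rwa [← Subgroup.map_sup, ← map_commutator, ← Subgroup.map_sup,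
          map_le_map_iff_of_injective inj] at this
      gen := eq_top_iff.2 ((map_le_map_iff_of_injective inj).1 (by
        rw [← MonoidHom.range_eq_map, range_subtype]
        refine LL_le_of fun B hB hBX => ?_
        rw [← map_subgroupOf_eq_of_le (le_LL hB hBX)]
        exact map_mono (le_sSup (by
          rwa [Set.mem_ofPred_eq, map_subgroupOf_eq_of_le (le_LL hB hBX)])))) }
  have k := (q.map (QuotientGroup.mk' (pCore r (LL D X))) (QuotientGroup.mk'_surjective _)).comm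
    h.pp h.pr h.rp (pCore_quotient_pCore r _)
  rw [_root_.commutator_def, ← Subgroup.map_top_of_surjective _ (QuotientGroup.mk'_surjective _),
    ← map_commutator, Subgroup.map_eq_bot_iff, QuotientGroup.ker_mk'] at k
  have k2 := ((pCore_isPGroup r _).to_le k).map (LL D X).subtype
  rwa [map_commutator, ← MonoidHom.range_eq_map, range_subtype] at k2


section Main

variable {G : Type u} [Group G] {p r : ℕ} {D : Set (Subgroup G)}

variable [Finite G] (h : Bs2 p r D) (hS : Sh p r D) {X : Subgroup G}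
  (hX : Group.IsSolvable ↥(LL D X))
include h hS hX

theorem comm_RA' {A : Subgroup G} (hA : A ∈ D) (hAX : A ≤ X) : ⁅RR D X, A⁆ = RR D X := by
  refine le_antisymm (commutator_mono (RR_le X) (le_LL hA hAX)) ?_
  have nR : RR D X ≤ normalizer ((⁅RR D X, A⁆ : Subgroup G) : Set G) :=
    normalizer_commutator_ge_left _ _
  have nA : A ≤ normalizer ((⁅RR D X, A⁆ : Subgroup G) : Set G) :=
    normalizer_commutator_ge_right _ _
  have key : LL D X ≤ ⁅RR D X, A⁆ ⊔ A := by
    refine LL_le_of fun B hB hBX b hb => ?_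
    have hbL : b ∈ RR D X ⊔ A := hS.sup X hX A hA hAX ▸ le_LL hB hBX hb
    obtain ⟨u, hu, a, ha, e⟩ := mem_sup_of_norm ((le_LL hA hAX).trans (LL_le_norm_RR X)) hbL
    have h1 : ∀ n : ℕ, (u * a) ^ n * (a ^ n)⁻¹ * (u ^ n)⁻¹ ∈ ⁅RR D X, A⁆ := by
      intro n
      induction n with
      | zero => simp
      | succ n ih =>
        have h2 : ⁅a ^ n, u⁆ ∈ ⁅RR D X, A⁆ := by
          rw [commutator_comm]; exact commutator_mem_commutator (pow_mem ha n) hu
        have h3 := (mem_normalizer_iff.1 (nR (pow_mem hu n)) _).1 h2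
        have : (u * a) ^ (n + 1) * (a ^ (n + 1))⁻¹ * (u ^ (n + 1))⁻¹ =
            (u * a) ^ n * (a ^ n)⁻¹ * (u ^ n)⁻¹ * (u ^ n * ⁅a ^ n, u⁆ * (u ^ n)⁻¹) := by
          rw [commutatorElement_def, pow_succ (u * a), pow_succ a, pow_succ u]
          simp only [mul_inv_rev, mul_assoc, mul_inv_cancel_left, inv_mul_cancel_left]
        rw [this]
        exact mul_mem ih h3
    have h4 := h1 p
    rw [← e, h.pow_p hB hb, h.pow_p hA ha, one_mul, inv_one, one_mul, inv_mem_iff] at h4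
    have h5 : u ∈ ⁅RR D X, A⁆ := by
      obtain ⟨k, hk⟩ := hS.pg X hX ⟨u, hu⟩
      have hk' : u ^ r ^ k = 1 := congrArg Subtype.val hk
      have h6 : Nat.Coprime p (orderOf u) :=
        (((Nat.coprime_primes h.pp h.pr).2 h.rp.symm).pow_right k).coprime_dvd_right
          (orderOf_dvd_of_pow_eq_one hk')
      obtain ⟨m, hm⟩ := exists_pow_eq_self_of_coprime h6
      rw [← hm]
      exact pow_mem h4 m
    rw [e]
    exact mul_mem_sup h5 ha
  exact (commutator_mono key key).trans (comm_sup_le nA (h.comm hA))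

theorem na1' (hna : ∀ A ∈ D, ∀ B ∈ D, A ≠ B → ¬ IsMulCommutative ↥⁅A ⊔ B, A ⊔ B⁆)
    {V : Subgroup G} (hV : V ≤ RR D X) (hab : V ≤ centralizer (V : Set G))
    (hn : LL D X ≤ normalizer (V : Set G)) : V ≤ centralizer (LL D X : Set G) := by
  intro v hv
  refine cent_LL fun B hB hBX => ?_
  have nB : B ≤ normalizer (V : Set G) := (le_LL hB hBX).trans hn
  have e : B = cj v B := by
    by_contra ne
    refine hna B hB _ (h.inv B hB v) ne ⟨⟨fun x y => Subtype.ext ?_⟩⟩
    have hle : B ⊔ cj v B ≤ V ⊔ B :=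
      sup_le le_sup_right (cj_le_of_mem (mem_sup_left hv) le_sup_right)
    have h1 := (commutator_mono hle hle).trans (comm_sup_le nB (h.comm hB))
    exact hab (h1 y.2) x (h1 x.2)
  intro b hb
  have h1 : v * b * v⁻¹ * b⁻¹ ∈ RR D X ⊓ B := by
    refine mem_inf.2 ⟨hV ?_, mul_mem (e ▸ conj_mem_cj hb) (inv_mem hb)⟩
    have := (mem_normalizer_iff.1 (nB hb) v⁻¹).1 (inv_mem hv)
    simpa [mul_assoc] using mul_mem hv this
  rw [h.inf_bot hB (hS.pg X hX), mem_bot] at h1
  calc b * v = (v * b * v⁻¹ * b⁻¹) * (b * v) := by rw [h1, one_mul]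
    _ = v * b := by group

theorem na2' (hna : ∀ A ∈ D, ∀ B ∈ D, A ≠ B → ¬ IsMulCommutative ↥⁅A ⊔ B, A ⊔ B⁆) :
    ⁅RR D X, RR D X⁆ ≤ centralizer (LL D X : Set G) := by
  have := Fact.mk h.pr
  obtain ⟨n, hn⟩ := (isNilpotent_iff_lowerCentralSeries (RR D X)).1 (hS.pg X hX).isNilpotent
  have nm : ∀ i, LL D X ≤ normalizer ((RR D X).lowerCentralSeries i : Set G) := by
    intro i
    induction i with
    | zero => exact LL_le_norm_RR X
    | succ i ih => exact H4.le_normalizer_commutator ih (LL_le_norm_RR X)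
  have step : ∀ i, (RR D X).lowerCentralSeries (i + 2) ≤ centralizer (LL D X : Set G) →
      (RR D X).lowerCentralSeries (i + 1) ≤ centralizer (LL D X : Set G) := by
    intro i hi
    have a1 : (RR D X).lowerCentralSeries (i + 1) ≤ ⁅RR D X, RR D X⁆ :=
      (RR D X).lowerCentralSeries_antitone (show 1 ≤ i + 1 by omega)
    have a0 : (RR D X).lowerCentralSeries (i + 1) ≤ RR D X :=
      (RR D X).lowerCentralSeries_antitone (show 0 ≤ i + 1 by omega)
    have h2 : ⁅⁅(RR D X).lowerCentralSeries (i + 1), RR D X⁆, RR D X⁆ = ⊥ :=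
      commutator_eq_bot_iff_le_centralizer.2 (hi.trans (centralizer_le (RR_le X)))
    have h3 : ⁅⁅RR D X, RR D X⁆, (RR D X).lowerCentralSeries (i + 1)⁆ = ⊥ :=
      commutator_commutator_eq_bot_of_rotate (by rw [commutator_comm (RR D X)]; exact h2) h2
    exact na1' h hS hX hna a0 (a1.trans (commutator_eq_bot_iff_le_centralizer.1 h3)) (nm _)
  have down : ∀ k, (RR D X).lowerCentralSeries (k + 1) ≤ centralizer (LL D X : Set G) →
      (RR D X).lowerCentralSeries 1 ≤ centralizer (LL D X : Set G) := by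
    intro k
    induction k with
    | zero => exact id
    | succ k ih => exact fun hk => ih (step k hk)
  refine down n ?_
  exact ((RR D X).lowerCentralSeries_antitone (Nat.le_succ n)).trans (hn.le.trans bot_le)

theorem cen_na' (hna : ∀ A ∈ D, ∀ B ∈ D, A ≠ B → ¬ IsMulCommutative ↥⁅A ⊔ B, A ⊔ B⁆)
    {A : Subgroup G} (hA : A ∈ D) (hAX : A ≤ X) :
    RR D X ⊓ centralizer (A : Set G) ≤ centralizer (LL D X : Set G) := by
  have h1 : ⁅A, RR D X ⊓ centralizer (A : Set G)⁆ = ⊥ := by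
    rw [commutator_comm]
    exact commutator_eq_bot_iff_le_centralizer.2 inf_le_right
  have h2 : ⁅⁅RR D X ⊓ centralizer (A : Set G), RR D X⁆, A⁆ = ⊥ :=
    commutator_eq_bot_iff_le_centralizer.2 ((commutator_mono inf_le_left le_rfl).trans
      ((na2' h hS hX hna).trans (centralizer_le (le_LL hA hAX))))
  have h3 : ⁅⁅RR D X, A⁆, RR D X ⊓ centralizer (A : Set G)⁆ = ⊥ :=
    commutator_commutator_eq_bot_of_rotate (by rw [h1, commutator_bot_left]) h2
  rw [comm_RA' h hS hX hA hAX, commutator_comm, commutator_eq_bot_iff_le_centralizer] at h3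
  intro c hc
  rw [hS.sup X hX A hA hAX]
  exact le_Ce_iff.1 (sup_le (le_Ce_iff.2 (h3 hc)) (le_Ce_iff.2 hc.2))

theorem cen_ab' (hps : ∀ A ∈ D, ∀ B ∈ D, A ⊔ B = ⁅A ⊔ B, A ⊔ B⁆ ⊔ A)
    (hab : ∀ A ∈ D, ∀ B ∈ D, IsMulCommutative ↥⁅A ⊔ B, A ⊔ B⁆)
    {A : Subgroup G} (hA : A ∈ D) (hAX : A ≤ X) :
    RR D X ⊓ centralizer (A : Set G) = ⊥ := by
  obtain ⟨a, ha, -, hz⟩ := h.exists_gen hA
  have nA : A ≤ normalizer (RR D X : Set G) := (le_LL hA hAX).trans (LL_le_norm_RR X)
  let α : RR D X →* RR D X :=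
    { toFun := fun u => ⟨a * u * a⁻¹, (mem_normalizer_iff.1 (nA ha) _).1 u.2⟩
      map_one' := Subtype.ext (by simp)
      map_mul' := fun x y => Subtype.ext (by simp [mul_assoc]) }
  have hα : ∀ u, ((α u : RR D X) : G) = a * u * a⁻¹ := fun u => rfl
  have hit : ∀ (k : ℕ) (u : RR D X), ((α^[k] u : RR D X) : G) = a ^ k * u * (a ^ k)⁻¹ := by
    intro k u
    induction k with
    | zero => simp
    | succ k ih => rw [Function.iterate_succ_apply', hα, ih, pow_succ']; group
  have key := ab_aux h.pp h.p2 h.pr h.rp _ (RR D X) rfl (hS.pg X hX) α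
    (fun x => Subtype.ext (by rw [hit, h.pow_p hA ha]; simp))
    (by
      rw [eq_top_iff]
      have t : ∀ (k : ℕ) (u : RR D X), u⁻¹ * α^[k] u ∈ closure (Set.range fun u => u⁻¹ * α u) := by
        intro k u
        induction k with
        | zero => simp
        | succ k ih =>
          have : u⁻¹ * α^[k + 1] u = (u⁻¹ * α^[k] u) * ((α^[k] u)⁻¹ * α (α^[k] u)) := by
            rw [Function.iterate_succ_apply']; group
          rw [this]
          exact mul_mem ih (subset_closure ⟨_, rfl⟩)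
      have hle : ⁅RR D X, A⁆ ≤
          (closure (Set.range fun u => u⁻¹ * α u)).map (RR D X).subtype := by
        rw [commutator_le]
        intro u hu b hb
        rw [← hz, ← mem_powers_iff_mem_zpowers] at hb
        obtain ⟨k, rfl⟩ := hb
        refine ⟨_, t k (⟨u, hu⟩ : RR D X)⁻¹, ?_⟩
        simp [hit, commutatorElement_def, mul_assoc]
      rw [comm_RA' h hS hX hA hAX] at hle
      intro u _
      obtain ⟨y, hy, e⟩ := hle u.2
      rwa [show y = u from Subtype.ext e] at hy)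
    (fun u => by
      have hB := h.inv A hA (u : G)⁻¹
      have hFL : A ⊔ cj (u : G)⁻¹ A ≤ LL D X :=
        sup_le (le_LL hA hAX) (cj_le_of_mem (inv_mem (RR_le X u.2)) (le_LL hA hAX))
      have nF : A ⊔ cj (u : G)⁻¹ A ≤
          normalizer ((⁅A ⊔ cj (u : G)⁻¹ A, A ⊔ cj (u : G)⁻¹ A⁆ : Subgroup G) : Set G) :=
        normalizer_commutator_ge_left _ _
      have hx : ((u⁻¹ * α u : RR D X) : G) ∈ A ⊔ cj (u : G)⁻¹ A := by
        have h1 := conj_mem_cj (g := (u : G)⁻¹) ha
        have : ((u⁻¹ * α u : RR D X) : G) = ((u : G)⁻¹ * a * (u : G)⁻¹⁻¹) * a⁻¹ := by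
          simp [hα, mul_assoc]
        rw [this]
        exact mul_mem (mem_sup_right h1) (mem_sup_left (inv_mem ha))
      rw [hps A hA _ hB] at hx
      obtain ⟨f, hf, b, hb, e⟩ := mem_sup_of_norm (le_sup_left.trans nF) hx
      have hfR : f ∈ RR D X := commutator_mono hFL hFL hf
      have hb1 : b ∈ RR D X ⊓ A := by
        refine mem_inf.2 ⟨?_, hb⟩
        have : b = f⁻¹ * ((u⁻¹ * α u : RR D X) : G) := by rw [e]; group
        rw [this]
        exact mul_mem (inv_mem hfR) (u⁻¹ * α u).2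
      rw [h.inf_bot hA (hS.pg X hX), mem_bot] at hb1
      rw [hb1, mul_one] at e
      have hf' := (mem_normalizer_iff.1 (nF (mem_sup_left ha)) f).1 hf
      have hc := (hab A hA _ hB).is_comm.comm ⟨f, hf⟩ ⟨_, hf'⟩
      refine Subtype.ext ?_
      generalize u⁻¹ * α u = y at e
      rw [coe_mul, coe_mul, hα y, e]
      exact congrArg Subtype.val hc)
  rw [eq_bot_iff]
  intro c hc
  have := key ⟨c, hc.1⟩ (Subtype.ext (by rw [hα]; simp [hc.2 a ha]))
  exact congrArg Subtype.val this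

end Main

theorem cl2 {G : Type u} [Group G] [Finite G] {p r : ℕ} {D : Set (Subgroup G)} (hP : Pr2 p r D)
    (hS : Sh p r D) : Cl2 p r D := by
  refine { hP.toBs2, hS with
    pair := fun A hA B hB => solv_of_comm hP.pr (hP.ppg A hA B hB)
    cen := fun X hX A hA hAX => ?_
    flag := ?_ }
  · rcases hP.pflag with hab | hna
    · rw [cen_ab' hP.toBs2 hS hX hP.psup hab hA hAX]; exact bot_le
    · exact cen_na' hP.toBs2 hS hX hna hA hAX
  · rcases hP.pflag with hab | hna
    · exact Or.inl fun X hX A hA hAX => cen_ab' hP.toBs2 hS hX hP.psup hab hA hAX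
    · exact Or.inr fun X hX => na2' hP.toBs2 hS hX hna


section Ind

variable {H G : Type*} [Group H] [Group G] {p r : ℕ}

theorem cl_sub2 {f : H →* G} (hf : Function.Injective f) {D : Set (Subgroup G)} (h : Cl2 p r D) : Cl2 p r {B : Subgroup H | B.map f ∈ D} := by
  have s : ∀ X : Subgroup H, Group.IsSolvable (LL {B | B.map f ∈ D} X) →
      Group.IsSolvable (LL D (X.map f)) := fun X hX => LL_sub hf X ▸ solv_map f hX
  have m : ∀ {X : Subgroup H} {x : H}, x ∈ RR {B | B.map f ∈ D} X → f x ∈ RR D (X.map f) :=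
    fun hx => RR_sub hf _ ▸ mem_map_of_mem f hx
  refine
    { pp := h.pp, p2 := h.p2, pr := h.pr, rp := h.rp
      card := fun A hA => by rw [← h.card _ hA, card_map_of_injective hf]
      inv := fun A hA g => by rw [Set.mem_ofPred_eq, map_cj]; exact h.inv _ hA _
      line := fun A hA B hB C hC E hE h1 h2 h3 => map_injective hf ?_
      pg := fun X hX => ?_
      sup := fun X hX A hA h1 => map_injective hf ?_
      pair := fun A hA B hB => solv_of_map hf (by rw [Subgroup.map_sup]; exact h.pair _ hA _ hB)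
      cen := fun X hX A hA h1 x hx => cen_of_map hf ?_
      flag := h.flag.imp (fun h' X hX A hA h1 => eq_bot_iff.2 fun x hx => ?_)
        fun h' X hX x hx => cen_of_map hf ?_ }
  · simp only [Subgroup.map_sup]
    exact h.line _ hA _ hB _ hC _ hE ((map_mono h1).trans (Subgroup.map_sup _ _ _).le)
      ((map_mono h2).trans (Subgroup.map_sup _ _ _).le) fun e => h3 (map_injective hf e)
  · have := h.pg _ (s X hX)
    rw [← RR_sub hf] at this
    exact this.of_injective (f.subgroupMap _) fun _ _ e => Subtype.ext (hf (congrArg Subtype.val e))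
  · simp only [Subgroup.map_sup, LL_sub hf, RR_sub hf]
    exact h.sup _ (s X hX) _ hA (map_mono h1)
  · rw [LL_sub hf]
    exact h.cen _ (s X hX) _ hA (map_mono h1) ⟨m hx.1, cen_map f hx.2⟩
  · have := (h' _ (s X hX) _ hA (map_mono h1)).le ⟨m hx.1, cen_map f hx.2⟩
    exact hf ((mem_bot.1 this).trans f.map_one.symm)
  · rw [LL_sub hf]
    refine h' _ (s X hX) ?_
    rw [← RR_sub hf, ← map_commutator]
    exact mem_map_of_mem f hx

theorem lift_cen2 (f : H →* G) {D : Set (Subgroup H)} [Finite H] (h : Cl2 p r D) {X : Subgroup H} (hX : Group.IsSolvable (LL D X))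
    {A : Subgroup H} (hA : A ∈ D) (hAX : A ≤ X) {u : H} (hu : u ∈ RR D X)
    (e : cj (f u) (A.map f) = A.map f) :
    ∃ w ∈ RR D X ⊓ centralizer (A : Set H), f w = f u := by
  obtain ⟨v, hv, e'⟩ := h.conj_pt_pair hA (h.inv A hA u)
  have h1 : v ∈ RR D X := RR_le_RR ((LL_le _).trans (sup_le hAX ((cj_le_of_mem (RR_le _ hu)
    (le_LL hA hAX)).trans (LL_le _)))) hv
  have h2 : f v = 1 := by
    have := mem_map_of_mem f hv
    rw [RR, LL_pair hA (h.inv A hA u), map_commutator, Subgroup.map_sup, map_cj, e, sup_idem,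
      ← map_commutator, commutator_eq_bot_iff_le_centralizer.2 (h.comm hA),
      Subgroup.map_bot] at this
    exact mem_bot.1 this
  have h3 := mul_mem (inv_mem h1) hu
  refine ⟨v⁻¹ * u, ⟨h3, h.norm_cen hX hA hAX h3 ?_⟩, by simp [h2]⟩
  rw [← cj_cj, e', cj_inv_cj]

theorem cl_quo2 (f : H →* G) {D : Set (Subgroup H)} [Finite H] (hf : Function.Surjective f) (hk : Group.IsSolvable f.ker)
    (h : Cl2 p r D) (hn : ∀ A ∈ D, ¬ A ≤ f.ker) : Cl2 p r (map f '' D) := by
  have s : ∀ X : Subgroup G, Group.IsSolvable (LL (map f '' D) X) →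
      Group.IsSolvable (LL D ((LL (map f '' D) X).comap f)) := fun X hX =>
    H4.isSolvable_of_le (LL_le _) (solv_comap f hk hX)
  have m : ∀ {X : Subgroup G} {A : Subgroup H}, A ∈ D → A.map f ≤ X →
      A ≤ (LL (map f '' D) X).comap f := fun hA h1 =>
    map_le_iff_le_comap.1 (le_LL ⟨_, hA, rfl⟩ h1)
  have pr : ∀ A ∈ map f '' D, ∀ B ∈ map f '' D, Group.IsSolvable ↥(A ⊔ B) := by
    rintro _ ⟨A, hA, rfl⟩ _ ⟨B, hB, rfl⟩
    rw [← Subgroup.map_sup]
    exact solv_map f (h.pair A hA B hB)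
  have lf : ∀ X : Subgroup G, Group.IsSolvable (LL (map f '' D) X) → ∀ A ∈ D, A.map f ≤ X →
      ∀ x ∈ RR (map f '' D) X ⊓ centralizer (A.map f : Set G), ∃ w ∈
        RR D ((LL (map f '' D) X).comap f) ⊓ centralizer (A : Set H), f w = x := by
    intro X hX A hA h1 x hx
    obtain ⟨u, hu, rfl⟩ := (RR_quo f X).ge hx.1
    exact lift_cen2 f h (s X hX) hA (m hA h1) hu (cj_of_cent hx.2)
  have ln : ∀ A ∈ D, ∀ B ∈ D, ∀ C ∈ D, C.map f ≤ A.map f ⊔ B.map f →
      ∃ C0 ∈ D, C0 ≤ A ⊔ B ∧ C0.map f = C.map f := fun A hA B hB C hC h1 => by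
    have e := LL_pair (D := map f '' D) ⟨A, hA, rfl⟩ ⟨B, hB, rfl⟩
    obtain ⟨u, hu, rfl⟩ := h.conj_pt (s (A.map f ⊔ B.map f)
      (by rw [e]; exact pr _ ⟨A, hA, rfl⟩ _ ⟨B, hB, rfl⟩)) hA (m hA le_sup_left) hC (m hC h1)
    have h2 : f u ∈ (A ⊔ B).map f := by
      rw [Subgroup.map_sup, ← e]
      exact (LL_le _ (RR_le _ hu) : u ∈ comap f _)
    obtain ⟨w, hw, e'⟩ := h2
    exact ⟨cj w A, h.inv A hA w, cj_le_of_mem hw le_sup_left, by rw [map_cj, map_cj, e']⟩
  refine
    { pp := h.pp, p2 := h.p2, pr := h.pr, rp := h.rp, pair := pr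
      card := ?_, inv := ?_, line := ?_, sup := ?_, cen := ?_
      pg := fun X hX => RR_quo f X ▸ (h.pg _ (s X hX)).map f
      flag := h.flag.imp ?_ fun h' X hX => ?_ }
  · rintro _ ⟨A, hA, rfl⟩
    have h1 := card_map_dvd A f
    rw [h.card A hA] at h1
    refine ((Nat.dvd_prime h.pp).1 h1).resolve_left fun e => hn A hA ?_
    exact (map_eq_bot_iff A).1 (card_eq_one.1 e)
  · rintro _ ⟨A, hA, rfl⟩ g
    obtain ⟨g, rfl⟩ := hf g
    exact ⟨_, h.inv A hA g, map_cj f g A⟩
  · rintro _ ⟨A, hA, rfl⟩ _ ⟨B, hB, rfl⟩ _ ⟨C, hC, rfl⟩ _ ⟨E, hE, rfl⟩ h1 h2 h3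
    obtain ⟨C0, hC0, h4, e1⟩ := ln A hA B hB C hC h1
    obtain ⟨E0, hE0, h5, e2⟩ := ln A hA B hB E hE h2
    rw [← e1, ← e2] at h3 ⊢
    rw [← Subgroup.map_sup, ← Subgroup.map_sup,
      h.line A hA B hB C0 hC0 E0 hE0 h4 h5 fun e => h3 (e ▸ rfl)]
  · rintro X hX _ ⟨A, hA, rfl⟩ h1
    rw [← RR_quo, ← Subgroup.map_sup, ← h.sup _ (s X hX) A hA (m hA h1), LL_quo]
  · rintro X hX _ ⟨A, hA, rfl⟩ h1 x hx
    obtain ⟨w, hw, rfl⟩ := lf X hX A hA h1 x hx
    rw [← LL_quo]
    exact cen_map f (h.cen _ (s X hX) A hA (m hA h1) hw)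
  · rintro h' X hX _ ⟨A, hA, rfl⟩ h1
    refine eq_bot_iff.2 fun x hx => ?_
    obtain ⟨w, hw, rfl⟩ := lf X hX A hA h1 x hx
    rw [h' _ (s X hX) A hA (m hA h1), mem_bot] at hw
    simp [hw]
  · rw [← RR_quo, ← map_commutator]
    rintro _ ⟨w, hw, rfl⟩
    exact LL_quo f X ▸ cen_map f (h' _ (s X hX) hw)

end Ind

end Cfsg.Agent.H56.ZC
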