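import Cfsg.Agent.H42.HtDefs

/-! Project HT, piece KT. -/

set_option autoImplicit false

namespace Cfsg.Agent.H56.HtKT

open Cfsg Cfsg.Agent.H63 Cfsg.Agent.H63.SL Cfsg.Agent.H63.AN Subgroup Cfsg.Agent.H42.HT
open Cfsg.Agent.H7.AA
open Cfsg.Agent.H78 (c3 altOn symOn)
open Equiv (swap Perm)
open Equiv.Perm (sign)
open scoped commutatorElement

universe u

variable {G : Type u} [Group G]

theorem dih {d e : G} (hd : d * d = 1) (he : e * e = 1) (ho : Odd (orderOf (e * d))) :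
    ∃ m : ℕ, (e * d) ^ m * d * ((e * d) ^ m)⁻¹ = e := by
  obtain ⟨j, hj⟩ := ho
  have h1 : (e * d) ^ (2 * j + 1) = 1 := hj ▸ pow_orderOf_eq_one _
  have h2 : d * (e * d)⁻¹ * d⁻¹ = e * d := by
    rw [mul_inv_rev, inv_eq_of_mul_eq_one_right hd, inv_eq_of_mul_eq_one_right he, ← mul_assoc, hd,
      one_mul]
  have h3 : d * ((e * d) ^ (j + 1))⁻¹ = (e * d) ^ (j + 1) * d := by
    rw [← inv_pow, ← mul_inv_eq_iff_eq_mul, ← conj_pow, h2]
  refine ⟨j + 1, ?_⟩
  rw [mul_assoc, h3, ← mul_assoc, ← pow_add, show j + 1 + (j + 1) = 2 * j + 1 + 1 by ring, pow_succ,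
    h1, one_mul, mul_assoc, hd, mul_one]

theorem d2_comm {α : Type} [Fintype α] [DecidableEq α] {a b c d : α} (h : [a, b, c, d].Nodup) :
    d2 a b c d = c3 b c d * d2 a c b d * (c3 b c d)⁻¹ * (d2 a c b d)⁻¹ := by
  obtain ⟨h1, h2, h3, h4, h5, h6⟩ := nodup4.1 h
  rw [eq_mul_inv_iff_mul_eq, eq_mul_inv_iff_mul_eq]
  ext x
  simp only [Equiv.Perm.mul_apply, d2_apply, H78.c3_apply, Equiv.swap_apply_def]
  grind

theorem d2_mem {s : Finset (Fin 10)} {a b c d : Fin 10} (ha : a ∈ s) (hb : b ∈ s) (hc : c ∈ s)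
    (hd : d ∈ s) (hab : a ≠ b) (hcd : c ≠ d) : d2 a b c d ∈ altOn s :=
  ⟨mul_mem (H78.swap_mem_symOn ha hb) (H78.swap_mem_symOn hc hd),
    Equiv.Perm.mem_alternatingGroup.2 (sign_d2 hab hcd)⟩

theorem kt : KtStmt.{u} := by
  intro ff G _ _ ψ t b k
  obtain ⟨O, o1, o2, o3, -, o5⟩ := k.odd
  have od : ∀ a ∈ O, Od ψ t a := fun a ha =>
    ⟨o3 ha, mem_centralizer_singleton_iff.1 (o2 ha), o1.of_dvd_nat (orderOf_dvd_natCard O ha)⟩
  have do' : ∀ a, Od ψ t a → a ∈ O := fun a ha => by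
    refine (o5 a ha.1 ha.2.1).resolve_right fun h => b.t1 ?_
    obtain ⟨j, hj⟩ := ha.2.2.mul (od _ h).2.2
    have e : (a * t) ^ (orderOf a * orderOf (a * t)) = 1 := by
      rw [mul_comm, pow_mul, pow_orderOf_eq_one, one_pow]
    rw [ha.2.1.mul_pow, pow_mul a, pow_orderOf_eq_one, one_pow, one_mul, hj, pow_succ, pow_mul,
      pow_two, b.t2, one_pow, one_mul] at e
    exact e
  have pw : ∀ a ∈ O, ∀ m : ℕ, Od ψ t (a ^ m) := fun a ha m => od _ (pow_mem ha m)
  refine ⟨fun s g hs hg => ?_, fun d e ρ hd he dt et ad ae => ?_,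
    fun a ha at' => (o5 a ha at').imp (od _) (od _),
    fun a c ha hc => od _ (mul_mem (do' a ha) (do' c hc)), fun a ha => od _ (inv_mem (do' a ha)),
    fun a n ha hn => ⟨NA_conj_KA (b.cN n hn) ha.1, (hn.mul_left ha.2.1).mul_left hn.inv_left, ?_⟩,
    fun τ τt aτ p => ?_⟩
  · let S : Subgroup P :=
      { carrier := {σ | sign σ = 1 ∧ g * ev ψ σ * g⁻¹ ∈ ψ.range}
        one_mem' := ⟨by simp, by rw [ev_one]; simp⟩
        mul_mem' := fun {x y} hx hy => ⟨by simp [hx.1, hy.1], by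
          have := mul_mem hx.2 hy.2
          rw [ev_mul hx.1 hy.1]
          convert this using 1; group⟩
        inv_mem' := fun {x} hx => ⟨by simp [hx.1], by
          have := inv_mem hx.2
          rw [ev_inv hx.1]
          convert this using 1; group⟩ }
    have sg : ∀ {σ : P}, σ ∈ altOn s → sign σ = 1 := fun h => (H78.mem_altOn.1 h).2
    have le : altOn s ≤ S := ff.gen s hs S fun a ha c hc d hd e he hn => by
      obtain ⟨h1, h2, h3, h4, h5, h6⟩ := nodup4.1 hn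
      have m1 : c3 c d e ∈ altOn s := H78.c3_mem_altOn hc hd he h4 h6
      have m2 : d2 a d c e ∈ altOn s := d2_mem ha hd hc he h2 h5
      have s0 : sign (d2 a c d e) = 1 := sign_d2 h1 h6
      refine ⟨s0, k.der _ ?_ ⟨1, ?_⟩⟩
      · have := commutator_mem_commutator (mem_centralizer_singleton_iff.2 (hg _ m1))
          (mem_centralizer_singleton_iff.2 (hg _ m2))
        convert this using 1
        rw [d2_comm hn, ev_mul (by simp [sg m1, sg m2]) (by simp [sg m2]), ev_conj (sg m1) (sg m2),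
          ev_inv (sg m2), commutatorElement_def]
        group
      · rw [pow_one, conj_pow, pow_two, ← ev_mul s0 s0, (d2_kpair hn).aa, ev_one]; group
    have ex : ∀ σ : altOn s, ∃ p : P, sign p = 1 ∧ ev ψ p = g * ev ψ σ * g⁻¹ := fun σ =>
      mem_range_iff.1 (le σ.2).2
    choose f f1 f2 using ex
    refine ⟨MonoidHom.mk' f fun x y => ev_inj b.inj (f1 _) (by simp [f1]) ?_, fun x y e => ?_,
      fun σ => ⟨f1 σ, (f2 σ).symm⟩⟩
    · rw [ev_mul (f1 _) (f1 _), f2, f2, f2, coe_mul, ev_mul (sg x.2) (sg y.2)]; group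
    · have e' : f x = f y := e
      have := (f2 x).symm.trans (e' ▸ f2 y)
      exact Subtype.ext (ev_inj b.inj (sg x.2) (sg y.2) (by simpa using this))
  · have κ : e * d ∈ KA ψ := by
      have := ae.mul ad.inv
      rw [mul_inv_cancel, inv_eq_of_mul_eq_one_right hd] at this
      exact this.KA
    rcases o5 _ κ (et.mul_left dt) with h | h
    · obtain ⟨m, hm⟩ := dih hd he (od _ h).2.2
      exact ⟨_, pw _ h m, .inl hm⟩
    · have e1 : e * d * t = t * e * d := by rw [(et.mul_left dt).eq, mul_assoc]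
      rw [e1] at h
      obtain ⟨m, hm⟩ := dih hd (e := t * e) (by
        rw [mul_assoc, ← mul_assoc e, et.eq, mul_assoc, he, mul_one, b.t2]) (od _ h).2.2
      exact ⟨_, pw _ h m, .inr hm⟩
  · rw [← MulAut.conj_apply, MulEquiv.orderOf_eq]; exact ha.2.2
  · have ct : ∀ σ, Commute (ev ψ σ) t := fun σ => (KA_ev b.tK σ).symm
    rcases Int.units_eq_one_or (sign p) with h | h
    · exact ⟨_, ct p, acts_ev h⟩
    · have h' : sign (p * swap 0 1) = 1 := by simp [h]
      have := (acts_ev (ψ := ψ) h').mul aτ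
      rw [mul_assoc, Equiv.swap_mul_self, mul_one] at this
      exact ⟨_, (ct _).mul_left τt, this⟩

end Cfsg.Agent.H56.HtKT
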