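import Mathlib
import Cfsg.Agent.H56.Reduce
import Cfsg.Agent.H7.StrongClosed

/-!
Subgroups with a strongly closed central series control strong fusion; when an isomorphism-invariant
functor controls strong fusion in every section, a maximal subgroup of `P` whose normalizer
controls strong fusion is centric and radical.
-/

set_option autoImplicit false

open scoped commutatorElement

namespace Cfsg.Agent.H56

open Subgroup Cfsg.Agent.H85

universe u

section general

variable {G : Type*} [Group G] {p : ℕ}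

theorem isStronglyClosed_bot (S : Subgroup G) : IsStronglyClosed ⊥ S :=
  ⟨bot_le, fun x hx g _ => by rw [mem_bot.1 hx]; simp⟩

theorem isStronglyClosed_self (S : Subgroup G) : IsStronglyClosed S S := ⟨le_rfl, fun _ _ _ h => h⟩

/-- strong closure can be tested in a subgroup controlling fusion -/
theorem SubFus.isStronglyClosed {M S B : Subgroup G} (h : SubFus M ⊤ S) (hB : B ≤ S)
    (hc : ∀ x ∈ B, ∀ g ∈ M, g * x * g⁻¹ ∈ S → g * x * g⁻¹ ∈ B) : IsStronglyClosed B S := by
  refine ⟨hB, fun x hx g hg => ?_⟩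
  obtain ⟨y, hy, hyg⟩ := h (zpowers x) (zpowers_le.2 (hB hx)) g trivial
    (by rw [cj_zpowers]; exact zpowers_le.2 hg)
  have := conj_eq_iff_mem_centralizer.2 hyg x (mem_zpowers x)
  rw [← this] at hg ⊢
  exact hc x hx y hy hg

theorem SubFus.isStronglyClosed_of_le_normalizer {M S B : Subgroup G} (h : SubFus M ⊤ S)
    (hB : B ≤ S) (hn : M ≤ normalizer (B : Set G)) : IsStronglyClosed B S :=
  h.isStronglyClosed hB fun x hx _ hg _ => (mem_normalizer_iff.1 (hn hg) x).1 hx

theorem SubFus.le_norm {S Q : Subgroup G} (h : SubFus (normalizer (Q : Set G)) ⊤ S)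
    (hQ : Q ≤ S) : S ≤ normalizer (Q : Set G) := by
  intro s hs
  obtain ⟨x, hx, hxs⟩ := h S le_rfl s trivial (cj_eq_of_mem hs).le
  have := (normalizer _).mul_mem hx (centralizer_le_normalizer _ (centralizer_le hQ hxs))
  rwa [mul_inv_cancel_left] at this

/-- `B` has a series of strongly closed subgroups of `S` whose factors are centralized by `V` -/
inductive SC (S V : Subgroup G) : Subgroup G → Prop
  | bot : SC S V ⊥
  | step {B B' : Subgroup G} : SC S V B' → IsStronglyClosed B S → ⁅B, V⁆ ≤ B' → SC S V B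

theorem SC.isStronglyClosed {S V B : Subgroup G} (h : SC S V B) : IsStronglyClosed B S := by
  cases h with
  | bot => exact isStronglyClosed_bot S
  | step _ h _ => exact h

theorem SC.of_seq {S V : Subgroup G} (B : ℕ → Subgroup G) (h1 : ∀ i, IsStronglyClosed (B i) S)
    (h2 : ∀ i, ⁅B i, V⁆ ≤ B (i + 1)) {n : ℕ} (h : SC S V (B n)) : SC S V (B 0) := by
  induction n with
  | zero => exact h
  | succ n ih => exact ih (h.step (h1 n) (h2 n))

/-- the stabilizer of the series induced on `U` -/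
theorem SC.exists_stab [Fact p.Prime] [Finite G] {S V B U : Subgroup G} (h : SC S V B)
    (hS : IsPGroup p S) (hU : U ≤ S) :
    ∃ D : Subgroup G, centralizer (U : Set G) ≤ D ∧ D ≤ normalizer (U : Set G) ∧
      normalizer (U : Set G) ≤ normalizer (D : Set G) ∧ V ⊓ normalizer (U : Set G) ≤ D ∧
      ∀ g ∈ D, (orderOf g).Coprime p → g ∈ centralizer ((B ⊓ U : Subgroup G) : Set G) := by
  induction h with
  | bot => exact ⟨_, centralizer_le_normalizer _, le_rfl, le_normalizer, inf_le_right,
      fun g _ _ => by simp [mem_centralizer_iff]⟩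
  | @step B B' h' hB hc ih =>
    obtain ⟨D, h1, h2, h3, h4, h5⟩ := ih
    have hn := H7.IsStronglyClosed.normalizer_le_inf hB hU
    have hn' := H7.IsStronglyClosed.normalizer_le_inf h'.isStronglyClosed hU
    refine ⟨D ⊓ H54.relCent (B' ⊓ U) (B ⊓ U : Subgroup G), le_inf h1 (H54.le_relCent_iff.2
      ⟨(centralizer_le_normalizer _).trans hn', ?_⟩), inf_le_left.trans h2,
      le_normalizer_inf h3 (H54.le_normalizer_relCent hn' hn),
      le_inf h4 (H54.le_relCent_iff.2 ⟨inf_le_right.trans hn', le_inf ?_ ?_⟩), fun g hg hc' => ?_⟩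
    · rw [commutator_eq_bot_iff_le_centralizer.2 (centralizer_le inf_le_right)]
      exact bot_le
    · rw [commutator_comm]
      exact (commutator_mono inf_le_left inf_le_left).trans hc
    · exact (commutator_mono inf_le_right inf_le_right).trans
        (H54.commutator_le_of_le_normalizer' le_rfl)
    · exact H54.mem_centralizer_of_coprime_step (hS.to_le (inf_le_right.trans hU)) hc'
        (h5 g hg.1 hc') ((H54.commutator_zpowers_le_iff hg.2.1).2 hg.2.2)

theorem le_of_inf_normalizer_le [Fact p.Prime] [Finite G] {S V U : Subgroup G} (hS : IsPGroup p S)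
    (hV : V ≤ S) (hU : U ≤ S) (hn : U ≤ normalizer (V : Set G))
    (h : V ⊓ normalizer (U : Set G) ≤ U) : V ≤ U := by
  by_contra hVU
  have h1 := lt_inf_normalizer_of_lt (hS.to_le (sup_le hU hV)) (left_lt_sup.2 hVU)
  rw [sup_inf_of_le_normalizer' hn le_normalizer] at h1
  exact h1.not_ge (sup_le le_rfl h)

/-- a strongly closed subgroup centralizing the factors of a strongly closed series controls
strong fusion -/
theorem SC.subFus [Fact p.Prime] [Finite G] {S V : Subgroup G} (hS : IsSyl p S ⊤) (h : SC S V S)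
    (hV : IsStronglyClosed V S) : SubFus (normalizer (V : Set G)) ⊤ S := by
  have hG := isGood_sub (normalizer (V : Set G))
  intro A hA y hy hyA
  refine hG.alperin hS (fun _ => True) (fun _ _ _ _ => trivial) (fun _ _ _ _ => trivial)
    (fun U hUS hU _ ih y _ hy => ?_) A hA trivial y hy hyA
  by_cases hVU : V ≤ U
  · exact ⟨y, H7.IsStronglyClosed.normalizer_le hV hUS hVU hy, by simp⟩
  obtain ⟨D, -, h2, h3, h4, h5⟩ := h.exists_stab hS.isPGroup hUS
  rw [inf_eq_right.2 hUS] at h5
  rw [Extremal, top_inf_eq] at hU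
  have h6 := hU.inf_of_le_normalizer h2 h3
  set T := S ⊓ normalizer (U : Set G) ⊓ D
  have hTU : ¬ T ≤ U := fun h' => hVU (le_of_inf_normalizer_le hS.isPGroup hV.1 hUS
    (hUS.trans (le_normalizer.trans (H7.IsStronglyClosed.normalizer_le hV le_rfl hV.1)))
    ((le_inf (inf_le_inf_right _ hV.1) h4).trans h'))
  have h7 : y ∈ centralizer (U : Set G) ⊔ (normalizer (U : Set G) ⊓ normalizer (T : Set G)) := by
    rw [← h6.frattini h2 h3, ← h6.resOf_sup] at hy
    exact sup_le (sup_le ((resOf_le_iff.2 h5).trans le_sup_left)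
      ((le_inf (h6.le.trans h2) le_normalizer).trans le_sup_right)) le_sup_right hy
  obtain ⟨c, hc, n, hn, rfl⟩ := (mem_sup_of_le_normalizer
    (inf_le_left.trans (normalizer_le_normalizer_centralizer U))).1 h7
  have h8 : U ⊔ T ≤ S := sup_le hUS (inf_le_left.trans inf_le_left)
  refine hG.trans _ _ _ (hG.mono _ _ _ le_sup_left (ih (U ⊔ T) h8
    (card_lt_of_lt (left_lt_sup.2 hTU)) trivial n trivial ((cj_eq_of_mem_normalizer
      (normalizer_inf_normalizer_le_normalizer_sup _ _ hn)).le.trans h8))) ⟨1, one_mem _, ?_⟩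
  rw [cj_eq_of_mem_normalizer hn.1]; simpa using hc

theorem commutator_le_of_le_centralizer_sup {Q C X P : Subgroup G} (hC : C ≤ Q)
    (hP : P ≤ normalizer (Q : Set G)) (hX : X ≤ centralizer (Q : Set G) ⊔ P) :
    ⁅C, X⁆ ≤ ⁅C, P⁆ := by
  rw [commutator_le]
  intro x hx y hy
  obtain ⟨c, hc, r, hr, rfl⟩ := (mem_sup_of_le_normalizer
    (hP.trans (normalizer_le_normalizer_centralizer Q))).1 (hX hy)
  have h1 : r * x⁻¹ * r⁻¹ ∈ Q := (mem_normalizer_iff.1 (hP hr) _).1 (Q.inv_mem (hC hx))
  have h2 := mem_centralizer_iff.1 hc _ h1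
  have : ⁅x, c * r⁆ = ⁅x, r⁆ := by
    rw [commutatorElement_def, commutatorElement_def]
    calc x * (c * r) * x⁻¹ * (c * r)⁻¹ = x * (c * (r * x⁻¹ * r⁻¹)) * c⁻¹ := by group
      _ = _ := by rw [← h2]; group
  rw [this]; exact commutator_mem_commutator hx hr

/-- the series `[Q, X, …, X]` -/
theorem SubFus.sc [Fact p.Prime] [Finite G] {S Q X V : Subgroup G} (hS : IsPGroup p S)
    (h : SubFus (normalizer (Q : Set G)) ⊤ S) (hQ : Q ≤ S) (hX : X ≤ normalizer (Q : Set G))
    (hn : normalizer (Q : Set G) ≤ normalizer (X : Set G))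
    (hXS : X ≤ centralizer (Q : Set G) ⊔ S) (hV : V ≤ X) : SC S V Q := by
  have := hS.isNilpotent
  obtain ⟨n, hn'⟩ := H54.exists_iterCommutator_eq_bot hQ (le_refl S)
  have h1 : ∀ i, iterCommutator Q X i ≤ iterCommutator Q S i := by
    intro i
    induction i with
    | zero => exact le_rfl
    | succ i ih =>
      exact (commutator_le_of_le_centralizer_sup (H54.iterCommutator_le hX i) (h.le_norm hQ)
        hXS).trans (commutator_mono ih le_rfl)
  refine SC.of_seq (iterCommutator Q X) (fun i => h.isStronglyClosed_of_le_normalizer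
    ((H54.iterCommutator_le hX i).trans hQ) (H54.le_normalizer_iterCommutator le_rfl hn i))
    (fun i => commutator_mono le_rfl hV) (n := n) ?_
  rw [le_bot_iff.1 ((h1 n).trans hn'.le)]
  exact SC.bot

/-- a subgroup whose normalizer controls strong fusion lies in the centric radical subgroups -/
theorem SubFus.le_of_radical [Fact p.Prime] [Finite G] {S Q R : Subgroup G} (hS : IsPGroup p S)
    (h : SubFus (normalizer (Q : Set G)) ⊤ S) (hQ : Q ≤ S) (hR : R ≤ S)
    (hc : S ⊓ centralizer (R : Set G) ≤ R)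
    (hrad : ∀ X, X ≤ normalizer (R : Set G) → normalizer (R : Set G) ≤ normalizer (X : Set G) →
      R ⊔ centralizer (R : Set G) ≤ X → PQuot p (R ⊔ centralizer (R : Set G)) X →
      X = R ⊔ centralizer (R : Set G)) : Q ≤ R := by
  have hn := h.le_norm hQ
  have h1 : SC S Q S := (h.sc hS hQ le_normalizer le_rfl (hQ.trans le_sup_right) le_rfl).step
    (isStronglyClosed_self S) (H54.commutator_le_of_le_normalizer' hn)
  obtain ⟨D, h2, h3, h4, h5, h6⟩ := h1.exists_stab hS hR
  rw [inf_eq_right.2 hR] at h6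
  have h7 := hrad (R ⊔ D) (sup_le le_normalizer h3) (le_normalizer_sup le_rfl h4)
    (sup_le_sup_left h2 _) (by
      refine PQuot.mono (pquot_resOf (R ⊔ D)) ?_ le_rfl
      rw [sup_comm R D, resOf_sup_of_isPGroup (hS.to_le hR) (le_normalizer.trans h4)]
      exact (resOf_le_iff.2 h6).trans le_sup_right)
  refine le_of_inf_normalizer_le hS hQ hR (hR.trans hn) ?_
  have h8 : Q ⊓ normalizer (R : Set G) ≤ (R ⊔ centralizer (R : Set G)) ⊓ S :=
    le_inf (h5.trans (le_sup_right.trans h7.le)) (inf_le_left.trans hQ)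
  rw [sup_inf_of_le_normalizer' (le_normalizer.trans (normalizer_le_normalizer_centralizer R)) hR]
    at h8
  exact h8.trans (sup_le le_rfl ((inf_comm _ _).le.trans hc))

end general

section functor

variable {p : ℕ} [Fact p.Prime] {W : ∀ (Q : Type u) [Group Q], Subgroup Q}

/-- a strongly closed abelian subgroup inside a normal subgroup -/
theorem exists_stronglyClosed_of_normal (hW : IsCharPFunctor.{u} p W) {X : Type u} [Group X]
    [Finite X] {S H : Subgroup X} [H.Normal] (hS : IsSyl p S ⊤) (h0 : S ⊓ H ≠ ⊥)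
    (hH : FusCtl p {W} H) :
    ∃ A : Subgroup X, A ≠ ⊥ ∧ A ≤ H ∧ ⁅A, A⁆ = ⊥ ∧ IsStronglyClosed A S := by
  have hR := hS.inf_of_le_normalizer (le_top (a := H)) le_normalizer_of_normal
  have hc := isConjugacyFunctor_induced hW X
  have h1 := hH.subgroup (by rintro _ rfl; exact hW) hR
  rw [indFam_singleton, famFus_singleton_iff] at h1
  set R := S ⊓ H
  set V := inducedFunctor W R
  have hV : V ≤ R := functor_le hc hR.isPGroup
  have hn : normalizer (V : Set X) ≤
      normalizer ((V ⊓ centralizer (V : Set X) : Subgroup X) : Set X) :=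
    le_normalizer_inf le_rfl (normalizer_le_normalizer_centralizer V)
  refine ⟨V ⊓ centralizer (V : Set X),
    inf_centralizer_ne_bot (hR.isPGroup.to_le hV) (functor_ne_bot hc hR.isPGroup h0),
    inf_le_left.trans (hV.trans inf_le_right), commutator_eq_bot_iff_le_centralizer.2
      (inf_le_right.trans (centralizer_le inf_le_left)),
    inf_le_left.trans (hV.trans inf_le_left), fun x hx g hg => ?_⟩
  have h2 : g ∈ H ⊔ (⊤ ⊓ normalizer (R : Set X)) := by
    rw [hR.frattini le_top le_normalizer_of_normal]; trivial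
  obtain ⟨k, hk, n, hn', rfl⟩ := (mem_sup_of_le_normalizer le_normalizer_of_normal).1 h2
  have h3 : n * x * n⁻¹ ∈ V ⊓ centralizer (V : Set X) :=
    (mem_normalizer_iff.1 (hn (functor_normalizer hc hR.isPGroup hn'.2)) x).1 hx
  have e : k * n * x * (k * n)⁻¹ = k * (n * x * n⁻¹) * k⁻¹ := by group
  rw [e] at hg ⊢
  obtain ⟨y, hy, hyk⟩ := h1 (zpowers (n * x * n⁻¹)) (zpowers_le.2 (hV h3.1)) k hk (by
    rw [cj_zpowers]
    exact zpowers_le.2 ⟨hg, H.mul_mem (H.mul_mem hk (hV h3.1).2) (H.inv_mem hk)⟩)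
  rw [← conj_eq_iff_mem_centralizer.2 hyk _ (mem_zpowers _)]
  exact (mem_normalizer_iff.1 (hn hy.2) _).1 h3

theorem exists_stronglyClosed_over (hW : IsCharPFunctor.{u} p W) {X : Type u} [Group X]
    [Finite X] (hsec : ∀ (Y : Type u) [Group Y], IsSec Y X → FusCtl p {W} Y)
    {S Q H : Subgroup X} [Q.Normal] [H.Normal] (hS : IsSyl p S ⊤) (hQ : Q ≤ S) (hQH : Q ≤ H)
    (h0 : ¬ S ⊓ H ≤ Q) :
    ∃ V : Subgroup X, Q < V ∧ V ≤ H ∧ ⁅V, V⁆ ≤ Q ∧ IsStronglyClosed V S := by
  set π := QuotientGroup.mk' Q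
  have hπ : Function.Surjective π := QuotientGroup.mk'_surjective Q
  have hk : π.ker = Q := QuotientGroup.ker_mk' Q
  have := Normal.map (inferInstance : H.Normal) π hπ
  obtain ⟨A, h1, h2, h3, h4⟩ := exists_stronglyClosed_of_normal hW (H := H.map π)
    (isSyl_map_mk' hS Q) (fun h => h0 (by
      rw [← hk, ← Subgroup.map_eq_bot_iff, eq_bot_iff, ← h]; exact map_inf_le _ _ _))
    (hsec _ ((isSec_subgroup _).trans (isSec_quotient Q)))
  have e : ∀ B : Subgroup X, Q ≤ B → (B.map π).comap π = B := fun B hB =>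
    comap_map_eq_self (hk.le.trans hB)
  refine ⟨A.comap π, lt_of_le_of_ne (hk.ge.trans (ker_le_comap π A)) fun h => h1 ?_,
    e H hQH ▸ comap_mono h2, ?_, e S hQ ▸ comap_mono h4.1, fun x hx g hg => ?_⟩
  · rw [← map_comap_eq_self_of_surjective hπ A, ← h, Subgroup.map_eq_bot_iff, hk]
  · refine le_trans ?_ hk.le
    rw [← Subgroup.map_eq_bot_iff, map_commutator, map_comap_eq_self_of_surjective hπ, h3]
  · have := h4.2 (π x) hx (π g) (by
      rw [← map_inv, ← map_mul, ← map_mul]; exact mem_map_of_mem π hg)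
    rwa [← map_inv, ← map_mul, ← map_mul] at this

variable {G : Type u} [Group G] [Finite G]

/-- a maximal subgroup of `S` whose normalizer controls strong fusion -/
theorem inf_le_of_maximal (hW : IsCharPFunctor.{u} p W)
    (hsec : ∀ (Y : Type u) [Group Y], IsSec Y G → FusCtl p {W} Y) {S Q X : Subgroup G}
    (hS : IsSyl p S ⊤)
    (hQ : Maximal (fun Q : Subgroup G => Q ≤ S ∧ SubFus (normalizer (Q : Set G)) ⊤ S) Q)
    (hQX : Q ≤ X) (hX : X ≤ normalizer (Q : Set G))
    (hn : normalizer (Q : Set G) ≤ normalizer (X : Set G))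
    (hXS : X ≤ centralizer (Q : Set G) ⊔ S) : S ⊓ X ≤ Q := by
  by_contra h0
  obtain ⟨hQS, hf⟩ := hQ.1
  have hSM := hf.le_norm hQS
  set M := normalizer (Q : Set G)
  have : (X.subgroupOf M).Normal := (normal_subgroupOf_iff_le_normalizer hX).2 hn
  obtain ⟨V, h1, h2, h3, h4⟩ := exists_stronglyClosed_over hW
    (fun Y _ hY => hsec Y (hY.trans (isSec_subgroup M))) (Q := Q.subgroupOf M)
    (H := X.subgroupOf M) (isSyl_top (hS.of_le hSM le_top).toSylow) (comap_mono hQS)
    (comap_mono hQX) (fun h => h0 fun x hx => h (show (⟨x, hSM hx.1⟩ : M) ∈ _ from hx))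
  have h5 : Q < V.map M.subtype := by
    rw [← map_subgroupOf_eq_of_le (le_normalizer : Q ≤ M)]
    exact (map_lt_map_iff_of_injective M.subtype_injective).2 h1
  have h6 : IsStronglyClosed (V.map M.subtype) S := by
    refine hf.isStronglyClosed (map_le_iff_le_comap.2 h4.1) ?_
    rintro _ ⟨x, hx, rfl⟩ g hg hgx
    exact ⟨_, h4.2 x hx ⟨g, hg⟩ hgx, rfl⟩
  have h7 : SC S (V.map M.subtype) S := by
    refine ((hf.sc hS.isPGroup hQS hX hn hXS (map_le_iff_le_comap.2 h2)).step h6 ?_).step
      (isStronglyClosed_self S) (H54.commutator_le_of_le_normalizer'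
        (le_normalizer.trans (H7.IsStronglyClosed.normalizer_le h6 le_rfl h6.1)))
    rw [← map_commutator]; exact map_le_iff_le_comap.2 h3
  exact h5.not_ge (hQ.2 ⟨h6.1, h7.subFus hS h6⟩ h5.le)

/-- the fusion system is constrained -/
theorem exists_centric_radical (hW : IsCharPFunctor.{u} p W)
    (hsec : ∀ (Y : Type u) [Group Y], IsSec Y G → FusCtl p {W} Y) {S : Subgroup G}
    (hS : IsSyl p S ⊤) : ∃ Q ≤ S, SubFus (normalizer (Q : Set G)) ⊤ S ∧
      S ⊓ centralizer (Q : Set G) ≤ Q ∧
      ∀ X, X ≤ normalizer (Q : Set G) → normalizer (Q : Set G) ≤ normalizer (X : Set G) →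
        Q ⊔ centralizer (Q : Set G) ≤ X → PQuot p (Q ⊔ centralizer (Q : Set G)) X →
        X = Q ⊔ centralizer (Q : Set G) := by
  obtain ⟨Q, hQ⟩ := (Set.toFinite
    {Q : Subgroup G | Q ≤ S ∧ SubFus (normalizer (Q : Set G)) ⊤ S}).exists_maximal
    ⟨⊥, bot_le, fun A _ y _ _ => ⟨y, by rw [normalizer_eq_top]; trivial, by simp⟩⟩
  have hn : normalizer (Q : Set G) ≤
      normalizer ((Q ⊔ centralizer (Q : Set G) : Subgroup G) : Set G) :=
    le_normalizer_sup le_rfl (normalizer_le_normalizer_centralizer Q)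
  refine ⟨Q, hQ.1.1, hQ.1.2, (inf_le_inf_left _ le_sup_right).trans (inf_le_of_maximal hW hsec hS hQ
    le_sup_left (sup_le le_normalizer (centralizer_le_normalizer _)) hn
    (sup_le (hQ.1.1.trans le_sup_right) le_sup_left)), fun X h1 h2 h3 h4 => ?_⟩
  have h5 := ((hS.of_le (hQ.1.2.le_norm hQ.1.1) le_top).inf_of_le_normalizer h1
    h2).sup_eq_of_pquot h3 (h1.trans hn) h4
  have h6 := inf_le_of_maximal hW hsec hS hQ (le_sup_left.trans h3) h1 h2
    (h5.ge.trans (sup_le (sup_le (hQ.1.1.trans le_sup_right) le_sup_left)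
      (inf_le_left.trans le_sup_right)))
  rw [← h5, sup_eq_left]
  exact h6.trans le_sup_left

end functor

end Cfsg.Agent.H56
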