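import Cfsg.Agent.H56.FSN1
import Cfsg.Agent.H3.Cores

/-!
The functions `W`, `Y` on involutions of a minimal non-solvable member of the class.
-/

set_option autoImplicit false

namespace Cfsg.Agent.H56.FS

open Subgroup

universe u

section

variable {G : Type*} [Group G] {p r : ℕ} {D : Set (Subgroup G)}

/-- good elements centralising `t` and a point centralised by `t` -/
def WS (D : Set (Subgroup G)) (t : G) : Set G :=
  {w | Gd D w ∧ w ∈ Ce t ∧ ∃ A ∈ D, A ≤ Ce t ∧ A ≤ Ce w}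

def YY (D : Set (Subgroup G)) (t : G) : Subgroup G := closure (WS D t)

def CY (D : Set (Subgroup G)) (t : G) : Subgroup G := centralizer (YY D t : Set G)

theorem cj_centralizer (g : G) (Y : Subgroup G) :
    cj g (centralizer (Y : Set G)) = centralizer (cj g Y : Set G) := by
  ext x
  rw [mem_cj]
  constructor
  · rintro h _ ⟨y, hy, rfl⟩
    have := h y hy
    show g * y * g⁻¹ * x = x * (g * y * g⁻¹)
    calc g * y * g⁻¹ * x = g * (y * (g⁻¹ * x * g)) * g⁻¹ := by group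
      _ = _ := by rw [this]; group
  · intro h y hy
    have := h _ (conj_mem_cj hy)
    calc y * (g⁻¹ * x * g) = g⁻¹ * (g * y * g⁻¹ * x) * g := by group
      _ = _ := by rw [this]; group

theorem ws_conj (hinv : ∀ A ∈ D, ∀ g : G, cj g A ∈ D) (g : G) {t w : G} (hw : w ∈ WS D t) :
    g * w * g⁻¹ ∈ WS D (g * t * g⁻¹) := by
  obtain ⟨⟨w1, h1⟩, h2, A, hA, h3, h4⟩ := hw
  refine ⟨⟨fun e => w1 (by simpa using e), ?_⟩, cj_Ce g t ▸ conj_mem_cj h2, cj g A, hinv A hA g,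
    cj_Ce g t ▸ cj_mono g h3, cj_Ce g w ▸ cj_mono g h4⟩
  rw [← cj_Ce, ← cj_RR hinv]
  exact conj_mem_cj h1

theorem cj_YY_le (hinv : ∀ A ∈ D, ∀ g : G, cj g A ∈ D) (g t : G) :
    cj g (YY D t) ≤ YY D (g * t * g⁻¹) := by
  rw [map_le_iff_le_comap]
  exact (closure_le _).2 fun w hw => subset_closure (ws_conj hinv g hw)

theorem cj_YY (hinv : ∀ A ∈ D, ∀ g : G, cj g A ∈ D) (g t : G) :
    cj g (YY D t) = YY D (g * t * g⁻¹) := by
  refine le_antisymm (cj_YY_le hinv g t) ?_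
  have := cj_mono g (cj_YY_le hinv g⁻¹ (g * t * g⁻¹))
  rwa [cj_cj_inv, show g⁻¹ * (g * t * g⁻¹) * g⁻¹⁻¹ = t by group] at this

theorem cj_CY (hinv : ∀ A ∈ D, ∀ g : G, cj g A ∈ D) (g t : G) :
    cj g (CY D t) = CY D (g * t * g⁻¹) := by
  unfold CY; rw [cj_centralizer, cj_YY hinv]

theorem YY_le (t : G) : YY D t ≤ Ce t := (closure_le _).2 fun _ hw => hw.2.1

theorem norm_YY (hinv : ∀ A ∈ D, ∀ g : G, cj g A ∈ D) (t : G) :
    Ce t ≤ normalizer (YY D t : Set G) := fun g hg =>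
  cj_eq_iff.1 (by rw [cj_YY hinv, mem_Ce.1 hg, mul_inv_cancel_right])

theorem le_CY {t : G} {X : Subgroup G} : X ≤ CY D t ↔ ∀ w ∈ WS D t, X ≤ Ce w := by
  unfold CY YY
  rw [le_centralizer_iff, closure_le]
  exact ⟨fun h w hw => le_Ce_iff.2 (h hw), fun h w hw => le_Ce_iff.1 (h w hw)⟩

theorem le_core [Finite G] {t : G} {K : Subgroup G} (h1 : K ≤ Ce t)
    (h2 : Ce t ≤ normalizer (K : Set G)) (ho : Odd (Nat.card K)) :
    K ≤ Cfsg.centralizerPPrimeCore 2 t := by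
  have : (K.subgroupOf (Ce t)).Normal := normal_subgroupOf_of_le_normalizer h2
  have h3 : K.subgroupOf (Ce t) ≤ Cfsg.pPrimeCore 2 (Ce t) := H3.le_pPrimeCore (by
    rw [Nat.card_congr (subgroupOfEquivOfLe h1).toEquiv]
    exact (Nat.coprime_two_right).2 ho)
  intro x hx
  exact ⟨⟨x, h1 hx⟩, h3 hx, rfl⟩

theorem pow_mod {R : Subgroup G} {u y : G} (hu : u ∈ R) (hy : y ∈ normalizer (R : Set G)) (n : ℕ) :
    ∃ w ∈ R, (u * y) ^ n = w * y ^ n := by
  induction n with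
  | zero => exact ⟨1, one_mem _, by simp⟩
  | succ n ih =>
    obtain ⟨w, hw, e⟩ := ih
    refine ⟨w * (y ^ n * u * (y ^ n)⁻¹),
      mul_mem hw ((mem_normalizer_iff.1 (pow_mem hy n) u).1 hu), ?_⟩
    rw [pow_succ, e, pow_succ]; group

theorem conj_to_cent [Finite G] {R : Subgroup G} (ho : Odd (Nat.card R)) {t u g : G}
    (ht : t * t = 1) (hn : t ∈ normalizer (R : Set G)) (hu : u ∈ R) {m : ℕ} (e : g ^ m = u * t) :
    ∃ w ∈ R, w * g * w⁻¹ ∈ Ce t := by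
  obtain ⟨k, hk⟩ := ho
  have tp : t ^ Nat.card R = t := by
    rw [hk, pow_succ, pow_mul, pow_two, ht, one_pow, one_mul]
  obtain ⟨u1, hu1, e1⟩ := pow_mod hu hn (Nat.card R)
  obtain ⟨u2, hu2, e2⟩ := pow_mod hu hn 2
  rw [tp] at e1
  have e3 : (u1 * t) ^ 2 = 1 := by
    rw [← e1, ← pow_mul, mul_comm, pow_mul, e2, pow_two t, ht, mul_one]
    exact H4.pow_card_eq_one_of_mem hu2
  have ti : t⁻¹ = t := inv_eq_of_mul_eq_one_right ht
  have e4 : t * u1⁻¹ * t⁻¹ = u1 := by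
    have : u1 * t * u1 * t = 1 := by rw [← e3, pow_two]; group
    calc t * u1⁻¹ * t⁻¹ = t * u1⁻¹ * (u1 * t * u1 * t) * t⁻¹ * t⁻¹ * t := by rw [this]; group
      _ = (t * t) * u1 * (t⁻¹ * t) := by group
      _ = u1 := by rw [ht]; group
  have e5 : t * (u1 ^ k)⁻¹ * t⁻¹ = u1 ^ k := by
    rw [← inv_pow, ← conj_pow, e4]
  have e6 : u1 ^ k * (u1 * t) * (u1 ^ k)⁻¹ = t := by
    calc u1 ^ k * (u1 * t) * (u1 ^ k)⁻¹ = u1 ^ k * u1 * (t * (u1 ^ k)⁻¹ * t⁻¹) * t := by group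
      _ = u1 ^ (2 * k + 1) * t := by rw [e5]; group
      _ = t := by rw [← hk, H4.pow_card_eq_one_of_mem hu1, one_mul]
  refine ⟨u1 ^ k, pow_mem hu1 k, ?_⟩
  have e7 : (u1 ^ k * g * (u1 ^ k)⁻¹) ^ (m * Nat.card R) = t := by
    rw [conj_pow, pow_mul, e, e1, e6]
  rw [mem_Ce, ← e7]
  exact (Commute.self_pow _ _).eq

namespace Mn

variable [Finite G] (h : Mn p r D)
include h

theorem LL_le_CY {t : G} (t1 : t ≠ 1) : LL D (Ce t) ≤ CY D t :=
  le_CY.2 fun _ ⟨hw, h1, _, hA, h2, h3⟩ =>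
    h.n1 hw (h.Ce_ne_top t1) hA h2 h3 (mem_norm_LL_Ce h.inv h1)

theorem ncl {A : Subgroup G} (hA : A ∈ D) {a : G} (ha : a ∈ A) (a1 : a ≠ 1) :
    normalClosure ({a} : Set G) = ⊤ := by
  rw [← top_le_iff, ← h.gen]
  refine sSup_le fun B hB => ?_
  obtain ⟨u, -, rfl⟩ := h.toCl.conj_pt_pair hA hB
  refine cj_le_iff.2 fun x hx => normalClosure_normal.conj_mem _ ?_ u
  rw [← h.zpowers_eq hA ha a1] at hx
  exact zpowers_le.2 (subset_normalClosure (Set.mem_singleton a)) hx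

theorem star_hyp {t : G} (ht : orderOf t = 2) (k3 : ∀ A ∈ D, cj t A = A → A ≤ Ce t)
    (ho : Odd (Nat.card (YY D t))) {A : Subgroup G} (hA : A ∈ D) {a : G} (ha : a ∈ A) :
    ∃ v ∈ Cfsg.centralizerPPrimeCore 2 t, IsConj (a * t) (t * v) := by
  have tt : t * t = 1 := by rw [← pow_two, ← ht, pow_orderOf_eq_one]
  have t1 : t ≠ 1 := fun e => by rw [e, orderOf_one] at ht; omega
  have hs := h.toCl.sol_pair hA (h.inv A hA t)
  set X := A ⊔ cj t A with hX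
  have tn : t ∈ normalizer (LL D X : Set G) :=
    norm_LL h.inv _ (cj_eq_iff.1 (by rw [hX, cj_sup, cj_cj, tt, cj_one, sup_comm]))
  obtain ⟨B, hB, hBX, eB⟩ := h.toCl.fix_pt_inv hs hA le_sup_left ht tn
  have Bt := k3 B hB eB
  obtain ⟨u, hu, b, hb, e⟩ := h.toCl.decomp hs hB hBX (le_LL hA le_sup_left ha)
  have bn : b ∈ normalizer (RR D X : Set G) := LL_le_norm_RR X (le_LL hB hBX hb)
  have hbt : b * t ∈ normalizer (RR D X : Set G) := mul_mem bn (norm_RR X tn)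
  obtain ⟨u2, hu2, e2⟩ := pow_mod hu hbt p
  have c : Commute b t := mem_Ce.1 (Bt hb)
  obtain ⟨k, hk⟩ := h.pp.odd_of_ne_two h.p2
  rw [c.mul_pow, h.pow_p hB hb, one_mul, show t ^ p = t by
    rw [hk, pow_succ, pow_mul, pow_two, tt, one_pow, one_mul]] at e2
  obtain ⟨w, hw, hc⟩ := conj_to_cent (h.odd_of_pg (h.pg X hs)) tt (norm_RR X tn) hu2 e2
  set u' := w * u * ((b * t) * w⁻¹ * (b * t)⁻¹) with hu'
  have e3 : w * (u * (b * t)) * w⁻¹ = u' * (b * t) := by rw [hu']; group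
  have m1 : u' ∈ RR D X :=
    mul_mem (mul_mem hw hu) ((mem_normalizer_iff.1 hbt _).1 (inv_mem hw))
  have m2 : u' ∈ Ce t := by
    rw [e3] at hc
    have := mul_mem hc (inv_mem (mul_mem (Bt hb) (mem_Ce.2 rfl : t ∈ Ce t)))
    rwa [mul_inv_cancel_right] at this
  have O1 : LL D (Ce t) ≤ Cfsg.centralizerPPrimeCore 2 t :=
    le_core (LL_le _) (fun g hg => mem_norm_LL_Ce h.inv hg)
      (h.toCl.odd_LL (h.sol _ (h.Ce_ne_top t1)))
  have O2 : YY D t ≤ Cfsg.centralizerPPrimeCore 2 t := le_core (YY_le t) (norm_YY h.inv t) ho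
  obtain ⟨n, hn, c, hc', e4⟩ := H4.exists_commutator_mul_centralizer (A := B)
    (K := RR D X ⊓ Ce t)
    (H4.le_normalizer_inf ((le_LL hB hBX).trans (LL_le_norm_RR X)) (Bt.trans le_normalizer))
    (h.cop hB ((h.pg X hs).to_le inf_le_left)) (Or.inl (h.solv_pt hB)) (mem_inf.2 ⟨m1, m2⟩)
  have n1 : n ∈ LL D (Ce t) := by
    refine (commutator_le.2 fun x hx y hy => ?_ : _ ≤ LL D (Ce t)) hn
    exact mul_mem (le_LL (h.inv B hB x) (cj_le_of_mem hx.2 Bt) (conj_mem_cj hy))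
      (inv_mem (le_LL hB Bt hy))
  have c1 : c ∈ YY D t := by
    by_cases c0 : c = 1
    · rw [c0]; exact one_mem _
    · exact subset_closure ⟨gd_of_Z ⟨hc'.1.1, h.cen X hs B hB hBX ⟨hc'.1.1, hc'.2⟩⟩ c0, hc'.1.2,
        B, hB, Bt, le_Ce_iff.2 hc'.2⟩
  refine ⟨u' * b, mul_mem (e4 ▸ mul_mem (O1 n1) (O2 c1)) (O1 (le_LL hB Bt hb)),
    isConj_iff.2 ⟨w, ?_⟩⟩
  rw [e, mul_assoc u, e3, ← mem_Ce.1 (mul_mem m2 (Bt hb)), mul_assoc u' b t]

theorem CY_ne_top {t : G} (he : Even (Nat.card (YY D t))) : CY D t ≠ ⊤ := fun e => by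
  have : YY D t = ⊥ := le_bot_iff.1 ((closure_le _).2 fun w hw =>
    (h.Ce_ne_top hw.1.1 (top_le_iff.1 (le_CY.1 e.ge w hw))).elim)
  rw [this, card_bot] at he
  exact Nat.not_even_one he

theorem W_comm {t : G} (he : Even (Nat.card (YY D t))) :
    RR D (CY D t) ≤ centralizer (RR D (CY D t) : Set G) := fun x hx y hy => by
  by_contra hne
  have c1 : y * x * y⁻¹ * x⁻¹ ≠ 1 := fun e => hne (by
    calc y * x = (y * x * y⁻¹ * x⁻¹) * (x * y) := by group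
      _ = x * y := by rw [e, one_mul])
  have : YY D t ≤ RR D (Ce (y * x * y⁻¹ * x⁻¹)) := (closure_le _).2 fun w hw => by
    have l := RR_mono (D := D) (le_CY.1 le_rfl w hw)
    have := h.blk3 hw.1 (h.cm_mem_Z hw.1 (h.Ce_ne_top hw.1.1) (l hy) (l hx)) c1
    rw [RR_congr this]
    exact hw.1.2
  exact Nat.not_even_iff_odd.2 (h.odd_of_pg ((h.pgR (h.Ce_ne_top c1)).to_le this)) he

theorem sigma {t : G} (he : Even (Nat.card (YY D t))) {A B : Subgroup G} (hA : A ∈ D) (hB : B ∈ D)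
    (ne : A ≠ B) (h1 : A ≤ CY D t) (h2 : B ≤ CY D t) :
    LL D (normalizer (RR D (A ⊔ B) : Set G)) = LL D (CY D t) := by
  have := Fact.mk h.pr
  have An : A ≤ normalizer (RR D (A ⊔ B) : Set G) :=
    (le_LL hA le_sup_left).trans (LL_le_norm_RR _)
  refine le_antisymm (LL_le_LL (le_CY.2 fun w hw => ?_)) (LL_le_LL ?_)
  · have l : A ⊔ B ≤ Ce w := le_CY.1 (sup_le h1 h2) w hw
    refine h.n1 hw.1 (h.norm_ne_top (h.toCl.RR_pair_ne hA hB ne)
      (H4.isSolvable_of_isPGroup (h.pg _ (h.toCl.sol_pair hA hB)))) hA An (le_sup_left.trans l)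
      (norm_LL h.inv _ (le_normalizer (centralizer_le_normalizer _ (le_Ce_iff.1 ?_))))
    exact ((RR_le _).trans (LL_le _)).trans l
  · rw [h.sup _ (h.sol _ (h.CY_ne_top he)) A hA h1]
    exact sup_le (fun x hx => centralizer_le_normalizer _ fun y hy =>
      h.W_comm he hx y (RR_mono (sup_le h1 h2) hy)) An

theorem W_cen {t : G} (he : Even (Nat.card (YY D t))) {A : Subgroup G} (hA : A ∈ D)
    (h1 : A ≤ CY D t) {v : G} (hv : v ∈ RR D (CY D t)) (e : cj v A = A) : v = 1 := by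
  have tC := h.CY_ne_top he
  have An : A ≤ normalizer (RR D (CY D t) : Set G) := (le_LL hA h1).trans (LL_le_norm_RR _)
  have : IsMulCommutative (RR D (CY D t)) :=
    ⟨⟨fun a b => Subtype.ext (h.W_comm he b.2 a a.2)⟩⟩
  have h2 := H4.centralizer_inf_commutator_eq_bot An (h.cop hA (h.pgR tC))
  have h3 : RR D (CY D t) ≤ ⁅RR D (CY D t), A⁆ := by
    refine commutator_le.2 fun x hx y hy => ?_
    obtain ⟨u, hu, a, ha, rfl⟩ := h.toCl.decomp (h.sol _ tC) hA h1 hx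
    obtain ⟨w, hw, b, hb, rfl⟩ := h.toCl.decomp (h.sol _ tC) hA h1 hy
    have hab : a * b = b * a := h.comm hA hb a ha
    have cm : ∀ {x y : G}, x ∈ RR D (CY D t) → y ∈ RR D (CY D t) → x * y = y * x :=
      fun hx hy => h.W_comm he hy _ hx
    have m1 : a * w * a⁻¹ ∈ RR D (CY D t) := (mem_normalizer_iff.1 (An ha) w).1 hw
    have m2 : b * u * b⁻¹ ∈ RR D (CY D t) := (mem_normalizer_iff.1 (An hb) u).1 hu
    have : u * a * (w * b) * (u * a)⁻¹ * (w * b)⁻¹ =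
        (u * b * u⁻¹ * b⁻¹) * (w * a * w⁻¹ * a⁻¹)⁻¹ := by
      calc u * a * (w * b) * (u * a)⁻¹ * (w * b)⁻¹
          = u * (a * w * a⁻¹) * (a * b) * a⁻¹ * u⁻¹ * b⁻¹ * w⁻¹ := by group
        _ = u * ((a * w * a⁻¹) * (b * u * b⁻¹)⁻¹) * w⁻¹ := by rw [hab]; group
        _ = _ := by rw [cm m1 (inv_mem m2)]; group
    show u * a * (w * b) * (u * a)⁻¹ * (w * b)⁻¹ ∈ _
    rw [this]
    exact mul_mem (commutator_mem_commutator hu hb) (inv_mem (commutator_mem_commutator hw ha))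
  exact mem_bot.1 (h2 ▸ mem_inf.2 ⟨h.toCl.norm_cen (h.sol _ tC) hA h1 hv e, h3 hv⟩)

end Mn

end

theorem cfg (k3 : K3Stmt.{u}) (k4 : K4Stmt.{u}) (star : StarStmt.{u}) : CfgStmt.{u} := by
  intro G _ _ p r D h
  have ne1 : ∀ {t : G}, orderOf t = 2 → t ≠ 1 := fun ht e => by
    rw [e, orderOf_one] at ht; omega
  have ev : ∀ {t : G}, orderOf t = 2 → Even (Nat.card (YY D t)) := fun {t} ht => by
    by_contra ho
    obtain ⟨A, hA⟩ := h.exists_pt
    obtain ⟨a, ha, a1, -⟩ := h.exists_gen hA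
    exact star G a t (h.ncl hA ha a1) ht fun g => h.star_hyp ht (k3 G p r D h t ht)
      (Nat.not_even_iff_odd.1 ho) (h.inv A hA g) (conj_mem_cj ha)
  refine ⟨fun t => RR D (CY D t), YY D, ⟨fun t g _ => ?_, fun t ht => ?_, fun t ht e => ?_,
    fun s t hs ht c hne => ?_, fun t _ => YY_le t, fun t _ => ?_, fun t _ => norm_YY h.inv t,
    fun t ht => ev ht, fun t _ => ?_⟩, fun t => ⟨RR_le_commutator _, ?_⟩⟩
  · rw [cj_RR h.inv, cj_CY h.inv]
  · exact h.odd_of_pg (h.pgR (h.CY_ne_top (ev ht)))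
  · obtain ⟨A, hA, B, hB, ne, h1, h2⟩ := k4 G p r D h t ht
    refine h.toCl.RR_pair_ne hA hB ne (le_bot_iff.1 (e ▸ le_inf (RR_le_RR ?_) ?_))
    · exact (LL_mono (sup_le h1 h2)).trans (h.LL_le_CY (ne1 ht))
    · exact ((RR_le _).trans (LL_le _)).trans (sup_le h1 h2)
  · obtain ⟨⟨v, hv⟩, v1⟩ := ne_bot_iff_exists_ne_one.1 hne
    have v1' : v ≠ 1 := fun e => v1 (Subtype.ext e)
    have tC := h.CY_ne_top (ev ht)
    obtain ⟨A0, hA0, h0⟩ := exists_pt_of_RR (D := D) (X := CY D t)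
      fun e => v1' (mem_bot.1 (e ▸ hv.1))
    obtain ⟨A, hA, h1, eA⟩ := h.toCl.fix_pt_inv (h.sol _ tC) hA0 h0 hs
      (norm_LL h.inv _ (cj_eq_iff.1 (by rw [cj_CY h.inv, c.eq, mul_inv_cancel_right])))
    have As := k3 G p r D h s hs A hA eA
    have ne : A ≠ cj v A := fun e => v1' (h.W_cen (ev ht) hA h1 hv.1 e.symm)
    have hB := h.inv A hA v
    exact RR_congr ((h.sigma (ev hs) hA hB ne ((le_LL hA As).trans (h.LL_le_CY (ne1 hs)))
      ((le_LL hB (cj_le_of_mem hv.2 As)).trans (h.LL_le_CY (ne1 hs)))).symm.trans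
      (h.sigma (ev ht) hA hB ne h1 (cj_le_of_mem (LL_le _ (RR_le _ hv.1)) h1)))
  · exact le_centralizer_iff.1 ((RR_le _).trans (LL_le _))
  · refine closure_mono fun w hw => ⟨subset_closure hw, ?_⟩
    rw [← Nat.card_zpowers]
    exact h.odd_of_pg (h.pg_zp hw.1)
  · exact (closure_le _).2 fun w hw => RR_le_commutator _ hw.1.2

end Cfsg.Agent.H56.FS
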