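import Mathlib.GroupTheory.Sylow
import Mathlib.LinearAlgebra.Matrix.SpecialLinearGroup
import Cfsg.Prelude.Def_Solvable
import Cfsg.Prelude.Def_Local
import Cfsg.Prelude.Def_CaseTheorems

/-!
Groups generated by an invariant set of subgroups of odd prime order any two of which generate a
fixed group of odd order: definitions and the statements of the steps.
-/

set_option autoImplicit false

namespace Cfsg.Agent.H56.FS

open Subgroup

universe u v

section Defs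

variable {G : Type*} [Group G]

/-- conjugate subgroup `g A g⁻¹` -/
abbrev cj (g : G) (A : Subgroup G) : Subgroup G := A.map (MulAut.conj g).toMonoidHom

/-- centraliser of an element -/
abbrev Ce (x : G) : Subgroup G := centralizer ({x} : Set G)

/-- the subgroup generated by the members of `D` inside `X` -/
def LL (D : Set (Subgroup G)) (X : Subgroup G) : Subgroup G := sSup {B | B ∈ D ∧ B ≤ X}

/-- the commutator subgroup of `LL D X` -/
def RR (D : Set (Subgroup G)) (X : Subgroup G) : Subgroup G := ⁅LL D X, LL D X⁆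

/-- data common to all classes -/
structure Bs (p r : ℕ) (D : Set (Subgroup G)) : Prop where
  pp : p.Prime
  p2 : p ≠ 2
  pr : r.Prime
  r2 : r ≠ 2
  rp : r ≠ p
  card : ∀ A ∈ D, Nat.card A = p
  inv : ∀ A ∈ D, ∀ g : G, cj g A ∈ D
  line : ∀ A ∈ D, ∀ B ∈ D, ∀ C ∈ D, ∀ E ∈ D, C ≤ A ⊔ B → E ≤ A ⊔ B → C ≠ E → C ⊔ E = A ⊔ B

/-- conditions on pairs -/
structure Pr (p r : ℕ) (D : Set (Subgroup G)) : Prop extends Bs p r D where
  ppg : ∀ A ∈ D, ∀ B ∈ D, IsPGroup r ↥⁅A ⊔ B, A ⊔ B⁆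
  psup : ∀ A ∈ D, ∀ B ∈ D, A ⊔ B = ⁅A ⊔ B, A ⊔ B⁆ ⊔ A
  pflag : (∀ A ∈ D, ∀ B ∈ D, IsMulCommutative ↥⁅A ⊔ B, A ⊔ B⁆) ∨
    (∀ A ∈ D, ∀ B ∈ D, A ≠ B → ¬ IsMulCommutative ↥⁅A ⊔ B, A ⊔ B⁆)

/-- the shape `L = O_r(L) A` of solvable subgroups generated by members of `D` -/
structure Sh (p r : ℕ) (D : Set (Subgroup G)) : Prop where
  pg : ∀ X : Subgroup G, Group.IsSolvable ↥(LL D X) → IsPGroup r ↥(RR D X)
  sup : ∀ X : Subgroup G, Group.IsSolvable ↥(LL D X) → ∀ A ∈ D, A ≤ X → LL D X = RR D X ⊔ A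

/-- the inductive class -/
structure Cl (p r : ℕ) (D : Set (Subgroup G)) : Prop extends Bs p r D, Sh p r D where
  pair : ∀ A ∈ D, ∀ B ∈ D, Group.IsSolvable ↥(A ⊔ B)
  cen : ∀ X : Subgroup G, Group.IsSolvable ↥(LL D X) → ∀ A ∈ D, A ≤ X →
    RR D X ⊓ centralizer (A : Set G) ≤ centralizer (LL D X : Set G)
  flag : (∀ X : Subgroup G, Group.IsSolvable ↥(LL D X) → ∀ A ∈ D, A ≤ X →
      RR D X ⊓ centralizer (A : Set G) = ⊥) ∨
    (∀ X : Subgroup G, Group.IsSolvable ↥(LL D X) →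
      ⁅RR D X, RR D X⁆ ≤ centralizer (LL D X : Set G))

/-- a minimal non-solvable member of the class -/
structure Mn (p r : ℕ) (D : Set (Subgroup G)) : Prop extends Cl p r D where
  gen : sSup D = ⊤
  sol : ∀ X : Subgroup G, X ≠ ⊤ → Group.IsSolvable ↥(LL D X)
  nsn : ∀ N : Subgroup G, N.Normal → Group.IsSolvable ↥N → N = ⊥
  nsol : ¬ Group.IsSolvable G

/-- two functions on involutions -/
structure TW (W Y : G → Subgroup G) : Prop where
  wcj : ∀ t g : G, orderOf t = 2 → W (g * t * g⁻¹) = cj g (W t)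
  wodd : ∀ t : G, orderOf t = 2 → Odd (Nat.card (W t))
  wne : ∀ t : G, orderOf t = 2 → W t ⊓ Ce t ≠ ⊥
  weq : ∀ s t : G, orderOf s = 2 → orderOf t = 2 → Commute s t → W t ⊓ Ce s ≠ ⊥ → W s = W t
  yc : ∀ t : G, orderOf t = 2 → Y t ≤ Ce t
  yw : ∀ t : G, orderOf t = 2 → Y t ≤ centralizer (W t : Set G)
  ynm : ∀ t : G, orderOf t = 2 → Ce t ≤ normalizer (Y t : Set G)
  yev : ∀ t : G, orderOf t = 2 → Even (Nat.card (Y t))
  ygen : ∀ t : G, orderOf t = 2 → Y t ≤ closure {w | w ∈ Y t ∧ Odd (orderOf w)}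

/-- commuting involutions `z, t` and `v ≠ 1` of odd order centralised by `z`, inverted by `t` -/
structure ZTV (z t v : G) : Prop where
  oz : orderOf z = 2
  ot : orderOf t = 2
  zt : Commute z t
  v1 : v ≠ 1
  ov : Odd (orderOf v)
  zv : Commute z v
  tv : t * v * t⁻¹ = v⁻¹

/-- the two-class configuration in a Sylow 2-subgroup -/
structure Cf (W Y : G → Subgroup G) (S : Sylow 2 G) (z t : G) : Prop where
  oz : orderOf z = 2
  ot : orderOf t = 2
  zS : z ∈ S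
  tS : t ∈ S
  zc : (S : Subgroup G) ≤ Ce z
  syl : ∀ Q : Subgroup G, IsPGroup 2 Q → (S : Subgroup G) ⊓ Ce t ≤ Q → Q ≤ Ce z ⊓ Ce t →
    Q = (S : Subgroup G) ⊓ Ce t
  inv : ∀ s : G, orderOf s = 2 → Commute s z → Commute s t → s = z ∨ s = t ∨ s = t * z
  zY : z ∈ Y z
  tY : t ∈ Y t
  zn : z ∉ Y t
  tzn : t * z ∉ Y t
  wz : W z ⊓ Ce t = ⊥

end Defs

/-- the hypotheses give the pair conditions -/
def StartStmt : Prop :=
  ∀ (G : Type u) [Group G] [Finite G], ¬ IsMulCommutative G → ∀ (p : ℕ), p.Prime → p ≠ 2 →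
    ∀ (D : Set (Subgroup G)), (∀ A ∈ D, Nat.card A = p) → (∀ A ∈ D, ∀ g : G, cj g A ∈ D) →
    sSup D = ⊤ → ∀ (F : Type v) [Group F] [Finite F], Odd (Nat.card F) →
    (∀ A ∈ D, ∀ B ∈ D, A ≠ B → Nonempty (↥(A ⊔ B) ≃* F)) → ∃ r : ℕ, Pr p r D

def ShStmt : Prop :=
  ∀ (G : Type u) [Group G] [Finite G] (p r : ℕ) (D : Set (Subgroup G)), Pr p r D → Sh p r D

def ClStmt : Prop :=
  ∀ (G : Type u) [Group G] [Finite G] (p r : ℕ) (D : Set (Subgroup G)),
    Pr p r D → Sh p r D → Cl p r D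

def NoMnStmt : Prop :=
  ∀ (G : Type u) [Group G] [Finite G] (p r : ℕ) (D : Set (Subgroup G)), ¬ Mn p r D

def SolStmt : Prop :=
  ∀ (G : Type u) [Group G] [Finite G] (p r : ℕ) (D : Set (Subgroup G)),
    Cl p r D → sSup D = ⊤ → Group.IsSolvable G

def FinStmt : Prop :=
  ∀ (G : Type u) [Group G] [Finite G] (p r : ℕ) (D : Set (Subgroup G)),
    Cl p r D → sSup D = ⊤ → Group.IsSolvable G → ¬ IsMulCommutative G →
    Odd (Nat.card (G ⧸ center G)) ∧ ∃ H : Subgroup (G ⧸ center G), Cfsg.IsFrobeniusComplement H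

/-- an involution centralises the members of `D` it normalises -/
def K3Stmt : Prop :=
  ∀ (G : Type u) [Group G] [Finite G] (p r : ℕ) (D : Set (Subgroup G)), Mn p r D →
    ∀ t : G, orderOf t = 2 → ∀ A ∈ D, cj t A = A → A ≤ Ce t

/-- an involution centralises two members of `D` -/
def K4Stmt : Prop :=
  ∀ (G : Type u) [Group G] [Finite G] (p r : ℕ) (D : Set (Subgroup G)), Mn p r D →
    ∀ t : G, orderOf t = 2 → ∃ A ∈ D, ∃ B ∈ D, A ≠ B ∧ A ≤ Ce t ∧ B ≤ Ce t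

def StarStmt : Prop :=
  ∀ (G : Type u) [Group G] [Finite G] (a t : G), normalClosure ({a} : Set G) = ⊤ →
    orderOf t = 2 →
    (∀ g : G, ∃ v ∈ Cfsg.centralizerPPrimeCore 2 t, IsConj (g * a * g⁻¹ * t) (t * v)) → False

def N1Stmt : Prop :=
  ∀ (G : Type u) [Group G] [Finite G] (p r : ℕ) (D : Set (Subgroup G)), Mn p r D →
    ∀ ζ : G, ζ ≠ 1 → ζ ∈ RR D (Ce ζ) → ∀ X : Subgroup G, X ≠ ⊤ → ∀ A ∈ D, A ≤ X → A ≤ Ce ζ →
      ζ ∈ normalizer (LL D X : Set G) → LL D X ≤ Ce ζ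

def CfgStmt : Prop :=
  ∀ (G : Type u) [Group G] [Finite G] (p r : ℕ) (D : Set (Subgroup G)), Mn p r D →
    ∃ W Y : G → Subgroup G, TW W Y ∧ ∀ t : G, W t ≤ commutator G ∧ Y t ≤ commutator G

def TwoAStmt : Prop :=
  ∀ (G : Type u) [Group G] [Finite G] (W Y : G → Subgroup G), Even (Nat.card G) →
    Cfsg.oddCore G = ⊥ → TW W Y → ∃ (S : Sylow 2 G) (z t : G), Cf W Y S z t

def TwoBStmt : Prop :=
  ∀ (G : Type u) [Group G] [Finite G] (W Y : G → Subgroup G) (S : Sylow 2 G) (z t : G),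
    TW W Y → Cf W Y S z t → Cfsg.PRankLE 2 2 G

def SocStmt : Prop :=
  ∀ (G : Type u) [Group G] [Finite G], Nontrivial G →
    (∀ N : Subgroup G, N.Normal → Group.IsSolvable ↥N → N = ⊥) → Cfsg.PRankLE 2 2 G →
    ∃ N : Subgroup G, N.Normal ∧ IsSimpleGroup ↥N ∧ ¬ IsMulCommutative ↥N

/-- in a quotient of a subgroup of `SL₃(F)` by scalars the centraliser of `z, v` is commutative -/
def M3Stmt : Prop :=
  ∀ (F : Type) [Field F], (2 : F) ≠ 0 →
    ∀ (H : Subgroup (Matrix.SpecialLinearGroup (Fin 3) F)) (N : Type u) [Group N] (π : H →* N),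
    Function.Surjective π →
    (∀ h : H, π h = 1 → ∃ a : F,
      ((h : Matrix.SpecialLinearGroup (Fin 3) F) : Matrix (Fin 3) (Fin 3) F) = a • 1) →
    ∀ z t v : N, ZTV z t v → ∀ x y : N, Commute x z → Commute x v → Commute y z → Commute y v →
      Commute x y

def R2Stmt : Prop :=
  ∀ (N : Type u) [Group N] [Finite N] [IsSimpleGroup N], ¬ IsMulCommutative N →
    Cfsg.PRankLE 2 2 N → ∀ z t v : N, ZTV z t v → ∀ Y : Subgroup N, Y ≤ Ce z → Y ≤ Ce v →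
    Y ≤ closure {w | w ∈ Y ∧ Odd (orderOf w)} → z ∈ Y → False

end Cfsg.Agent.H56.FS
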