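import Cfsg.Agent.H56.FSDefs
import Cfsg.Agent.H4.CoprimeAction
import Cfsg.Agent.H67.Conj

/-!
Basic facts on `LL`, `RR` and the points of a solvable `LL D X`.
-/

set_option autoImplicit false

namespace Cfsg.Agent.H56.FS

open Subgroup

variable {G : Type*} [Group G] {p r : ℕ} {D : Set (Subgroup G)}

theorem mem_cj {g x : G} {A : Subgroup G} : x ∈ cj g A ↔ g⁻¹ * x * g ∈ A := by
  constructor
  · rintro ⟨a, ha, rfl⟩
    simpa [mul_assoc] using ha
  · intro h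
    exact ⟨_, h, by simp [mul_assoc]⟩

theorem conj_mem_cj {g a : G} {A : Subgroup G} (ha : a ∈ A) : g * a * g⁻¹ ∈ cj g A :=
  mem_cj.2 (by simpa [mul_assoc] using ha)

theorem cj_cj (g h : G) (A : Subgroup G) : cj g (cj h A) = cj (g * h) A := by
  ext x; simp only [mem_cj, mul_inv_rev, mul_assoc]

theorem cj_one (A : Subgroup G) : cj 1 A = A := by
  ext x; simp [mem_cj]

theorem cj_inv_cj (g : G) (A : Subgroup G) : cj g⁻¹ (cj g A) = A := by
  rw [cj_cj, inv_mul_cancel, cj_one]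

theorem cj_cj_inv (g : G) (A : Subgroup G) : cj g (cj g⁻¹ A) = A := by
  rw [cj_cj, mul_inv_cancel, cj_one]

theorem cj_inj {g : G} {A B : Subgroup G} (h : cj g A = cj g B) : A = B := by
  rw [← cj_inv_cj g A, h, cj_inv_cj]

theorem cj_mono (g : G) {A B : Subgroup G} (h : A ≤ B) : cj g A ≤ cj g B := map_mono h

theorem cj_eq_iff {g : G} {A : Subgroup G} : cj g A = A ↔ g ∈ normalizer (A : Set G) := by
  rw [mem_normalizer_iff'']
  constructor
  · intro h x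
    rw [← mem_cj, h]
  · intro h
    ext x
    rw [mem_cj, ← h]

theorem cj_of_mem {g : G} {A : Subgroup G} (hg : g ∈ A) : cj g A = A :=
  cj_eq_iff.2 (le_normalizer hg)

theorem cj_of_cent {g : G} {A : Subgroup G} (hg : g ∈ centralizer (A : Set G)) : cj g A = A :=
  cj_eq_iff.2 (centralizer_le_normalizer _ hg)

theorem cj_le_of_norm {g : G} {A X : Subgroup G} (hg : g ∈ normalizer (X : Set G)) (h : A ≤ X) :
    cj g A ≤ X := (cj_mono g h).trans (cj_eq_iff.2 hg).le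

theorem cj_le_of_mem {g : G} {A X : Subgroup G} (hg : g ∈ X) (h : A ≤ X) : cj g A ≤ X :=
  cj_le_of_norm (le_normalizer hg) h

theorem cj_sup (g : G) (A B : Subgroup G) : cj g (A ⊔ B) = cj g A ⊔ cj g B := Subgroup.map_sup _ _ _

theorem cj_Ce (g x : G) : cj g (Ce x) = Ce (g * x * g⁻¹) := by
  ext y
  rw [mem_cj, mem_centralizer_singleton_iff, mem_centralizer_singleton_iff]
  constructor
  · intro h
    calc y * (g * x * g⁻¹) = g * (g⁻¹ * y * g * x) * g⁻¹ := by group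
      _ = g * x * g⁻¹ * y := by rw [h]; group
  · intro h
    calc g⁻¹ * y * g * x = g⁻¹ * (y * (g * x * g⁻¹)) * g := by group
      _ = x * (g⁻¹ * y * g) := by rw [h]; group

theorem card_cj (g : G) (A : Subgroup G) : Nat.card (cj g A) = Nat.card A :=
  card_map_of_injective (MulAut.conj g).injective

theorem mem_Ce {x y : G} : y ∈ Ce x ↔ y * x = x * y := mem_centralizer_singleton_iff

theorem Ce_symm {x y : G} (h : y ∈ Ce x) : x ∈ Ce y := mem_Ce.2 (mem_Ce.1 h).symm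

theorem le_Ce_iff {x : G} {A : Subgroup G} : A ≤ Ce x ↔ x ∈ centralizer (A : Set G) := by
  constructor
  · exact fun h a ha => mem_Ce.1 (h ha)
  · exact fun h a ha => mem_Ce.2 (h a ha)

theorem LL_le (X : Subgroup G) : LL D X ≤ X := sSup_le fun _ h => h.2

theorem le_LL {A X : Subgroup G} (hA : A ∈ D) (h : A ≤ X) : A ≤ LL D X := le_sSup ⟨hA, h⟩

theorem LL_le_of {X Y : Subgroup G} (h : ∀ B ∈ D, B ≤ X → B ≤ Y) : LL D X ≤ Y :=
  sSup_le fun B hB => h B hB.1 hB.2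

theorem LL_le_LL {X Y : Subgroup G} (h : LL D X ≤ Y) : LL D X ≤ LL D Y :=
  LL_le_of fun _ hB hX => le_LL hB ((le_LL hB hX).trans h)

theorem LL_mono {X Y : Subgroup G} (h : X ≤ Y) : LL D X ≤ LL D Y := LL_le_LL ((LL_le X).trans h)

theorem LL_LL (X : Subgroup G) : LL D (LL D X) = LL D X :=
  le_antisymm (LL_le _) (LL_le_LL le_rfl)

theorem RR_LL (X : Subgroup G) : RR D (LL D X) = RR D X := by unfold RR; rw [LL_LL]

theorem RR_congr {X Y : Subgroup G} (h : LL D X = LL D Y) : RR D X = RR D Y := by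
  unfold RR; rw [h]

theorem RR_le_RR {X Y : Subgroup G} (h : LL D X ≤ Y) : RR D X ≤ RR D Y :=
  commutator_mono (LL_le_LL h) (LL_le_LL h)

theorem RR_mono {X Y : Subgroup G} (h : X ≤ Y) : RR D X ≤ RR D Y := RR_le_RR ((LL_le X).trans h)

theorem RR_le (X : Subgroup G) : RR D X ≤ LL D X := commutator_le_self _

theorem RR_le_commutator (X : Subgroup G) : RR D X ≤ commutator G := commutator_mono le_top le_top

theorem LL_pair {A B : Subgroup G} (hA : A ∈ D) (hB : B ∈ D) : LL D (A ⊔ B) = A ⊔ B :=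
  le_antisymm (LL_le _) (sup_le (le_LL hA le_sup_left) (le_LL hB le_sup_right))

theorem LL_top (hgen : sSup D = ⊤) : LL D ⊤ = ⊤ :=
  top_le_iff.1 (hgen.ge.trans (sSup_le fun _ hB => le_LL hB le_top))

theorem cj_LL_le (hinv : ∀ A ∈ D, ∀ g : G, cj g A ∈ D) (g : G) (X : Subgroup G) :
    cj g (LL D X) ≤ LL D (cj g X) := by
  rw [map_le_iff_le_comap]
  exact LL_le_of fun B hB hX => map_le_iff_le_comap.1 (le_LL (hinv B hB g) (cj_mono g hX))

theorem cj_LL (hinv : ∀ A ∈ D, ∀ g : G, cj g A ∈ D) (g : G) (X : Subgroup G) :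
    cj g (LL D X) = LL D (cj g X) := by
  refine le_antisymm (cj_LL_le hinv g X) ?_
  have := cj_mono g (cj_LL_le hinv g⁻¹ (cj g X))
  rwa [cj_cj_inv, cj_inv_cj] at this

theorem cj_RR (hinv : ∀ A ∈ D, ∀ g : G, cj g A ∈ D) (g : G) (X : Subgroup G) :
    cj g (RR D X) = RR D (cj g X) := by
  unfold RR
  rw [← cj_LL hinv]
  exact map_commutator _ _ _

theorem norm_LL (hinv : ∀ A ∈ D, ∀ g : G, cj g A ∈ D) (X : Subgroup G) :
    normalizer (X : Set G) ≤ normalizer (LL D X : Set G) := fun g hg =>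
  cj_eq_iff.1 (by rw [cj_LL hinv, cj_eq_iff.2 hg])

theorem norm_RR (X : Subgroup G) :
    normalizer (LL D X : Set G) ≤ normalizer (RR D X : Set G) :=
  H4.le_normalizer_commutator le_rfl le_rfl

theorem LL_le_norm_RR (X : Subgroup G) : LL D X ≤ normalizer (RR D X : Set G) :=
  le_normalizer.trans (norm_RR X)

theorem mem_sup_of_norm {R A : Subgroup G} (h : A ≤ normalizer (R : Set G)) {x : G}
    (hx : x ∈ R ⊔ A) : ∃ u ∈ R, ∃ a ∈ A, x = u * a := by
  have : x ∈ ((R ⊔ A : Subgroup G) : Set G) := hx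
  rw [coe_mul_of_right_le_normalizer_left R A h] at this
  obtain ⟨u, hu, a, ha, rfl⟩ := this
  exact ⟨u, hu, a, ha, rfl⟩

/-- the action on the points inside `LL D X` -/
@[reducible] def ptAct (hinv : ∀ A ∈ D, ∀ g : G, cj g A ∈ D) (X P : Subgroup G)
    (hP : P ≤ normalizer (LL D X : Set G)) : MulAction P {B // B ∈ D ∧ B ≤ X} where
  smul g B := ⟨cj g B.1, hinv _ B.2.1 _,
    (cj_le_of_norm (hP g.2) (le_LL B.2.1 B.2.2)).trans (LL_le X)⟩
  one_smul B := Subtype.ext (cj_one _)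
  mul_smul g h B := Subtype.ext (cj_cj _ _ _).symm

namespace Bs

variable (h : Bs p r D)
include h

theorem ne_bot {A : Subgroup G} (hA : A ∈ D) : A ≠ ⊥ := fun e => by
  have := h.card A hA
  rw [e, card_bot] at this
  exact h.pp.one_lt.ne this

theorem eq_of_le [Finite G] {A B : Subgroup G} (hA : A ∈ D) (hB : B ∈ D) (hle : A ≤ B) : A = B :=
  eq_of_le_of_card_ge hle (by rw [h.card A hA, h.card B hB])

theorem pow_p {A : Subgroup G} (hA : A ∈ D) {a : G} (ha : a ∈ A) : a ^ p = 1 := by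
  rw [← h.card A hA]; exact H4.pow_card_eq_one_of_mem ha

theorem orderOf_eq {A : Subgroup G} (hA : A ∈ D) {a : G} (ha : a ∈ A) (a1 : a ≠ 1) :
    orderOf a = p := by
  have := Fact.mk h.pp
  exact orderOf_eq_prime (h.pow_p hA ha) a1

theorem zpowers_eq [Finite G] {A : Subgroup G} (hA : A ∈ D) {a : G} (ha : a ∈ A) (a1 : a ≠ 1) :
    zpowers a = A :=
  eq_of_le_of_card_ge (zpowers_le.2 ha) (by rw [h.card A hA, Nat.card_zpowers, h.orderOf_eq hA ha a1])

theorem exists_gen [Finite G] {A : Subgroup G} (hA : A ∈ D) : ∃ a ∈ A, a ≠ 1 ∧ zpowers a = A := by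
  obtain ⟨⟨a, ha⟩, a1⟩ := (ne_bot_iff_exists_ne_one).1 (h.ne_bot hA)
  have a1' : a ≠ 1 := fun e => a1 (Subtype.ext e)
  exact ⟨a, ha, a1', h.zpowers_eq hA ha a1'⟩

theorem comm [Finite G] {A : Subgroup G} (hA : A ∈ D) : A ≤ centralizer (A : Set G) := by
  obtain ⟨a, -, -, e⟩ := h.exists_gen hA
  rw [← e]
  rintro _ ⟨i, rfl⟩ _ ⟨j, rfl⟩
  exact (Commute.zpow_zpow_self a j i).eq

theorem eq_of_inf [Finite G] {A B : Subgroup G} (hA : A ∈ D) (hB : B ∈ D) {a : G} (ha : a ∈ A)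
    (hb : a ∈ B) (a1 : a ≠ 1) : A = B := by
  rw [← h.zpowers_eq hA ha a1, ← h.zpowers_eq hB hb a1]

theorem cop [Finite G] {A R : Subgroup G} (hA : A ∈ D) (hR : IsPGroup r R) :
    (Nat.card A).Coprime (Nat.card R) := by
  have := Fact.mk h.pr
  refine H4.coprime_card_of_isPGroup ?_ hR
  rw [h.card A hA]
  exact (Nat.coprime_primes h.pp h.pr).2 h.rp.symm

theorem inf_bot [Finite G] {A R : Subgroup G} (hA : A ∈ D) (hR : IsPGroup r R) : R ⊓ A = ⊥ :=
  disjoint_iff.1 (disjoint_of_coprime_natCard (h.cop hA hR).symm)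

theorem odd_of_pg [Finite G] {R : Subgroup G} (hR : IsPGroup r R) : Odd (Nat.card R) := by
  have := Fact.mk h.pr
  obtain ⟨k, hk⟩ := IsPGroup.iff_card.1 hR
  rw [hk]
  exact (h.pr.odd_of_ne_two h.r2).pow

theorem solv_pt [Finite G] {A : Subgroup G} (hA : A ∈ D) : Group.IsSolvable A := by
  have : IsMulCommutative A := ⟨⟨fun a b => Subtype.ext (h.comm hA b.2 a a.2)⟩⟩
  exact H4.isSolvable_of_isMulCommutative A

end Bs

namespace Cl

variable [Finite G] (h : Cl p r D) {X : Subgroup G} (hX : Group.IsSolvable ↥(LL D X))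
include h hX

theorem decomp {A : Subgroup G} (hA : A ∈ D) (hAX : A ≤ X) {x : G} (hx : x ∈ LL D X) :
    ∃ u ∈ RR D X, ∃ a ∈ A, x = u * a := by
  rw [h.sup X hX A hA hAX] at hx
  exact mem_sup_of_norm ((le_LL hA hAX).trans (LL_le_norm_RR X)) hx

theorem card_LL {A : Subgroup G} (hA : A ∈ D) (hAX : A ≤ X) :
    Nat.card (LL D X) = Nat.card (RR D X) * p := by
  rw [h.sup X hX A hA hAX, H67.card_sup_of_inf_eq_bot
    (Or.inr ((le_LL hA hAX).trans (LL_le_norm_RR X))) (h.inf_bot hA (h.pg X hX)), h.card A hA]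

theorem odd_LL : Odd (Nat.card (LL D X)) := by
  by_cases hne : ∃ A ∈ D, A ≤ X
  · obtain ⟨A, hA, hAX⟩ := hne
    rw [h.card_LL hX hA hAX]
    exact (h.odd_of_pg (h.pg X hX)).mul (h.pp.odd_of_ne_two h.p2)
  · have : LL D X = ⊥ := le_bot_iff.1 (LL_le_of fun B hB hBX => (hne ⟨B, hB, hBX⟩).elim)
    rw [this, card_bot]; exact odd_one

theorem conj_pt {A B : Subgroup G} (hA : A ∈ D) (hAX : A ≤ X) (hB : B ∈ D) (hBX : B ≤ X) :
    ∃ u ∈ RR D X, B = cj u A := by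
  have := Fact.mk h.pp
  have := Fact.mk h.pr
  obtain ⟨k, hk⟩ := IsPGroup.iff_card.1 (h.pg X hX)
  have hf : p ^ (Nat.card (LL D X)).factorization p = p := by
    rw [h.card_LL hX hA hAX, hk, Nat.factorization_mul (pow_ne_zero _ h.pr.ne_zero) h.pp.ne_zero,
      Finsupp.add_apply, h.pp.factorization_self, Nat.factorization_pow, Finsupp.smul_apply,
      h.pr.factorization, Finsupp.single_eq_of_ne h.rp.symm]
    simp
  have c : ∀ C ∈ D, C ≤ X → Nat.card (C.subgroupOf (LL D X)) =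
      p ^ (Nat.card (LL D X)).factorization p := fun C hC hCX => by
    rw [hf, Nat.card_congr (subgroupOfEquivOfLe (le_LL hC hCX)).toEquiv, h.card C hC]
  obtain ⟨x, hx⟩ := MulAction.exists_smul_eq (LL D X) (Sylow.ofCard _ (c A hA hAX))
    (Sylow.ofCard _ (c B hB hBX))
  obtain ⟨u, hu, a, ha, e⟩ := h.decomp hX hA hAX x.2
  refine ⟨u, hu, (h.eq_of_le (h.inv A hA u) hB ?_).symm⟩
  rw [← cj_of_mem ha, cj_cj, ← e]
  rintro _ ⟨y, hy, rfl⟩
  have h1 : (MulAut.conj x) • (⟨y, le_LL hA hAX hy⟩ : LL D X) ∈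
      ((x • Sylow.ofCard _ (c A hA hAX) : Sylow p (LL D X)) : Subgroup (LL D X)) := by
    rw [Sylow.coe_subgroup_smul]
    exact smul_mem_pointwise_smul _ _ _ hy
  rw [hx] at h1
  exact h1

theorem norm_cen {A : Subgroup G} (hA : A ∈ D) (hAX : A ≤ X) {u : G} (hu : u ∈ RR D X)
    (e : cj u A = A) : u ∈ centralizer (A : Set G) := by
  intro a ha
  have h1 : u * a * u⁻¹ * a⁻¹ ∈ RR D X ⊓ A := by
    refine mem_inf.2 ⟨?_, mul_mem (e ▸ conj_mem_cj ha) (inv_mem ha)⟩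
    have := (mem_normalizer_iff.1 (LL_le_norm_RR X (le_LL hA hAX ha)) u⁻¹).1 (inv_mem hu)
    simpa [mul_assoc] using mul_mem hu this
  rw [h.inf_bot hA (h.pg X hX), mem_bot] at h1
  calc a * u = (u * a * u⁻¹ * a⁻¹) * (a * u) := by rw [h1, one_mul]
    _ = u * a := by group

theorem norm_cen' {A : Subgroup G} (hA : A ∈ D) (hAX : A ≤ X) {u : G} (hu : u ∈ RR D X)
    (e : cj u A = A) : u ∈ centralizer (LL D X : Set G) :=
  h.cen X hX A hA hAX ⟨hu, h.norm_cen hX hA hAX hu e⟩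

theorem odd_pts {A : Subgroup G} (hA : A ∈ D) (hAX : A ≤ X) :
    Odd (Nat.card {B // B ∈ D ∧ B ≤ X}) := by
  let _ := ptAct h.inv X (RR D X) ((RR_le X).trans le_normalizer)
  have : MulAction.IsPretransitive (RR D X) {B // B ∈ D ∧ B ≤ X} := ⟨fun B C => by
    obtain ⟨u, hu, e⟩ := h.conj_pt hX B.2.1 B.2.2 C.2.1 C.2.2
    exact ⟨⟨u, hu⟩, Subtype.ext e.symm⟩⟩
  rw [← MulAction.index_stabilizer_of_transitive (RR D X) (⟨A, hA, hAX⟩ : {B // B ∈ D ∧ B ≤ X})]
  exact Odd.of_dvd_nat (h.odd_of_pg (h.pg X hX)) (index_dvd_card _)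

theorem fix_pt {A : Subgroup G} (hA : A ∈ D) (hAX : A ≤ X) {P : Subgroup G} (hP : IsPGroup 2 P)
    (hn : P ≤ normalizer (LL D X : Set G)) : ∃ B ∈ D, B ≤ X ∧ ∀ g ∈ P, cj g B = B := by
  let _ := ptAct h.inv X P hn
  obtain ⟨B, hB⟩ := hP.nonempty_fixed_point_of_prime_not_dvd_card {B // B ∈ D ∧ B ≤ X}
    (h.odd_pts hX hA hAX).not_two_dvd_nat
  exact ⟨B.1, B.2.1, B.2.2, fun g hg => congrArg Subtype.val (hB ⟨g, hg⟩)⟩

theorem fix_pt_inv {A : Subgroup G} (hA : A ∈ D) (hAX : A ≤ X) {t : G} (ht : orderOf t = 2)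
    (hn : t ∈ normalizer (LL D X : Set G)) : ∃ B ∈ D, B ≤ X ∧ cj t B = B := by
  have hP : IsPGroup 2 (zpowers t) := IsPGroup.of_card (n := 1) (by rw [Nat.card_zpowers, ht]; rfl)
  obtain ⟨B, hB, hBX, e⟩ := h.fix_pt hX hA hAX hP (zpowers_le.2 hn)
  exact ⟨B, hB, hBX, e t (mem_zpowers t)⟩

end Cl

namespace Cl

variable [Finite G] (h : Cl p r D)
include h

theorem sol_pair {A B : Subgroup G} (hA : A ∈ D) (hB : B ∈ D) :
    Group.IsSolvable ↥(LL D (A ⊔ B)) := by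
  rw [LL_pair hA hB]; exact h.pair A hA B hB

theorem conj_pt_pair {A B : Subgroup G} (hA : A ∈ D) (hB : B ∈ D) :
    ∃ u ∈ RR D (A ⊔ B), B = cj u A :=
  h.conj_pt (h.sol_pair hA hB) hA le_sup_left hB le_sup_right

/-- an element normalising two points acts on them by the same power -/
theorem eps {A B : Subgroup G} (hA : A ∈ D) (hB : B ∈ D) {x : G} (eB : cj x B = B) {k : ℤ}
    (hk : ∀ a ∈ A, x * a * x⁻¹ = a ^ k) (eA : cj x A = A) : ∀ b ∈ B, x * b * x⁻¹ = b ^ k := by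
  intro b hb
  have hs := h.sol_pair hA hB
  have hn : x ∈ normalizer (RR D (A ⊔ B) : Set G) :=
    norm_RR _ (norm_LL h.inv _ (cj_eq_iff.1 (by rw [cj_sup, eA, eB])))
  obtain ⟨u, hu, a, ha, e⟩ := h.decomp hs hA le_sup_left (le_LL hB le_sup_right hb)
  let L := LL D (A ⊔ B)
  have hN : ((RR D (A ⊔ B)).subgroupOf L).Normal :=
    normal_subgroupOf_of_le_normalizer (LL_le_norm_RR _)
  have hbL : b ∈ L := le_LL hB le_sup_right hb
  have haL : a ∈ L := le_LL hA le_sup_left ha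
  have huL : u ∈ L := RR_le _ hu
  have hx : x * u * x⁻¹ ∈ RR D (A ⊔ B) := (mem_normalizer_iff.1 hn u).1 hu
  have h1 : (QuotientGroup.mk ⟨b, hbL⟩ : L ⧸ (RR D (A ⊔ B)).subgroupOf L) =
      QuotientGroup.mk ⟨a, haL⟩ := by
    have : (⟨b, hbL⟩ : L) = ⟨u, huL⟩ * ⟨a, haL⟩ := Subtype.ext e
    rw [this, QuotientGroup.mk_mul, (QuotientGroup.eq_one_iff _).2 (by exact hu), one_mul]
  have h2 : (b ^ k)⁻¹ * a ^ k ∈ RR D (A ⊔ B) := by
    have : (QuotientGroup.mk (⟨b, hbL⟩ ^ k) : L ⧸ (RR D (A ⊔ B)).subgroupOf L) =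
      QuotientGroup.mk (⟨a, haL⟩ ^ k) := by
      rw [QuotientGroup.mk_zpow, QuotientGroup.mk_zpow, h1]
    simpa [mem_subgroupOf] using QuotientGroup.eq.1 this
  have h3 : (b ^ k)⁻¹ * (x * b * x⁻¹) ∈ RR D (A ⊔ B) ⊓ B := by
    refine mem_inf.2 ⟨?_, mul_mem (inv_mem (zpow_mem hb k)) (eB ▸ conj_mem_cj hb)⟩
    have h4 := (mem_normalizer_iff.1 (LL_le_norm_RR _ (inv_mem (zpow_mem haL k))) _).1 hx
    have : (b ^ k)⁻¹ * (x * b * x⁻¹) =
        ((b ^ k)⁻¹ * a ^ k) * ((a ^ k)⁻¹ * (x * u * x⁻¹) * (a ^ k)⁻¹⁻¹) := by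
      calc (b ^ k)⁻¹ * (x * b * x⁻¹) = (b ^ k)⁻¹ * (x * (u * a) * x⁻¹) := by rw [← e]
        _ = (b ^ k)⁻¹ * (x * u * x⁻¹ * (x * a * x⁻¹)) := by group
        _ = _ := by rw [hk a ha]; group
    rw [this]
    exact mul_mem h2 h4
  rw [h.inf_bot hB (h.pg _ hs), mem_bot] at h3
  exact (inv_mul_eq_one.1 h3).symm

/-- an element centralising a point centralises all points it normalises -/
theorem k1 {A B : Subgroup G} (hA : A ∈ D) (hB : B ∈ D) {x : G} (hx : A ≤ Ce x)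
    (eB : cj x B = B) : B ≤ Ce x := by
  intro b hb
  have := h.eps hA hB eB (k := 1) (fun a ha => by
    rw [← mem_Ce.1 (hx ha)]; group) (cj_of_cent (le_Ce_iff.1 hx)) b hb
  rw [zpow_one] at this
  rw [mem_Ce]
  calc b * x = (x * b * x⁻¹) * x := by rw [this]
    _ = x * b := by group

theorem RR_pair_ne {A B : Subgroup G} (hA : A ∈ D) (hB : B ∈ D) (ne : A ≠ B) :
    RR D (A ⊔ B) ≠ ⊥ := fun e => by
  obtain ⟨u, hu, e'⟩ := h.conj_pt_pair hA hB
  rw [e, mem_bot] at hu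
  rw [hu, cj_one] at e'
  exact ne e'.symm

end Cl

namespace Mn

variable [Finite G] (h : Mn p r D)
include h

theorem norm_ne_top {N : Subgroup G} (hN : N ≠ ⊥) (hs : Group.IsSolvable N) :
    normalizer (N : Set G) ≠ ⊤ := fun e => hN (h.nsn N (normalizer_eq_top_iff.1 e) hs)

theorem center_eq : center G = ⊥ :=
  h.nsn _ inferInstance (H4.isSolvable_of_isMulCommutative _)

theorem Ce_ne_top {x : G} (hx : x ≠ 1) : Ce x ≠ ⊤ := fun e => by
  have : x ∈ center G := mem_center_iff.2 fun g => mem_Ce.1 (e ▸ mem_top g)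
  rw [h.center_eq, mem_bot] at this
  exact hx this

theorem exists_pt : ∃ A, A ∈ D := by
  by_contra hne
  have : (⊤ : Subgroup G) = ⊥ := by
    rw [← h.gen]; exact le_bot_iff.1 (sSup_le fun B hB => (hne ⟨B, hB⟩).elim)
  have : Subsingleton G := ⟨fun a b => by
    rw [mem_bot.1 (this.le (mem_top a)), mem_bot.1 (this.le (mem_top b))]⟩
  exact h.nsol inferInstance

end Mn

end Cfsg.Agent.H56.FS
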