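import Cfsg.Agent.H56.HLK

/-! Project HL (S3727): the assembly. -/

set_option autoImplicit false
set_option linter.unusedSectionVars false

namespace Cfsg.Agent.H56.HL

open MulAction Subgroup Cfsg.Agent.H83 Cfsg.Agent.H56.TT
open scoped Cfsg.Agent.H63

universe u v

variable {G : Type u} {Ω : Type v} [Group G] [MulAction G Ω]

theorem two_tr (h : Two G Ω) (a x : Ω) : ∃ g : G, g • a = x := by
  by_cases e : a = x
  · exact ⟨1, by simp [e]⟩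
  · exact (h a x x a e (Ne.symm e)).imp fun _ h => h.1

theorem exists_st [Finite G] (h : Two G Ω) (hnt : ∃ x y : Ω, x ≠ y) (hev : Even (Nat.card Ω))
    {a : Ω} {N : Subgroup G} (hle : N ≤ stabilizer G a)
    (hn : ∀ g ∈ stabilizer G a, ∀ n ∈ N, g * n * g⁻¹ ∈ N) {q : ℕ}
    (hb : ∀ N' : Subgroup G, Nonempty (N' ≃* N) → Kit N' q) :
    ∃ NN : Ω → Subgroup G, St NN q ∧ NN a = N := by
  choose g hg using two_tr h a
  refine ⟨fun x => cj (g x) N, ⟨h, hnt, hev, fun k x => ?_, fun x y hy => ?_, fun x =>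
    hb _ ⟨(N.equivMapOfInjective _ (MulAut.conj (g x)).injective).symm⟩⟩,
    cj_eq_self (mem_normalizer_fintype (hn _ (hg a)))⟩
  · have h1 : (g (k • x))⁻¹ * (k * g x) ∈ stabilizer G a := by
      rw [mem_stabilizer_iff, mul_smul, mul_smul, hg, inv_smul_eq_iff, hg]
    have h2 : (g (k • x))⁻¹ * (k * g x) ∈ N[N] := mem_normalizer_fintype (hn _ h1)
    change cj (g (k • x)) N = cj k (cj (g x) N)
    rw [← cj_mul, ← cj_eq_self h2, ← cj_mul, mul_inv_cancel_left, cj_eq_self h2]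
  · have h1 := hle (mem_cj.1 hy)
    rw [mem_stabilizer_iff, mul_smul, mul_smul, hg, inv_smul_eq_iff, hg] at h1
    exact h1

/-- the Borel case is impossible -/
def BStmt : Prop := ForAll.{u, v} fun NN q => ¬ BK NN q

theorem b_of (b1 : B1Stmt.{u, v}) (b2 : B2Stmt.{u, v}) (b3a : B3aStmt.{u, v})
    (b3b : B3bStmt.{u, v}) (b4a : B4aStmt.{u, v}) (b4b : B4bStmt.{u, v}) (b5a : B5aStmt.{u, v})
    (b5b : B5bStmt.{u, v}) (b6 : B6Stmt.{u, v}) : BStmt.{u, v} := by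
  intro G Ω _ _ _ _ _ NN q h hB
  have hZ := b2 G Ω NN q h hB (b1 G Ω NN q h hB)
  have hF : FixEq NN := by
    by_contra hF
    obtain ⟨EE, h1, h2⟩ := b3a G Ω NN q h hB hZ hF
    exact b3b G Ω NN q h hB hZ hF EE h1 h2
  have hU : USym NN := by
    by_contra hU
    exact b4b G Ω NN q h hB hF (b4a G Ω NN q h hB hZ hF hU)
  obtain ⟨h22, a, b, hab, hc⟩ := b5b G Ω NN q h hB (b5a G Ω NN q h hB hU)
  exact b6 G Ω h.two h22 a b hab hc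

/-- the conclusion in the parabolic case -/
def PStmt : Prop := ForAll.{u, v} fun {G} _ {Ω} _ NN q => PK NN q → Tr NN ∧
  (((∃ m, Odd m ∧ q = 2 ^ m) ∧ Nat.card Ω = q ^ 3 ∧ RNS G Ω) ∨
    (Nat.card Ω = 22 ∧ q = 4 ∧
      (Cfsg.Spor.IsoM22 G ∨ ∃ H : Subgroup G, H.index = 2 ∧ Cfsg.Spor.IsoM22 ↥H)))

theorem p_of (p1 : P1Stmt.{u, v}) (p2a : P2aStmt.{u, v}) (p2b : P2bStmt.{u, v})
    (p3a : P3aStmt.{u, v}) (p3b : P3bStmt.{u, v}) (p4 : P4Stmt.{u, v}) (p5a : P5aStmt.{u, v})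
    (p5b : P5bStmt.{u, v}) (p5c : P5cStmt.{u, v}) (p6 : P6Stmt.{u, v}) (p7 : P7Stmt.{u, v})
    (p8 : P8Stmt.{u, v}) (p9 : P9Stmt.{u, v}) : PStmt.{u, v} := by
  intro G Ω _ _ _ _ _ NN q h hP
  obtain ⟨EE, hl⟩ := p1 G Ω NN q h hP
  have h2a := p2a G Ω NN q EE hl
  have h2b := p2b G Ω NN q EE hl h2a
  obtain ⟨k, h3a⟩ := p3a G Ω NN q EE hl h2a h2b
  have hg : PG NN q EE k := ⟨hl, h2a, h2b, h3a, p3b G Ω NN q EE hl h2a h2b⟩
  by_cases hc : q = 4 ∧ k = 2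
  · obtain ⟨e1, e2, e3⟩ := p9 G Ω NN q EE k hg hc.1 hc.2
    exact ⟨e2, Or.inr ⟨e1, hc.1, e3⟩⟩
  have hR : ∀ a F, Pln NN q EE a F → ∃ R, RT Ω F R := fun a F hF =>
    (p4 G Ω NN q EE k hg a F hF).resolve_left hc
  obtain ⟨a, b, hab⟩ := h.nt
  obtain ⟨F, hF, -⟩ := hg.p3b.three a a a
  obtain ⟨R, hR0⟩ := hR a F hF
  have hk : k = q := p5a G Ω NN q EE k hg a F R hF hR0
  obtain ⟨ht, ho⟩ := p5c G Ω NN q EE k hg hk fun a b F hab hA => by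
    obtain ⟨R, hR1⟩ := hR a F ⟨b, hab, hA⟩
    exact p5b G Ω NN q EE k hg a b F R hab hA hR1
  refine ⟨ht, Or.inl ⟨ho, ?_, p8 G Ω NN q EE k hg ht fun a F hF => ?_⟩⟩
  · rw [h3a.all, hk]
    obtain ⟨r, rfl⟩ : ∃ r, q = r + 1 := ⟨q - 1, by have := (h.kit a).l3.two_le; omega⟩
    rw [Nat.add_sub_cancel]; ring
  · obtain ⟨R, hR1⟩ := hR a F hF
    exact ⟨R, hR1, fun x hx hax => p7 G Ω NN q EE k hg a F R x hF hR1 hx hax
      (p6 G Ω NN q EE k hg a F R hF hR1 x hx)⟩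

theorem kit_of (md : ModStmt.{u}) (ka : KAStmt.{u}) (kb : KBStmt.{u}) (kc : KCStmt.{u})
    (kd : KDStmt.{u}) [Finite G] (N : Subgroup G) (K : Type) [Field K] [Fintype K] (n : ℕ)
    (hK : Fintype.card K = 2 ^ n) (hn : 1 ≤ n)
    (e : Nonempty (N ≃* Matrix.ProjectiveSpecialLinearGroup (Fin 3) K)) : Kit N (2 ^ n) := by
  have h := md G N K n hK hn e
  have h1 := ka G N _ h
  have h2 := kb G N _ h h1
  exact ⟨h, h1, h2, kc G N _ h h1 h2, kd G N _ h h1⟩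

theorem card_of_regular {R : Subgroup G} (a : Ω) (h1 : ∀ x y : Ω, ∃ r ∈ R, r • x = y)
    (h2 : ∀ x : Ω, ∀ r ∈ R, r • x = x → r = 1) : Nat.card R = Nat.card Ω := by
  refine Nat.card_congr (Equiv.ofBijective (fun r : R => (r : G) • a) ⟨fun r s e => ?_, fun y => ?_⟩)
  · have e' : (r : G) • a = (s : G) • a := e
    have := h2 a ((s : G)⁻¹ * r) (R.mul_mem (R.inv_mem s.2) r.2) (by
      rw [mul_smul, e', inv_smul_smul])
    exact Subtype.ext (inv_mul_eq_one.1 this).symm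
  · obtain ⟨r, hr, e⟩ := h1 a y
    exact ⟨⟨r, hr⟩, e⟩

theorem main_of (md : ModStmt.{u}) (ka : KAStmt.{u}) (kb : KBStmt.{u}) (kc : KCStmt.{u})
    (kd : KDStmt.{u}) (g0 : G0Stmt.{u, v}) (hb : BStmt.{u, v}) (hp : PStmt.{u, v})
    [Finite G] [Fintype Ω] [FaithfulSMul G Ω]
    (h2 : MulAction.IsMultiplyPretransitive G Ω 2) (hev : Even (Fintype.card Ω)) (a : Ω)
    (N : Subgroup G) (hNle : N ≤ MulAction.stabilizer G a)
    (hNnormal : ∀ g ∈ MulAction.stabilizer G a, ∀ x ∈ N, g * x * g⁻¹ ∈ N) (n : ℕ) (hn : 1 ≤ n)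
    (hN : ∃ (F : Type) (_ : Field F) (_ : Fintype F), Fintype.card F = 2 ^ n ∧
      Nonempty (↥N ≃* Matrix.ProjectiveSpecialLinearGroup (Fin 3) F)) :
    (∀ x y : Ω, x ≠ a → y ≠ a → ∃ g ∈ N, g • x = y) ∧
    ((Odd n ∧ ∃ E : Subgroup G, E.Normal ∧ Nat.card E = (2 ^ n) ^ 3 ∧
        (∀ x y : Ω, ∃ r ∈ E, r • x = y) ∧ ∀ x : Ω, ∀ r ∈ E, r • x = x → r = 1) ∨
     (Fintype.card Ω = 22 ∧ n = 2 ∧ (Cfsg.Spor.IsoM22 G ∨
        ∃ H : Subgroup G, H.index = 2 ∧ Cfsg.Spor.IsoM22 ↥H))) := by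
  obtain ⟨K, _, _, hK, ⟨e⟩⟩ := hN
  have ht : Two G Ω := fun a b c d h1 h2' => (is_two_pretransitive_iff.1 h2) h1 h2'
  have hnt : ∃ x y : Ω, x ≠ y := by
    have : Nonempty Ω := ⟨a⟩
    have h1 := Fintype.card_pos (α := Ω)
    obtain ⟨m, hm⟩ := hev
    exact (Fintype.one_lt_card_iff_nontrivial.1 (by omega)).exists_pair_ne
  obtain ⟨NN, h, rfl⟩ := exists_st ht hnt (by rwa [Nat.card_eq_fintype_card]) hNle hNnormal
    (q := 2 ^ n) fun N' ⟨e'⟩ => kit_of md ka kb kc kd N' K n hK hn ⟨e'.trans e⟩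
  obtain ⟨htr, hc⟩ := hp G Ω NN _ h ((g0 G Ω NN _ h).resolve_right (hb G Ω NN _ h))
  refine ⟨htr a, ?_⟩
  rcases hc with ⟨⟨m, hm, e1⟩, hc, R, hR, h1, h2'⟩ | ⟨h22, h4, hM⟩
  · rw [Nat.pow_right_injective le_rfl e1]
    refine Or.inl ⟨hm, R, hR, ?_, h1, h2'⟩
    rw [card_of_regular a h1 h2', hc, e1]
  · refine Or.inr ⟨by rwa [← Nat.card_eq_fintype_card], ?_, hM⟩
    exact Nat.pow_right_injective le_rfl (h4.trans (by norm_num : 4 = 2 ^ 2))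

end Cfsg.Agent.H56.HL
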