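import Cfsg.Agent.H56.HLK

/-! Project HL (S3727): piece KA. -/

set_option autoImplicit false
set_option linter.unusedSectionVars false

namespace Cfsg.Agent.H56.HL

open MulAction Subgroup Cfsg.Agent.H83 Cfsg.Agent.H56.TT
open scoped Cfsg.Agent.H63

universe u

variable {G : Type u} [Group G] [Finite G] {N : Subgroup G} {q : ℕ} (h : L3 N q)
include h

namespace KAp

theorem nbr {E : Subgroup G} (hE : Vx N q E) : ∃ F, Adj N q E F := by
  obtain ⟨E0, F0, h0⟩ := h.ex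
  rcases (h.fa h0).two E hE with ⟨g, hg, rfl⟩ | ⟨g, hg, rfl⟩
  · exact ⟨_, h0.cj (le_normalizer hg)⟩
  · exact ⟨_, h0.symm.cj (le_normalizer hg)⟩

theorem infBot {X Y : Subgroup G} (hX : Vx N q X) (hs : Same N X Y) (hne : X ≠ Y) : X ⊓ Y = ⊥ := by
  by_contra hc
  exact (h.fa ⟨hX, hs.vx hX, hne, hc⟩).ns hs

theorem sameAdj {X Y F : Subgroup G} (hX : Adj N q X F) (hY : Adj N q Y F) : Same N X Y :=
  ((h.fa hX).two Y hY.vl).resolve_right fun e => (h.fa hY).ns e.symm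

theorem uniq {X Y M M' : Subgroup G} (hne : X ≠ Y) (h1 : Adj N q X M) (h2 : Adj N q Y M)
    (h3 : Adj N q X M') (h4 : Adj N q Y M') : M = M' :=
  (h.fa h1).uniq X Y M M' (Same.refl N X) hne h1 h2 h3 h4

theorem inZ {E F X : Subgroup G} {t : G} (hA : Adj N q E F) (ht : t ∈ E ⊓ F) (h1 : t ≠ 1)
    (hX : Vx N q X) (htX : t ∈ X) : X = E ∨ X = F := by
  by_contra hc
  push Not at hc
  have a1 : Adj N q E X := ⟨hA.vl, hX, hc.1.symm, fun e => h1 (mem_bot.1 (e ▸ ⟨ht.1, htX⟩))⟩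
  have a2 : Adj N q F X := ⟨hA.vr, hX, hc.2.symm, fun e => h1 (mem_bot.1 (e ▸ ⟨ht.2, htX⟩))⟩
  exact (h.fa hA).ns (sameAdj h a1 a2)

theorem inU {E F X : Subgroup G} (hA : Adj N q E F) (hX : Vx N q X) (hle : X ≤ E ⊔ F) :
    X = E ∨ X = F := by
  have h1 : ∀ x ∈ X, x ∈ E ∨ x ∈ F := fun x hx => (h.fb hA).inv x (hle hx) (hX.sq x hx)
  by_cases hE : X ≤ E
  · exact Or.inl (eq_of_le_of_card_ge hE (by rw [hX.card, hA.vl.card]))
  · obtain ⟨x, hx, hx'⟩ := SetLike.not_le_iff_exists.1 hE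
    have hxF := (h1 x hx).resolve_left hx'
    refine Or.inr (eq_of_le_of_card_ge (fun y hy => ?_) (by rw [hX.card, hA.vr.card]))
    by_contra hy'
    have hyE := (h1 y hy).resolve_right hy'
    rcases h1 _ (X.mul_mem hx hy) with e | e
    · exact hx' (by simpa using E.mul_mem e (E.inv_mem hyE))
    · exact hy' (by simpa using F.mul_mem (F.inv_mem hxF) e)

theorem nE {E F : Subgroup G} (hA : Adj N q E F) : E ⊔ F ≤ N[F] := fun u hu =>
  mem_normalizer_fintype fun f hf => by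
    have := F.mul_mem ((h.fb hA).comm u hu f (mem_sup_right hf)).2 hf
    simpa using this

theorem leSS {E : Subgroup G} (hE : Vx N q E) : E ≤ SS N q E := fun t ht => by
  by_cases e : t = 1
  · rw [e]; exact one_mem _
  · obtain ⟨F, hF⟩ := nbr h hE
    obtain ⟨M, hM, htM⟩ := (h.fa hF).cov t ht e
    exact hM.symm.le_SS htM

theorem third {X Y F : Subgroup G} (hX : Adj N q X F) : ∃ W, Adj N q W F ∧ W ≠ X ∧ W ≠ Y := by
  by_contra hc
  push Not at hc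
  have h1 : {W | Adj N q W F} ⊆ {X, Y} := fun W hW => by
    by_cases e : W = X
    · exact Or.inl e
    · exact Or.inr (hc W hW e)
  have h2 := (Set.ncard_le_ncard h1).trans (Set.ncard_insert_le X {Y})
  rw [(h.fa hX).nb, Set.ncard_singleton] at h2
  have := h.two_le
  omega

theorem move {X Y : Subgroup G} (hX : Vx N q X) (hs : Same N X Y) (hne : X ≠ Y) : ¬ X ≤ N[Y] := by
  intro hle
  obtain ⟨F, hF⟩ := nbr h hX
  obtain ⟨M, h1, h2⟩ := (h.fa hF).join X Y (Same.refl N X) hs hne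
  obtain ⟨W, hW, e1, e2⟩ := third h (Y := Y) h1
  obtain ⟨e, he, e3⟩ := (h.fc h1).trE Y W h2 hW hne.symm e1
  exact e2 (e3.symm.trans (cj_eq_self (hle he)))

theorem stabU {E F M : Subgroup G} (hA : Adj N q E F) (hM : Adj N q E M) (hne : M ≠ F) (u : G)
    (hu : u ∈ E ⊔ F) (hn : u ∈ N[M]) : u ∈ E := by
  obtain ⟨e, he, f, hf, rfl⟩ := (h.fb hA).mul u hu
  have h1 : f ∈ N[M] := by
    simpa using N[M].mul_mem (N[M].inv_mem (nE h hM (mem_sup_left he))) hn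
  refine E.mul_mem he (by_contra fun hfE => ?_)
  have h2 : f ≠ 1 := fun e' => hfE (e' ▸ E.one_mem)
  obtain ⟨E1, hE1, hf1⟩ := (h.fa hA.symm).cov f hf h2
  have h3 := ((h.fc hE1).nrm f ⟨hf, hf1⟩ h2 M (sameAdj h hA.symm hM.symm)).1 h1
  exact hne (uniq h (fun e' : E = E1 => hfE (e' ▸ hf1)) hM h3.symm hA hE1.symm)

theorem borel {E F : Subgroup G} (hA : Adj N q E F) (g : G) (hg : g ∈ N) (h1 : g ∈ N[E])
    (h2 : g ∈ N[F]) (h3 : Is2 g) : g ∈ E ⊔ F := by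
  obtain ⟨m, hm⟩ := h3
  exact (h.fb hA).syl.mem_of_norm hg hm
    (cj_eq_self_iff.1 (by rw [cj_sup, cj_eq_self h1, cj_eq_self h2]))

theorem cenN (g : G) (hg : g ∈ N) (hc : g ∈ C[N]) : g = 1 := by
  have := h.simple
  rcases (inferInstance : (center N).Normal).eq_bot_or_eq_top with e | e
  · have : (⟨g, hg⟩ : N) ∈ center N := mem_center_iff.2 fun y =>
      Subtype.ext (mem_centralizer_iff.1 hc y y.2)
    rw [e, mem_bot] at this
    exact congrArg Subtype.val this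
  · exact absurd ⟨⟨fun x y => (mem_center_iff.1 (e ▸ mem_top y : y ∈ center N) x)⟩⟩ h.nonab

theorem cenU {E F : Subgroup G} (hA : Adj N q E F) : (E ⊔ F) ⊓ C[E ⊔ F] = E ⊓ F := by
  refine le_antisymm (fun x hx => by_contra fun hx' => ?_) fun z hz =>
    ⟨mem_sup_left hz.1, mem_centralizer_iff.2 fun u hu => ?_⟩
  · obtain ⟨z, hz, h1⟩ := hA.exists_ne
    obtain ⟨y, hy, e⟩ := (h.fb hA).onto x hx.1 hx' z hz
    apply h1
    rw [← e, ← mem_centralizer_iff.1 hx.2 y hy]; group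
  · obtain ⟨e, he, f, hf, rfl⟩ := (h.fb hA).mul u hu
    rw [mul_assoc, hA.vr.comm hf hz.2, ← mul_assoc, hA.vl.comm he hz.1, mul_assoc]

theorem sylow {P : Subgroup G} (hP : IsSylowIn 2 P N) : ∃ E F, Adj N q E F ∧ P = E ⊔ F := by
  obtain ⟨E0, F0, h0⟩ := h.ex
  obtain ⟨g, hg, rfl⟩ := (h.fb h0).syl.exists_conj hP
  exact ⟨_, _, h0.cj (le_normalizer hg), cj_sup _ _ _⟩

theorem trN {E X Y : Subgroup G} (hX : Adj N q X E) (hY : Adj N q Y E) :
    ∃ s ∈ SS N q E, cj s X = Y := by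
  obtain ⟨W, hW, e1, e2⟩ := third h (Y := Y) hX
  obtain ⟨e, he, e3⟩ := (h.fc hW).trE X Y hX hY e1.symm e2.symm
  exact ⟨e, hW.le_SS he, e3⟩

theorem normS {E X : Subgroup G} (hE : Vx N q E) (hX : Vx N q X) (hle : SS N q E ≤ N[X]) :
    X = E := by
  by_contra hne
  obtain ⟨F, hF⟩ := nbr h hE
  have key : ∀ F, Adj N q E F → Same N E X → Adj N q X F := fun F hF hs => by
    obtain ⟨t, ht, h1⟩ := hF.exists_ne
    exact ((h.fc hF).nrm t ht h1 X hs).1 (hle (hF.symm.le_SS ht.2))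
  rcases (h.fa hF).two X hX with hs | hs
  · obtain ⟨W, hW, e1, -⟩ := third h (Y := F) hF.symm
    exact e1 (uniq h hne (key W hW.symm hs) hW.symm (key F hF hs) hF)
  · obtain ⟨t, ht, h1⟩ := hF.symm.exists_ne
    have h2 := ((h.fc hF.symm).nrm t ht h1 X hs).1 (hle (hF.symm.le_SS ht.1))
    obtain ⟨W, hW, e1, -⟩ := third h (Y := X) h2
    obtain ⟨s, hs', e⟩ := trN h h2 hW
    exact e1 (e.symm.trans (cj_eq_self (hle hs')))

theorem swapU {E F : Subgroup G} (hA : Adj N q E F) (g : G) (hg : g ∈ N[N]) (hU : g ∈ N[E ⊔ F]) :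
    (g ∈ N[E] ∧ g ∈ N[F]) ∨ (cj g E = F ∧ cj g F = E) := by
  have h1 := inU h hA (hA.vl.cj hg) (cj_le_of_norm le_sup_left hU)
  have h2 := inU h hA (hA.vr.cj hg) (cj_le_of_norm le_sup_right hU)
  have h3 := (hA.cj hg).ne
  rcases h1 with h1 | h1 <;> rcases h2 with h2 | h2
  · exact absurd (h1.trans h2.symm) h3
  · exact Or.inl ⟨cj_eq_self_iff.1 h1, cj_eq_self_iff.1 h2⟩
  · exact Or.inr ⟨h1, h2⟩
  · exact absurd (h1.trans h2.symm) h3

theorem flagTr {E F E' F' : Subgroup G} (hA : Adj N q E F) (hA' : Adj N q E' F')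
    (hs : Same N E E') : ∃ g ∈ N, cj g E = E' ∧ cj g F = F' := by
  obtain ⟨n, hn, rfl⟩ := hs
  obtain ⟨s, hs, e⟩ := trN h (hA.cj (le_normalizer hn)).symm hA'.symm
  have h1 : SS N q (cj n E) ≤ N[cj n E] := SS_le fun M hM => le_sup_left.trans (nE h hM)
  exact ⟨s * n, N.mul_mem (SS_le_N hs) hn, by rw [cj_mul, cj_eq_self (h1 hs)], by rw [cj_mul, e]⟩

theorem notFix {E : Subgroup G} (hE : Vx N q E) : ¬ N ≤ N[E] := fun hle => by
  obtain ⟨F, hF⟩ := nbr h hE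
  obtain ⟨W, hW, e1, -⟩ := third h (Y := E) hF
  obtain ⟨s, hs, e⟩ := trN h hF hW
  exact e1 (e.symm.trans (cj_eq_self (hle (SS_le_N hs))))

end KAp

omit h in
theorem ka : KAStmt.{u} := fun _ _ _ _ _ h =>
  ⟨KAp.nbr h, KAp.infBot h, KAp.sameAdj h, KAp.uniq h, KAp.inZ h, KAp.inU h, KAp.nE h, KAp.leSS h,
    fun hX _ => KAp.third h hX, KAp.move h, KAp.stabU h, KAp.borel h, KAp.cenN h, KAp.cenU h,
    KAp.sylow h, KAp.normS h, KAp.trN h, KAp.swapU h, KAp.flagTr h, KAp.notFix h⟩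

end Cfsg.Agent.H56.HL
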