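import Cfsg.Agent.H56.HLK

/-! Project HL (S3727): piece KB. -/

set_option autoImplicit false
set_option linter.unusedSectionVars false

namespace Cfsg.Agent.H56.HL

open MulAction Subgroup Cfsg.Agent.H83 Cfsg.Agent.H56.TT
open scoped Cfsg.Agent.H63

universe u

variable {G : Type u} [Group G] [Finite G] {N : Subgroup G} {q : ℕ} (h : L3 N q) (ka : KA N q)
include h ka

namespace KBp

theorem a5 {E : Subgroup G} (hE : Vx N q E) (w : G) (hw : w ∈ N[N])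
    (hf : ∀ X, Same N E X → w ∈ N[X]) : w ∈ C[N] := by
  let K : Subgroup N :=
    { carrier := {n | ∀ X, Same N E X → (n : G) ∈ N[X]}
      one_mem' := fun X _ => one_mem _
      mul_mem' := fun ha hb X hX => mul_mem (ha X hX) (hb X hX)
      inv_mem' := fun ha X hX => inv_mem (ha X hX) }
  have sm : ∀ n ∈ N, ∀ X, Same N E X → Same N E (cj n X) := fun n hn X hX => hX.trans ⟨n, hn, rfl⟩
  have hK : K.Normal := ⟨fun n hn g X hX => cj_eq_self_iff.1 (by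
    change cj ((g : G) * n * (g : G)⁻¹) X = X
    rw [cj_mul, cj_mul, cj_eq_self (hn _ (sm _ (N.inv_mem g.2) X hX)), cj_cj_inv])⟩
  have := h.simple
  rcases hK.eq_bot_or_eq_top with e | e
  · refine mem_centralizer_iff.2 fun n hn => ?_
    have h1 : n * (w * n⁻¹ * w⁻¹) ∈ N := N.mul_mem hn ((mem_normalizer_iff.1 hw _).1 (N.inv_mem hn))
    have h2 : (⟨_, h1⟩ : N) ∈ K := fun X hX => cj_eq_self_iff.1 (by
      change cj (n * (w * n⁻¹ * w⁻¹)) X = X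
      rw [cj_mul, cj_mul, cj_mul, cj_eq_self (inv_mem (hf X hX)),
        cj_eq_self (hf _ (sm _ (N.inv_mem hn) X hX)), cj_cj_inv])
    rw [e, mem_bot] at h2
    have h3 : n * (w * n⁻¹ * w⁻¹) = 1 := congrArg Subtype.val h2
    calc n * w = n * (w * n⁻¹ * w⁻¹) * (w * n) := by group
      _ = w * n := by rw [h3, one_mul]
  · exact absurd (fun n hn => (e ▸ mem_top _ : (⟨n, hn⟩ : N) ∈ K) E (Same.refl N E)) (ka.notFix hE)

theorem fix_join {X Y M : Subgroup G} {w : G} (hw : w ∈ N[N]) (hne : X ≠ Y) (h1 : Adj N q X M)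
    (h2 : Adj N q Y M) (hX : w ∈ N[X]) (hY : w ∈ N[Y]) : w ∈ N[M] := by
  have a1 := h1.cj hw
  have a2 := h2.cj hw
  rw [cj_eq_self hX] at a1
  rw [cj_eq_self hY] at a2
  exact cj_eq_self_iff.1 (ka.uniq hne a1 a2 h1 h2)

theorem fix_nbr {E M : Subgroup G} {w : G} (hw : w ∈ N[N]) (hM : Adj N q E M) (hE : w ∈ C[E]) :
    w ∈ N[M] := by
  obtain ⟨t, ht, h1⟩ := hM.exists_ne
  have h2 : t ∈ cj w M := by
    have := conj_mem_cj (g := w) ht.2
    rwa [← mem_centralizer_iff.1 hE t ht.1, mul_inv_cancel_right] at this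
  rcases ka.inZ hM ht h1 (hM.vr.cj hw) h2 with e | e
  · rw [← cj_eq_self (centralizer_le_normalizer _ hE), cj_inj] at e
    exact absurd e.symm hM.ne
  · exact cj_eq_self_iff.1 e

theorem plane {E F X0 : Subgroup G} {w : G} (hw : w ∈ N[N]) (hA : Adj N q E F)
    (hE : ∀ M, Adj N q E M → w ∈ N[M]) (hF : ∀ X, Adj N q X F → w ∈ N[X]) (hs : Same N E X0)
    (hn : ¬ Adj N q X0 F) (h0 : w ∈ N[X0]) : w ∈ C[N] := by
  have fa := h.fa hA
  have hne : E ≠ X0 := fun e => hn (e ▸ hA)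
  have s1 : ∀ L, Adj N q X0 L → w ∈ N[L] := fun L hL => by
    have e1 : Same N F L := (fa.two L hL.vr).resolve_left fun e => (h.fa hL).ns (hs.symm.trans e)
    obtain ⟨P, hP1, hP2⟩ := (h.fa hA.symm).join F L (Same.refl N F) e1 fun e => hn (e ▸ hL)
    exact fix_join h ka hw (fun e : P = X0 => hn (e ▸ hP1.symm)) hP2.symm hL (hF P hP1.symm) h0
  obtain ⟨M0, m1, m2⟩ := fa.join E X0 (Same.refl N E) hs hne
  have s2 : ∀ Y, Same N E Y → ¬ Adj N q Y M0 → w ∈ N[Y] := fun Y hY hY' => by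
    obtain ⟨M1, a1, a2⟩ := fa.join E Y (Same.refl N E) hY fun e => hY' (e ▸ m1)
    obtain ⟨M2, b1, b2⟩ := fa.join X0 Y hs hY fun e => hY' (e ▸ m2)
    refine fix_join h ka hw (fun e : M1 = M2 => hY' ?_) a2.symm b2.symm (hE M1 a1) (s1 M2 b1)
    subst e
    rw [← ka.uniq hne a1 b1 m1 m2]; exact a2
  refine a5 h ka hA.vl w hw fun Y hY => ?_
  by_cases hY' : Adj N q Y M0
  swap
  · exact s2 Y hY hY'
  obtain ⟨L, hL, e1, -⟩ := ka.third hY'.symm hY'.symm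
  have s3 : ∀ P, Adj N q P L → P ≠ Y → w ∈ N[P] := fun P hP e =>
    s2 P (hY.trans (ka.sameAdj hL.symm hP)) fun hP' => e1 (ka.uniq e hP hL.symm hP' hY')
  obtain ⟨P1, p1, e2, -⟩ := ka.third hL.symm hL.symm
  obtain ⟨P2, p2, e3, e4⟩ := ka.third hL.symm p1
  exact fix_join h ka hw e1 hL hY'.symm
    (fix_join h ka hw e4 p2 p1 (s3 P2 p2 e3) (s3 P1 p1 e2)) (hE M0 m1)

theorem a6 {E F : Subgroup G} (hA : Adj N q E F) (w : G) (hw : w ∈ N[N]) (hc : w ∈ C[E ⊔ F]) :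
    ∃ z ∈ E ⊓ F, ∃ c ∈ C[N], w = z * c := by
  have cE : w ∈ C[E] := cent_anti le_sup_left hc
  have cF : w ∈ C[F] := cent_anti le_sup_right hc
  obtain ⟨M, hM, e1, -⟩ := ka.third hA.symm hA.symm
  obtain ⟨X, hX, e2, -⟩ := ka.third hM.symm hM.symm
  have hwM := fix_nbr h ka hw hM.symm cE
  have a1 := hX.cj hw
  rw [cj_eq_self hwM] at a1
  obtain ⟨z, hz, e3⟩ := (h.fc hA).trZ M X (cj w X) hM.symm e1 hX a1 e2 fun e => e2 (by
    rw [← cj_eq_self (centralizer_le_normalizer _ cE), cj_inj] at e; exact e)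
  have hzN : z ∈ N[N] := le_normalizer (hA.vl.le hz.1)
  refine ⟨z, hz, z⁻¹ * w, plane h ka (mul_mem (inv_mem hzN) hw) hA (X0 := X) (fun L hL => ?_)
    (fun Y hY => ?_) (ka.sameAdj hM.symm hX) (fun hXF => e1 (ka.uniq e2 hX hM.symm hXF hA))
    (cj_eq_self_iff.1 ?_), by group⟩
  · exact mul_mem (inv_mem (ka.nE hL (mem_sup_left hz.1))) (fix_nbr h ka hw hL cE)
  · exact mul_mem (inv_mem (ka.nE hY.symm (mem_sup_left hz.2))) (fix_nbr h ka hw hY.symm cF)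
  · rw [cj_mul, ← e3, cj_inv_cj]

theorem ck {E : Subgroup G} (hE : Vx N q E) (w : G) (hw : w ∈ N[N]) (hc : w ∈ C[SS N q E]) :
    w ∈ C[N] := by
  have key : ∀ F, Adj N q E F → ∃ z ∈ E ⊓ F, ∃ c ∈ C[N], w = z * c := fun F hF =>
    a6 h ka hF w hw (cent_anti (sup_le (ka.leSS hE) hF.symm.le_SS) hc)
  obtain ⟨F, hF⟩ := ka.nbr hE
  obtain ⟨M, hM, e1, -⟩ := ka.third hF.symm hF.symm
  obtain ⟨z, hz, c, hc1, e2⟩ := key F hF
  obtain ⟨z', hz', c', hc', e3⟩ := key M hM.symm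
  have h1 : z'⁻¹ * z = 1 := ka.cenN _ (hE.le (E.mul_mem (E.inv_mem hz'.1) hz.1)) (by
    have : z'⁻¹ * z = c' * c⁻¹ := by
      rw [inv_mul_eq_iff_eq_mul, ← mul_assoc, ← e3, e2, mul_inv_cancel_right]
    rw [this]; exact mul_mem hc' (inv_mem hc1))
  have h2 : z ∈ M ⊓ F := ⟨by rw [← inv_mul_eq_one.1 h1]; exact hz'.2, hz.2⟩
  rw [ka.infBot hM.vl (ka.sameAdj hM hF.symm) e1, mem_bot] at h2
  rw [e2, h2, one_mul]; exact hc1

end KBp

omit h ka in
theorem kb : KBStmt.{u} := fun _ _ _ _ _ h ka => ⟨KBp.a5 h ka, KBp.a6 h ka, KBp.ck h ka⟩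

end Cfsg.Agent.H56.HL
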