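import Cfsg.Agent.H56.HLK

/-! Project HL (S3727): piece KC. -/

set_option autoImplicit false
set_option linter.unusedSectionVars false

namespace Cfsg.Agent.H56.HL

open MulAction Subgroup Cfsg.Agent.H83 Cfsg.Agent.H56.TT
open scoped Cfsg.Agent.H63

universe u

variable {G : Type u} [Group G] [Finite G] {N : Subgroup G} {q : ℕ} (h : L3 N q) (ka : KA N q)
include h ka

namespace KCp

theorem dec {E F M : Subgroup G} (hA : Adj N q E F) (hM : Adj N q E M) (hne : M ≠ F) {e : G}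
    (he : e ∈ E) : ∃ z ∈ E ⊓ F, ∃ r ∈ E ⊓ M, e = z * r := by
  obtain ⟨X, hX, e1, -⟩ := ka.third hM hM
  have a1 := hX.cj (le_normalizer (hA.vl.le he))
  rw [cj_eq_self (ka.nE hM (mem_sup_left he))] at a1
  obtain ⟨z, hz, e2⟩ := (h.fc hA).trZ M X (cj e X) hM hne hX a1 e1 fun e' => e1 (by
    rw [← cj_eq_self (le_normalizer he), cj_inj] at e'; exact e')
  have h1 : z⁻¹ * e ∈ E := E.mul_mem (E.inv_mem hz.1) he
  refine ⟨z, hz, z⁻¹ * e, ⟨h1, ka.stabU hM.symm hX.symm e1 _ (mem_sup_right h1)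
    (cj_eq_self_iff.1 ?_)⟩, by group⟩
  rw [cj_mul, ← e2, cj_inv_cj]

theorem adj1 {E F X : Subgroup G} (hA : Adj N q E F) (hX : Adj N q X F) (hne : X ≠ E) {w : G}
    (hw : w ∈ N[N]) (hE : w ∈ N[E]) (hF : w ∈ N[F]) : ∃ e ∈ E, e * w ∈ N[X] := by
  have a1 := hX.cj hw
  rw [cj_eq_self hF] at a1
  obtain ⟨e, he, e1⟩ := (h.fc hA).trE (cj w X) X a1 hX (fun e' => hne (by
    rw [← cj_eq_self hE, cj_inj] at e'; exact e')) hne
  exact ⟨e, he, cj_eq_self_iff.1 (by rw [cj_mul, e1])⟩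

/-- adjust `w` by an element of the Sylow subgroup -/
theorem adjust {E F : Subgroup G} (hA : Adj N q E F) {w : G} (hw : w ∈ N[N]) (hE : w ∈ N[E])
    (hF : w ∈ N[F]) : ∃ M X, Adj N q E M ∧ M ≠ F ∧ Adj N q X F ∧ X ≠ E ∧ ∃ u ∈ E ⊔ F,
      u * w ∈ N[M] ∧ u * w ∈ N[X] := by
  obtain ⟨M, hM, e1, -⟩ := ka.third hA.symm hA.symm
  obtain ⟨X, hX, e2, -⟩ := ka.third hA hA
  obtain ⟨f, hf, h1⟩ := adj1 h ka hA.symm hM e1 hw hF hE
  obtain ⟨e, he, h2⟩ := adj1 h ka hA hX e2 (mul_mem (le_normalizer (hA.vr.le hf)) hw)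
    (mul_mem (ka.nE hA.symm (mem_sup_left hf)) hE) (mul_mem (le_normalizer hf) hF)
  refine ⟨M, X, hM.symm, e1, hX, e2, e * f, mul_mem (mem_sup_left he) (mem_sup_right hf), ?_, ?_⟩
  · rw [mul_assoc]; exact mul_mem (ka.nE hM.symm (mem_sup_left he)) h1
  · rw [mul_assoc]; exact h2

omit h ka in
theorem cj_mem {A : Subgroup G} {w x : G} (hw : w ∈ N[A]) (hx : x ∈ A) : w * x * w⁻¹ * x⁻¹ ∈ A :=
  A.mul_mem ((mem_normalizer_iff.1 hw x).1 hx) (A.inv_mem hx)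

omit h ka in
theorem comm_of {w x : G} (e : w * x * w⁻¹ * x⁻¹ = 1) : x * w = w * x := by
  calc x * w = (w * x * w⁻¹ * x⁻¹) * (x * w) := by rw [e, one_mul]
    _ = w * x := by group

/-- the centre is generated by commutators `[x, r]` -/
theorem cenZ {E F X : Subgroup G} (hA : Adj N q E F) (hX : Adj N q X F) (hne : X ≠ E) {w x : G}
    (hx : x ∈ E) (hx' : x ∉ F) (h1 : x * w = w * x) (h2 : w ∈ C[X ⊓ F]) : w ∈ C[E ⊓ F] := by
  refine mem_centralizer_iff.2 fun z hz => ?_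
  obtain ⟨y, hy, rfl⟩ := (h.fb hA).onto x (mem_sup_left hx) (fun e => hx' e.2) z hz
  obtain ⟨e, he, f, hf, rfl⟩ := (h.fb hA).mul y hy
  obtain ⟨z', hz', r, hr, rfl⟩ := dec h ka hA.symm hX.symm hne hf
  have hr' : r * w = w * r := mem_centralizer_iff.1 h2 r ⟨hr.2, hr.1⟩
  have he' : e * z' ∈ E := E.mul_mem he hz'.2
  have h3 : r * x⁻¹ * r⁻¹ ∈ E :=
    (mem_normalizer_iff.1 (ka.nE hA.symm (mem_sup_left hr.1)) _).1 (E.inv_mem hx)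
  have h4 : x * (e * (z' * r)) * x⁻¹ * (e * (z' * r))⁻¹ = x * r * x⁻¹ * r⁻¹ := by
    calc _ = x * ((e * z') * (r * x⁻¹ * r⁻¹)) * (e * z')⁻¹ := by group
      _ = x * ((r * x⁻¹ * r⁻¹) * (e * z')) * (e * z')⁻¹ := by rw [hA.vl.comm he' h3]
      _ = _ := by group
  rw [h4]
  have c1 : Commute x w := h1
  have c2 : Commute r w := hr'
  exact (((c1.mul_left c2).mul_left c1.inv_left).mul_left c2.inv_left).eq

theorem cenE {E F M : Subgroup G} (hA : Adj N q E F) (hM : Adj N q E M) (hne : M ≠ F) {w : G}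
    (h1 : w ∈ C[E ⊓ F]) (h2 : w ∈ C[E ⊓ M]) : w ∈ C[E] := by
  refine mem_centralizer_iff.2 fun e he => ?_
  obtain ⟨z, hz, r, hr, rfl⟩ := dec h ka hA hM hne he
  rw [mul_assoc, mem_centralizer_iff.1 h2 r hr, ← mul_assoc, mem_centralizer_iff.1 h1 z hz, mul_assoc]

theorem fin (kb : KB N q) {E F M X : Subgroup G} (hA : Adj N q E F) (hM : Adj N q E M) (e1 : M ≠ F)
    (hX : Adj N q X F) (e2 : X ≠ E) {u w : G} (hu : u ∈ E ⊔ F) (hw : w ∈ N[N])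
    (h1 : u * w ∈ C[E ⊓ F]) (h2 : u * w ∈ C[E ⊓ M]) (h3 : u * w ∈ C[X ⊓ F]) :
    ∃ y ∈ E ⊔ F, ∃ c ∈ C[N], w = y * c := by
  have c1 := cenE h ka hA hM e1 h1 h2
  have c2 := cenE h ka hA.symm hX.symm e2 (by rwa [inf_comm]) (by rwa [inf_comm])
  obtain ⟨z, hz, c, hc, e⟩ := kb.a6 hA (u * w)
    (mul_mem (le_normalizer ((h.fb hA).syl.le hu)) hw) (by rw [centralizer_sup]; exact ⟨c1, c2⟩)
  exact ⟨u⁻¹ * z, mul_mem (inv_mem hu) (mem_sup_left hz.1), c, hc, by rw [mul_assoc, ← e]; group⟩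

theorem not_mem {E F M : Subgroup G} (hA : Adj N q E F) (hM : Adj N q E M) (e1 : M ≠ F) {x : G}
    (hx : x ∈ M) (h1 : x ≠ 1) : x ∉ F := fun hF => h1 (mem_bot.1
  (ka.infBot hM.vr (ka.sameAdj hM.symm hA.symm) e1 ▸ (⟨hx, hF⟩ : x ∈ M ⊓ F)))

/-- commutators with the adjusted element -/
theorem comm_adj {E F V : Subgroup G} (hA : Adj N q E F) (hV : E ⊓ F ≤ V) (hn : E ⊔ F ≤ N[V])
    {u w : G} (hu : u ∈ E ⊔ F) (hw : ∀ y ∈ E ⊔ F, w * y * w⁻¹ * y⁻¹ ∈ V) :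
    ∀ y ∈ E ⊔ F, u * w * y * (u * w)⁻¹ * y⁻¹ ∈ V := fun y hy => by
  have := V.mul_mem ((mem_normalizer_iff.1 (hn hu) _).1 (hw y hy)) (hV ((h.fb hA).comm u hu y hy))
  convert this using 1; group

omit h ka in
theorem norm_of {A V : Subgroup G} (hV : V ≤ A) {w : G} (hw : ∀ y ∈ A, w * y * w⁻¹ * y⁻¹ ∈ V) :
    w ∈ N[A] := mem_normalizer_fintype fun y hy => by
  simpa using A.mul_mem (hV (hw y hy)) hy

theorem a6' (kb : KB N q) {E F : Subgroup G} (hA : Adj N q E F) (w : G) (hw : w ∈ N[N])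
    (hc : ∀ y ∈ E ⊔ F, w * y * w⁻¹ * y⁻¹ ∈ E ⊓ F) : ∃ y ∈ E ⊔ F, ∃ c ∈ C[N], w = y * c := by
  obtain ⟨M, X, hM, e1, hX, e2, u, hu, n1, n2⟩ := adjust h ka hA hw
    (norm_of inf_le_left fun y hy => hc y (mem_sup_left hy))
    (norm_of inf_le_right fun y hy => hc y (mem_sup_right hy))
  have hc' := comm_adj h ka hA le_rfl
    (le_norm_inf (sup_comm F E ▸ ka.nE hA.symm) (ka.nE hA)) hu hc
  have c1 : u * w ∈ C[E ⊓ M] := mem_centralizer_iff.2 fun r hr => comm_of (by_contra fun e =>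
    not_mem h ka hA hM e1 (cj_mem n1 hr.2) e (hc' r (mem_sup_left hr.1)).2)
  have c2 : u * w ∈ C[X ⊓ F] := mem_centralizer_iff.2 fun r hr => comm_of (by_contra fun e =>
    not_mem h ka hA.symm hX.symm e2 (cj_mem n2 hr.1) e (hc' r (mem_sup_right hr.2)).1)
  obtain ⟨x, hx, hx1⟩ := hM.exists_ne
  exact fin h ka kb hA hM e1 hX e2 hu hw (cenZ h ka hA hX e2 hx.1 (not_mem h ka hA hM e1 hx.2 hx1)
    (mem_centralizer_iff.1 c1 x hx) c2) c1 c2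

/-- the adjusted element is a 2-element and fixes a nontrivial element -/
theorem fixed {E F A B : Subgroup G} (hA : Adj N q E F) (hB : Adj N q A B) {u w : G}
    (hu : u ∈ E ⊔ F) (hE : w ∈ N[E]) (hF : w ∈ N[F]) (h2 : Is2 w) (n1 : u * w ∈ N[A])
    (n2 : u * w ∈ N[B]) : ∃ x ∈ A ⊓ B, x ≠ 1 ∧ x * (u * w) = u * w * x := by
  obtain ⟨m, hm⟩ := h2
  have h1 : IsPGroup 2 ↥(zpowers w ⊔ (E ⊔ F)) := isPGroup_sup (isPGroup_zpowers hm)
    (h.fb hA).syl.isPGroup (le_norm_sup (zpowers_le.2 hE) (zpowers_le.2 hF))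
  obtain ⟨k, hk⟩ := Is2.of_mem h1 (mul_mem (mem_sup_right hu) (mem_sup_left (mem_zpowers w)))
  obtain ⟨⟨x, hx, hc⟩, h3⟩ := ne_bot_iff_exists_ne_one.1 (inf_centralizer_ne_bot
    (hB.vl.isPGroup.to_le inf_le_left) (isPGroup_zpowers hk)
    (le_norm_inf (zpowers_le.2 n1) (zpowers_le.2 n2)) hB.inf)
  exact ⟨x, hx, fun e => h3 (Subtype.ext e), (mem_centralizer_iff.1 hc _ (mem_zpowers _)).symm⟩

theorem a8 {E F : Subgroup G} (hA : Adj N q E F) (w : G) (hw : w ∈ N[N]) (hF : w ∈ N[F])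
    (h2 : Is2 w) (hc : ∀ y ∈ E ⊔ F, w * y * w⁻¹ * y⁻¹ ∈ E) : w ∈ C[E ⊓ F] := by
  have hE := norm_of le_rfl fun y hy => hc y (mem_sup_left hy)
  have nE : E ⊔ F ≤ N[E] := sup_comm F E ▸ ka.nE hA.symm
  obtain ⟨M, X, hM, e1, hX, e2, u, hu, n1, n2⟩ := adjust h ka hA hw hE hF
  have hc' := comm_adj h ka hA inf_le_left nE hu hc
  have c2 : u * w ∈ C[X ⊓ F] := mem_centralizer_iff.2 fun r hr => comm_of (by_contra fun e =>
    not_mem h ka hA.symm hX.symm e2 (cj_mem n2 hr.1) e (hc' r (mem_sup_right hr.2)))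
  obtain ⟨x, hx, hx1, hx2⟩ := fixed h ka hA hM hu hE hF h2 (mul_mem (nE hu) hE) n1
  have c3 := cenZ h ka hA hX e2 hx.1 (not_mem h ka hA hM e1 hx.2 hx1) hx2 c2
  have c4 : u ∈ C[E ⊓ F] := mem_centralizer_iff.2 fun z hz =>
    (mem_centralizer_iff.1 (ka.cenU hA ▸ hz : z ∈ (E ⊔ F) ⊓ C[E ⊔ F]).2 u hu).symm
  simpa using mul_mem (inv_mem c4) c3

theorem cenR {E F X : Subgroup G} (hA : Adj N q E F) (hX : Adj N q X F) (hne : X ≠ E) {w x : G}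
    (hx : x ∈ E) (hx' : x ∉ F) (h1 : x * w = w * x) (h2 : w ∈ C[E ⊓ F]) (n1 : w ∈ N[X])
    (n2 : w ∈ N[F]) : w ∈ C[X ⊓ F] := by
  refine mem_centralizer_iff.2 fun r hr => ?_
  have hz := mem_centralizer_iff.1 h2 _
    ((h.fb hA).comm x (mem_sup_left hx) r (mem_sup_right hr.2))
  have hs : r⁻¹ * (w * r * w⁻¹) ∈ X ⊓ F :=
    ⟨X.mul_mem (X.inv_mem hr.1) ((mem_normalizer_iff.1 n1 r).1 hr.1),
      F.mul_mem (F.inv_mem hr.2) ((mem_normalizer_iff.1 n2 r).1 hr.2)⟩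
  have e1 : w * x * w⁻¹ = x := by rw [← h1, mul_inv_cancel_right]
  have e2 : w * (x * r * x⁻¹ * r⁻¹) * w⁻¹ = x * r * x⁻¹ * r⁻¹ := by rw [← hz, mul_inv_cancel_right]
  have e3 : (w * r * w⁻¹) * x⁻¹ * (w * r * w⁻¹)⁻¹ = r * x⁻¹ * r⁻¹ := by
    have : w * (x * r * x⁻¹ * r⁻¹) * w⁻¹ =
        (w * x * w⁻¹) * ((w * r * w⁻¹) * (w * x * w⁻¹)⁻¹ * (w * r * w⁻¹)⁻¹) := by group
    rw [this, e1] at e2
    exact mul_left_cancel (a := x) (e2.trans (by group))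
  have e4 : x * (r⁻¹ * (w * r * w⁻¹)) = r⁻¹ * (w * r * w⁻¹) * x := by
    have e5 : (w * r * w⁻¹) * x * (w * r * w⁻¹)⁻¹ = r * x * r⁻¹ := by
      have := congrArg (·⁻¹) e3
      simpa only [mul_inv_rev, inv_inv, mul_assoc] using this
    calc x * (r⁻¹ * (w * r * w⁻¹)) = r⁻¹ * (r * x * r⁻¹) * (w * r * w⁻¹) := by group
      _ = _ := by rw [← e5]; group
  have h3 := (h.fb hA).cen x hx hx' _ (mem_sup_right hs.2) e4
  have h4 : r⁻¹ * (w * r * w⁻¹) = 1 := by_contra fun e =>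
    not_mem h ka hA.symm hX.symm hne hs.1 e h3
  calc r * w = r * (r⁻¹ * (w * r * w⁻¹)) * w := by rw [h4, mul_one]
    _ = w * r := by group

theorem a7 (kb : KB N q) {E F : Subgroup G} (hA : Adj N q E F) (w : G) (hw : w ∈ N[N])
    (hE : w ∈ N[E]) (hF : w ∈ N[F]) (h2 : Is2 w) (hc : w ∈ C[E ⊓ F]) :
    ∃ y ∈ E ⊔ F, ∃ c ∈ C[N], w = y * c := by
  have nE : E ⊔ F ≤ N[E] := sup_comm F E ▸ ka.nE hA.symm
  obtain ⟨M, X, hM, e1, hX, e2, u, hu, n1, n2⟩ := adjust h ka hA hw hE hF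
  have c4 : u ∈ C[E ⊓ F] := mem_centralizer_iff.2 fun z hz =>
    (mem_centralizer_iff.1 (ka.cenU hA ▸ hz : z ∈ (E ⊔ F) ⊓ C[E ⊔ F]).2 u hu).symm
  have c0 := mul_mem c4 hc
  have m1 := mul_mem (nE hu) hE
  have m2 := mul_mem (ka.nE hA hu) hF
  obtain ⟨x, hx, hx1, hx2⟩ := fixed h ka hA hM hu hE hF h2 m1 n1
  obtain ⟨y, hy, hy1, hy2⟩ := fixed h ka hA hX hu hE hF h2 n2 m2
  refine fin h ka kb hA hM e1 hX e2 hu hw c0 ?_
    (cenR h ka hA hX e2 hx.1 (not_mem h ka hA hM e1 hx.2 hx1) hx2 c0 n2 m2)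
  rw [inf_comm]
  exact cenR h ka hA.symm hM.symm e1 hy.2 (not_mem h ka hA.symm hX.symm e2 hy.1 hy1) hy2
    (by rwa [inf_comm]) n1 m1

end KCp

omit h ka in
theorem kc : KCStmt.{u} := fun _ _ _ _ _ h ka kb =>
  ⟨KCp.a6' h ka kb, KCp.a7 h ka kb, KCp.a8 h ka⟩

end Cfsg.Agent.H56.HL
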