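import Mathlib
import Cfsg.Agent.H10.StronglyEmbedded
import Cfsg.Agent.H9.InvCount

/-! Parity counts for an involution acting by conjugation. -/

set_option autoImplicit false

namespace Cfsg.Agent.H56

open Subgroup

theorem card_modEq_card_commute {G : Type*} [Group G] [Finite G] (A : G → Prop) {s : G}
    (hs : s * s = 1) (hA : ∀ x, A x → A (s * x * s⁻¹)) :
    Nat.card {x // A x} ≡ Nat.card {x // A x ∧ s * x * s⁻¹ = x} [MOD 2] := by
  classical
  have : Fintype {x // A x} := Fintype.ofFinite _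
  let f : Function.End {x // A x} := fun x => ⟨s * x * s⁻¹, hA x x.2⟩
  have hf : f ^ 2 ^ 1 = 1 := by
    funext x
    apply Subtype.ext
    show s * (s * x * s⁻¹) * s⁻¹ = x
    calc s * (s * x * s⁻¹) * s⁻¹ = (s * s) * x * (s * s)⁻¹ := by group
      _ = x := by rw [hs]; group
  have h := Equiv.Perm.card_fixedPoints_modEq hf
  rw [← Nat.card_eq_fintype_card, ← Nat.card_eq_fintype_card] at h
  have e : Function.fixedPoints f ≃ {x // A x ∧ s * x * s⁻¹ = x} :=
    ⟨fun x => ⟨x.1.1, x.1.2, congrArg Subtype.val x.2⟩,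
      fun x => ⟨⟨x.1, x.2.1⟩, Subtype.ext x.2.2⟩, fun _ => rfl, fun _ => rfl⟩
  rwa [Nat.card_congr e] at h

/-- If the class of `z` has odd size, `z` a `2`-element, then `z` is central in a Sylow subgroup. -/
theorem exists_sylow_mem_center {G : Type*} [Group G] [Finite G] {p : ℕ} [Fact p.Prime] {z : G}
    (hz : IsPGroup p (zpowers z)) (h : ¬ p ∣ (centralizer ({z} : Set G)).index) :
    ∃ P : Sylow p G, z ∈ (center (P : Subgroup G)).map (P : Subgroup G).subtype := by
  have h1 : zpowers z ≤ centralizer ({z} : Set G) := by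
    rw [zpowers_le]; exact mem_centralizer_singleton_iff.2 rfl
  obtain ⟨Q, hQ⟩ := (hz.comap_subtype (K := centralizer ({z} : Set G))).exists_le_sylow
  have h2 : ¬ p ∣ ((Q : Subgroup _).map (centralizer ({z} : Set G)).subtype).index := by
    rw [index_map_subtype]
    exact (Fact.out : p.Prime).not_dvd_mul Q.not_dvd_index h
  refine ⟨(Q.isPGroup'.map _).toSylow h2, ⟨z, ⟨z, h1 (mem_zpowers z)⟩, hQ (mem_zpowers z), rfl⟩,
    ?_, rfl⟩
  rw [SetLike.mem_coe, mem_center_iff]
  rintro ⟨_, c, -, rfl⟩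
  exact Subtype.ext (mem_centralizer_singleton_iff.1 c.2)

end Cfsg.Agent.H56
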