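import Cfsg.Agent.H56.JuD

/-!
# The double coset relations
-/

set_option autoImplicit false
set_option maxRecDepth 1000000

namespace Cfsg.Agent.H56.JU

open Cfsg.Agent.H42 Cfsg.Agent.H46 Cfsg.Agent.H17.J4R Cfsg.Agent.H97.JM

def it0 : List (List ℕ) := [[0, 0, 1, 0, 0, 4, 17, 0, 0, 4],
  [0, 0, 2, 0, 0, 2, 5, 0, 0, 2],
  [0, 0, 3, 0, 0, 5, 1, 0, 0, 5],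
  [0, 0, 4, 0, 0, 1, 33, 0, 0, 1],
  [0, 0, 5, 0, 0, 3, 9, 0, 0, 3],
  [0, 0, 6, 0, 0, 8, 29, 0, 0, 8],
  [0, 0, 7, 0, 0, 10, 13, 0, 0, 10],
  [0, 0, 8, 0, 0, 6, 21, 0, 0, 6],
  [0, 0, 9, 0, 0, 9, 25, 0, 0, 9],
  [0, 0, 10, 0, 0, 7, 37, 0, 0, 7],
  [0, 1, 0, 10, 10, 5, 19, 10, 10, 5],
  [0, 1, 1, 6, 2, 6, 25, 9, 2, 3],
  [0, 1, 2, 1, 9, 10, 30, 6, 9, 4],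
  [0, 1, 3, 1, 8, 8, 27, 4, 8, 7],
  [0, 1, 4, 9, 1, 3, 4, 4, 1, 0],
  [0, 1, 5, 0, 5, 7, 8, 10, 5, 4],
  [0, 1, 6, 10, 5, 1, 18, 0, 5, 4],
  [0, 1, 7, 4, 1, 7, 14, 9, 1, 10],
  [0, 1, 8, 4, 8, 5, 27, 1, 8, 6],
  [0, 1, 9, 6, 9, 8, 20, 1, 9, 3],
  [0, 1, 10, 9, 2, 1, 5, 6, 2, 4],
  [0, 2, 0, 5, 5, 4, 35, 5, 5, 4],
  [0, 2, 1, 6, 4, 2, 3, 2, 4, 10],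
  [0, 2, 2, 5, 8, 3, 34, 0, 8, 1],
  [0, 2, 3, 3, 10, 2, 36, 6, 10, 9],
  [0, 2, 4, 3, 1, 7, 1, 10, 1, 9],
  [0, 2, 5, 10, 6, 9, 20, 2, 6, 0],
  [0, 2, 6, 2, 6, 10, 30, 10, 6, 8],
  [0, 2, 7, 10, 1, 3, 21, 3, 1, 1],
  [0, 2, 8, 6, 10, 8, 6, 3, 10, 1],
  [0, 2, 9, 0, 8, 10, 24, 5, 8, 1],
  [0, 2, 10, 2, 4, 4, 3, 6, 4, 7],
  [0, 3, 0, 7, 7, 3, 27, 7, 7, 3],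
  [0, 3, 1, 0, 9, 2, 16, 7, 9, 9],
  [0, 3, 2, 3, 8, 5, 13, 2, 8, 9],
  [0, 3, 3, 3, 4, 4, 12, 5, 4, 0],
  [0, 3, 4, 2, 3, 7, 28, 4, 3, 4],
  [0, 3, 5, 4, 10, 7, 35, 5, 10, 2],
  [0, 3, 6, 5, 10, 3, 35, 4, 10, 8],
  [0, 3, 7, 4, 3, 6, 38, 2, 3, 9],
  [0, 3, 8, 5, 4, 2, 22, 3, 4, 6],
  [0, 3, 9, 2, 8, 8, 33, 3, 8, 4],
  [0, 3, 10, 7, 9, 5, 26, 0, 9, 9],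
  [0, 4, 0, 8, 8, 1, 11, 8, 8, 1],
  [0, 4, 1, 7, 5, 6, 12, 3, 5, 5],
  [0, 4, 2, 1, 3, 8, 6, 5, 3, 2],
  [0, 4, 3, 0, 4, 8, 0, 8, 4, 3],
  [0, 4, 4, 3, 2, 6, 19, 1, 2, 8],
  [0, 4, 5, 7, 6, 10, 17, 5, 6, 5],
  [0, 4, 6, 5, 6, 9, 37, 7, 6, 3],
  [0, 4, 7, 1, 2, 1, 19, 3, 2, 10],
  [0, 4, 8, 8, 4, 9, 10, 0, 4, 3],
  [0, 4, 9, 5, 3, 5, 36, 1, 3, 0],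
  [0, 4, 10, 3, 5, 2, 22, 7, 5, 3],
  [0, 5, 0, 2, 2, 9, 3, 2, 2, 9],
  [0, 5, 1, 4, 9, 1, 28, 3, 9, 0],
  [0, 5, 2, 3, 6, 9, 11, 9, 6, 2],
  [0, 5, 3, 10, 7, 2, 9, 4, 7, 1],
  [0, 5, 4, 0, 1, 6, 32, 2, 1, 5],
  [0, 5, 5, 10, 4, 10, 4, 9, 4, 1],
  [0, 5, 6, 9, 4, 7, 14, 10, 4, 5],
  [0, 5, 7, 2, 1, 4, 2, 0, 1, 5],
  [0, 5, 8, 4, 7, 4, 29, 10, 7, 5],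
  [0, 5, 9, 9, 6, 10, 11, 3, 6, 6],
  [0, 5, 10, 3, 9, 6, 38, 4, 9, 7],
  [0, 6, 0, 9, 9, 9, 3, 9, 9, 9],
  [0, 6, 1, 7, 2, 1, 28, 8, 2, 0],
  [0, 6, 2, 8, 5, 9, 11, 2, 5, 2],
  [0, 6, 3, 1, 4, 2, 9, 7, 4, 1],
  [0, 6, 4, 0, 10, 6, 32, 9, 10, 5],
  [0, 6, 5, 1, 7, 10, 4, 2, 7, 1],
  [0, 6, 6, 2, 7, 7, 14, 1, 7, 5],
  [0, 6, 7, 9, 10, 4, 2, 0, 10, 5],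
  [0, 6, 8, 7, 4, 4, 29, 1, 4, 5],
  [0, 6, 9, 2, 5, 10, 11, 8, 5, 6],
  [0, 6, 10, 8, 2, 6, 38, 7, 2, 7],
  [0, 7, 0, 3, 3, 1, 11, 3, 3, 1],
  [0, 7, 1, 4, 6, 6, 12, 8, 6, 5],
  [0, 7, 2, 10, 8, 8, 6, 6, 8, 2],
  [0, 7, 3, 0, 7, 8, 0, 3, 7, 3],
  [0, 7, 4, 8, 9, 6, 19, 10, 9, 8],
  [0, 7, 5, 4, 5, 10, 17, 6, 5, 5],
  [0, 7, 6, 6, 5, 9, 37, 4, 5, 3],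
  [0, 7, 7, 10, 9, 1, 19, 8, 9, 10],
  [0, 7, 8, 3, 7, 9, 10, 0, 7, 3],
  [0, 7, 9, 6, 8, 5, 36, 10, 8, 0],
  [0, 7, 10, 8, 6, 2, 22, 4, 6, 3],
  [0, 8, 0, 4, 4, 3, 27, 4, 4, 3],
  [0, 8, 1, 0, 2, 2, 16, 4, 2, 9],
  [0, 8, 2, 8, 3, 5, 13, 9, 3, 9],
  [0, 8, 3, 8, 7, 4, 12, 6, 7, 0],
  [0, 8, 4, 9, 8, 7, 28, 7, 8, 4],
  [0, 8, 5, 7, 1, 7, 35, 6, 1, 2],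
  [0, 8, 6, 6, 1, 3, 35, 7, 1, 8],
  [0, 8, 7, 7, 8, 6, 38, 9, 8, 9],
  [0, 8, 8, 6, 7, 2, 22, 8, 7, 6],
  [0, 8, 9, 9, 3, 8, 33, 8, 3, 4],
  [0, 8, 10, 4, 2, 5, 26, 0, 2, 9],
  [0, 9, 0, 6, 6, 4, 35, 6, 6, 4],
  [0, 9, 1, 5, 7, 2, 3, 9, 7, 10],
  [0, 9, 2, 6, 3, 3, 34, 0, 3, 1],
  [0, 9, 3, 8, 1, 2, 36, 5, 1, 9],
  [0, 9, 4, 8, 10, 7, 1, 1, 10, 9],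
  [0, 9, 5, 1, 5, 9, 20, 9, 5, 0],
  [0, 9, 6, 9, 5, 10, 30, 1, 5, 8],
  [0, 9, 7, 1, 10, 3, 21, 8, 10, 1],
  [0, 9, 8, 5, 1, 8, 6, 8, 1, 1],
  [0, 9, 9, 0, 3, 10, 24, 6, 3, 1],
  [0, 9, 10, 9, 7, 4, 3, 5, 7, 7],
  [0, 10, 0, 1, 1, 5, 19, 1, 1, 5],
  [0, 10, 1, 5, 9, 6, 25, 2, 9, 3]]

theorem it0_chk : relL it0 = true := by decide +kernel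

def it1 : List (List ℕ) := [[0, 10, 2, 10, 2, 10, 30, 5, 2, 4],
  [0, 10, 3, 10, 3, 8, 27, 7, 3, 7],
  [0, 10, 4, 2, 10, 3, 4, 7, 10, 0],
  [0, 10, 5, 0, 6, 7, 8, 1, 6, 4],
  [0, 10, 6, 1, 6, 1, 18, 0, 6, 4],
  [0, 10, 7, 7, 10, 7, 14, 2, 10, 10],
  [0, 10, 8, 7, 3, 5, 27, 10, 3, 6],
  [0, 10, 9, 5, 2, 8, 20, 10, 2, 3],
  [0, 10, 10, 2, 9, 1, 5, 5, 9, 4],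
  [1, 0, 0, 0, 1, 0, 31, 0, 1, 0],
  [1, 0, 1, 5, 10, 4, 2, 6, 5, 3],
  [1, 0, 2, 6, 2, 9, 16, 5, 7, 3],
  [1, 0, 3, 1, 1, 2, 30, 10, 0, 8],
  [1, 0, 4, 8, 7, 3, 39, 3, 10, 5],
  [1, 0, 5, 8, 2, 1, 17, 3, 5, 7],
  [1, 0, 6, 3, 5, 0, 37, 8, 2, 5],
  [1, 0, 7, 3, 10, 9, 39, 8, 7, 7],
  [1, 0, 8, 10, 0, 3, 20, 1, 1, 8],
  [1, 0, 9, 5, 7, 6, 26, 6, 2, 1],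
  [1, 0, 10, 6, 5, 0, 32, 5, 10, 1],
  [1, 1, 0, 4, 9, 6, 37, 4, 6, 1],
  [1, 1, 1, 5, 4, 3, 39, 5, 1, 5],
  [1, 1, 2, 10, 10, 8, 20, 10, 0, 3],
  [1, 1, 3, 2, 9, 9, 26, 2, 4, 3],
  [1, 1, 4, 7, 1, 6, 32, 7, 6, 5],
  [1, 1, 5, 9, 10, 10, 31, 9, 10, 10],
  [1, 1, 6, 7, 6, 8, 2, 7, 1, 9],
  [1, 1, 7, 2, 4, 0, 16, 2, 9, 6],
  [1, 1, 8, 10, 0, 8, 30, 10, 10, 2],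
  [1, 1, 9, 5, 1, 1, 39, 5, 4, 10],
  [1, 1, 10, 4, 6, 8, 17, 4, 9, 2],
  [1, 2, 0, 2, 0, 8, 18, 4, 10, 10],
  [1, 2, 1, 8, 4, 2, 31, 7, 10, 5],
  [1, 2, 2, 0, 2, 4, 9, 1, 7, 6],
  [1, 2, 3, 6, 2, 0, 22, 2, 4, 2],
  [1, 2, 4, 4, 7, 5, 34, 6, 6, 1],
  [1, 2, 5, 6, 6, 7, 24, 4, 7, 0],
  [1, 2, 6, 2, 4, 1, 12, 6, 2, 10],
  [1, 2, 7, 1, 7, 9, 29, 0, 2, 7],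
  [1, 2, 8, 7, 10, 2, 31, 8, 4, 10],
  [1, 2, 9, 4, 10, 5, 8, 2, 0, 3],
  [1, 2, 10, 8, 6, 9, 23, 8, 6, 9],
  [1, 3, 0, 9, 1, 10, 14, 8, 4, 4],
  [1, 3, 1, 5, 0, 10, 27, 10, 7, 8],
  [1, 3, 2, 10, 2, 3, 20, 0, 10, 2],
  [1, 3, 3, 9, 7, 6, 5, 3, 3, 0],
  [1, 3, 4, 8, 3, 10, 19, 8, 3, 10],
  [1, 3, 5, 3, 3, 2, 25, 9, 7, 8],
  [1, 3, 6, 0, 10, 9, 30, 10, 2, 10],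
  [1, 3, 7, 10, 7, 10, 27, 5, 0, 1],
  [1, 3, 8, 8, 4, 8, 4, 9, 1, 3],
  [1, 3, 9, 5, 4, 8, 8, 3, 10, 3],
  [1, 3, 10, 3, 10, 0, 18, 5, 4, 5],
  [1, 4, 0, 7, 6, 2, 4, 5, 10, 9],
  [1, 4, 1, 8, 9, 3, 26, 7, 0, 6],
  [1, 4, 2, 1, 6, 0, 1, 6, 7, 4],
  [1, 4, 3, 5, 5, 10, 10, 4, 7, 3],
  [1, 4, 4, 4, 7, 2, 0, 5, 5, 9],
  [1, 4, 5, 6, 7, 9, 21, 1, 6, 5],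
  [1, 4, 6, 7, 0, 5, 16, 8, 9, 2],
  [1, 4, 7, 5, 10, 7, 14, 7, 6, 0],
  [1, 4, 8, 0, 10, 8, 23, 6, 9, 3],
  [1, 4, 9, 1, 5, 3, 15, 1, 5, 3],
  [1, 4, 10, 6, 9, 9, 23, 0, 10, 3],
  [1, 5, 0, 6, 7, 6, 6, 0, 5, 5],
  [1, 5, 1, 4, 9, 3, 24, 3, 5, 8],
  [1, 5, 2, 6, 4, 7, 3, 3, 3, 9],
  [1, 5, 3, 7, 3, 6, 35, 7, 3, 6],
  [1, 5, 4, 3, 3, 4, 3, 6, 4, 2],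
  [1, 5, 5, 3, 5, 10, 34, 4, 9, 5],
  [1, 5, 6, 0, 5, 6, 36, 6, 7, 7],
  [1, 5, 7, 1, 10, 9, 1, 4, 0, 3],
  [1, 5, 8, 1, 7, 8, 20, 7, 9, 2],
  [1, 5, 9, 7, 9, 1, 30, 1, 7, 7],
  [1, 5, 10, 4, 0, 8, 21, 1, 10, 3],
  [1, 6, 0, 7, 3, 10, 9, 1, 8, 0],
  [1, 6, 1, 9, 10, 5, 32, 0, 1, 6],
  [1, 6, 2, 2, 6, 2, 4, 1, 5, 0],
  [1, 6, 3, 1, 5, 6, 14, 2, 6, 8],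
  [1, 6, 4, 0, 1, 5, 2, 9, 10, 4],
  [1, 6, 5, 1, 8, 3, 29, 7, 3, 2],
  [1, 6, 6, 8, 3, 3, 11, 2, 8, 7],
  [1, 6, 7, 7, 5, 2, 38, 8, 6, 1],
  [1, 6, 8, 9, 0, 0, 3, 9, 0, 0],
  [1, 6, 9, 8, 6, 6, 28, 7, 5, 7],
  [1, 6, 10, 2, 8, 10, 11, 8, 3, 6],
  [1, 7, 0, 4, 6, 9, 24, 8, 2, 2],
  [1, 7, 1, 8, 8, 9, 3, 9, 7, 4],
  [1, 7, 2, 1, 8, 7, 35, 1, 8, 7],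
  [1, 7, 3, 9, 7, 10, 3, 8, 8, 4],
  [1, 7, 4, 8, 2, 4, 34, 4, 6, 0],
  [1, 7, 5, 3, 4, 0, 36, 1, 6, 3],
  [1, 7, 6, 4, 0, 3, 1, 3, 1, 7],
  [1, 7, 7, 0, 2, 6, 20, 9, 4, 10],
  [1, 7, 8, 9, 4, 9, 30, 0, 2, 5],
  [1, 7, 9, 3, 1, 1, 21, 4, 0, 8],
  [1, 7, 10, 1, 6, 2, 6, 3, 4, 10],
  [1, 8, 0, 3, 4, 8, 1, 0, 5, 3],
  [1, 8, 1, 1, 4, 4, 10, 6, 6, 10],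
  [1, 8, 2, 6, 6, 9, 0, 1, 4, 3],
  [1, 8, 3, 0, 5, 8, 21, 3, 4, 2],
  [1, 8, 4, 1, 2, 4, 16, 7, 0, 5],
  [1, 8, 5, 6, 5, 6, 14, 7, 1, 1],
  [1, 8, 6, 10, 2, 9, 23, 2, 1, 7],
  [1, 8, 7, 2, 6, 5, 15, 2, 6, 5],
  [1, 8, 8, 2, 1, 2, 23, 10, 2, 4],
  [1, 8, 9, 7, 1, 3, 4, 6, 5, 8],
  [1, 8, 10, 7, 0, 6, 26, 1, 2, 5],
  [1, 9, 0, 8, 8, 0, 5, 6, 4, 9],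
  [1, 9, 1, 2, 8, 3, 19, 2, 8, 3],
  [1, 9, 2, 6, 4, 0, 25, 8, 8, 2]]

theorem it1_chk : relL it1 = true := by decide +kernel

def it2 : List (List ℕ) := [[1, 9, 3, 6, 9, 4, 30, 2, 1, 8],
  [1, 9, 4, 5, 0, 1, 27, 7, 4, 9],
  [1, 9, 5, 7, 10, 0, 4, 0, 7, 2],
  [1, 9, 6, 5, 1, 10, 8, 8, 7, 1],
  [1, 9, 7, 8, 7, 9, 18, 5, 1, 7],
  [1, 9, 8, 0, 7, 9, 14, 7, 10, 7],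
  [1, 9, 9, 7, 4, 7, 27, 5, 0, 10],
  [1, 9, 10, 2, 1, 1, 20, 6, 9, 8],
  [1, 10, 0, 5, 5, 1, 34, 1, 4, 6],
  [1, 10, 1, 1, 4, 1, 24, 5, 5, 7],
  [1, 10, 2, 2, 9, 7, 12, 5, 7, 4],
  [1, 10, 3, 7, 9, 3, 29, 9, 4, 0],
  [1, 10, 4, 0, 7, 4, 31, 9, 1, 5],
  [1, 10, 5, 2, 0, 3, 8, 6, 1, 0],
  [1, 10, 6, 7, 5, 10, 23, 7, 5, 10],
  [1, 10, 7, 6, 1, 5, 18, 2, 0, 8],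
  [1, 10, 8, 9, 1, 8, 31, 0, 7, 7],
  [1, 10, 9, 9, 4, 8, 9, 7, 9, 0],
  [1, 10, 10, 5, 7, 5, 22, 2, 9, 8],
  [2, 0, 0, 0, 6, 0, 7, 0, 6, 0],
  [2, 0, 1, 6, 6, 6, 6, 5, 0, 2],
  [2, 0, 2, 7, 8, 0, 13, 4, 1, 4],
  [2, 0, 3, 8, 9, 7, 2, 3, 1, 3],
  [2, 0, 4, 8, 5, 1, 18, 3, 8, 9],
  [2, 0, 5, 4, 9, 9, 15, 7, 5, 4],
  [2, 0, 6, 7, 5, 5, 15, 4, 9, 10],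
  [2, 0, 7, 3, 8, 0, 8, 8, 5, 3],
  [2, 0, 8, 3, 1, 5, 32, 8, 9, 9],
  [2, 0, 9, 4, 1, 3, 33, 7, 8, 10],
  [2, 0, 10, 5, 0, 9, 36, 6, 6, 2],
  [2, 1, 0, 9, 7, 8, 25, 6, 4, 0],
  [2, 1, 1, 6, 8, 7, 30, 1, 3, 2],
  [2, 1, 2, 4, 7, 9, 27, 1, 4, 10],
  [2, 1, 3, 4, 3, 7, 4, 9, 8, 10],
  [2, 1, 4, 10, 5, 4, 8, 0, 6, 7],
  [2, 1, 5, 0, 6, 4, 18, 10, 5, 1],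
  [2, 1, 6, 9, 8, 6, 14, 4, 3, 3],
  [2, 1, 7, 1, 4, 8, 27, 4, 7, 7],
  [2, 1, 8, 1, 3, 6, 20, 6, 8, 0],
  [2, 1, 9, 6, 4, 9, 5, 9, 7, 6],
  [2, 1, 10, 10, 0, 0, 19, 10, 0, 0],
  [2, 2, 0, 2, 10, 7, 13, 2, 3, 3],
  [2, 2, 1, 1, 10, 5, 2, 1, 2, 9],
  [2, 2, 2, 9, 3, 2, 18, 9, 6, 5],
  [2, 2, 3, 8, 6, 3, 15, 8, 2, 8],
  [2, 2, 4, 8, 2, 9, 15, 8, 6, 4],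
  [2, 2, 5, 9, 6, 7, 8, 9, 3, 4],
  [2, 2, 6, 1, 2, 0, 32, 1, 10, 7],
  [2, 2, 7, 2, 3, 2, 33, 2, 10, 6],
  [2, 2, 8, 5, 5, 2, 36, 5, 0, 9],
  [2, 2, 9, 10, 5, 8, 7, 10, 5, 8],
  [2, 2, 10, 5, 0, 2, 6, 5, 5, 6],
  [2, 3, 0, 2, 3, 5, 0, 4, 1, 6],
  [2, 3, 1, 10, 9, 8, 19, 4, 4, 1],
  [2, 3, 2, 2, 0, 9, 17, 7, 6, 10],
  [2, 3, 3, 7, 6, 3, 37, 2, 0, 2],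
  [2, 3, 4, 4, 4, 5, 19, 10, 9, 1],
  [2, 3, 5, 4, 1, 1, 10, 2, 3, 0],
  [2, 3, 6, 0, 1, 7, 36, 10, 2, 8],
  [2, 3, 7, 6, 3, 6, 22, 7, 2, 8],
  [2, 3, 8, 6, 4, 10, 11, 6, 4, 10],
  [2, 3, 9, 7, 2, 0, 12, 6, 3, 9],
  [2, 3, 10, 10, 2, 5, 6, 0, 1, 4],
  [2, 4, 0, 1, 0, 2, 34, 2, 5, 8],
  [2, 4, 1, 3, 1, 0, 38, 1, 2, 6],
  [2, 4, 2, 1, 2, 3, 28, 3, 1, 8],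
  [2, 4, 3, 2, 5, 4, 24, 1, 0, 9],
  [2, 4, 4, 4, 2, 6, 7, 9, 5, 4],
  [2, 4, 5, 2, 9, 4, 10, 3, 3, 3],
  [2, 4, 6, 6, 9, 5, 5, 0, 1, 10],
  [2, 4, 7, 4, 3, 5, 39, 4, 3, 5],
  [2, 4, 8, 0, 1, 1, 25, 6, 9, 7],
  [2, 4, 9, 3, 3, 10, 0, 2, 9, 0],
  [2, 4, 10, 9, 5, 6, 7, 4, 2, 8],
  [2, 5, 0, 7, 2, 2, 17, 0, 8, 9],
  [2, 5, 1, 0, 8, 2, 37, 7, 2, 6],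
  [2, 5, 2, 5, 1, 5, 39, 1, 6, 10],
  [2, 5, 3, 9, 6, 9, 20, 3, 8, 2],
  [2, 5, 4, 6, 2, 1, 26, 3, 3, 8],
  [2, 5, 5, 6, 1, 1, 32, 9, 0, 4],
  [2, 5, 6, 1, 3, 4, 31, 1, 3, 4],
  [2, 5, 7, 9, 0, 7, 2, 6, 1, 4],
  [2, 5, 8, 3, 3, 5, 16, 6, 2, 9],
  [2, 5, 9, 3, 8, 7, 30, 9, 6, 3],
  [2, 5, 10, 1, 6, 6, 39, 5, 1, 1],
  [2, 6, 0, 10, 6, 8, 30, 4, 2, 1],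
  [2, 6, 1, 10, 9, 7, 21, 7, 7, 0],
  [2, 6, 2, 0, 5, 5, 6, 5, 1, 8],
  [2, 6, 3, 8, 2, 2, 24, 7, 5, 9],
  [2, 6, 4, 8, 0, 8, 3, 5, 9, 2],
  [2, 6, 5, 4, 7, 8, 35, 4, 7, 8],
  [2, 6, 6, 5, 9, 8, 3, 8, 0, 3],
  [2, 6, 7, 7, 5, 0, 34, 8, 2, 4],
  [2, 6, 8, 5, 1, 9, 36, 0, 5, 6],
  [2, 6, 9, 7, 7, 6, 1, 10, 9, 2],
  [2, 6, 10, 4, 2, 2, 20, 10, 6, 9],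
  [2, 7, 0, 4, 4, 0, 21, 3, 2, 5],
  [2, 7, 1, 3, 10, 1, 6, 1, 6, 2],
  [2, 7, 2, 8, 6, 8, 24, 4, 9, 3],
  [2, 7, 3, 9, 2, 10, 3, 8, 0, 8],
  [2, 7, 4, 1, 4, 9, 35, 1, 4, 9],
  [2, 7, 5, 8, 0, 3, 3, 9, 2, 5],
  [2, 7, 6, 4, 9, 5, 34, 8, 6, 10],
  [2, 7, 7, 1, 6, 3, 36, 3, 10, 2],
  [2, 7, 8, 3, 2, 0, 1, 4, 4, 6],
  [2, 7, 9, 9, 5, 0, 20, 0, 9, 6],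
  [2, 7, 10, 0, 9, 5, 30, 9, 5, 10],
  [2, 8, 0, 9, 3, 6, 20, 8, 5, 5],
  [2, 8, 1, 8, 8, 8, 26, 2, 9, 9],
  [2, 8, 2, 9, 0, 4, 32, 4, 10, 6],
  [2, 8, 3, 6, 8, 9, 31, 6, 8, 9]]

theorem it2_chk : relL it2 = true := by decide +kernel

def it3 : List (List ℕ) := [[2, 8, 4, 4, 10, 9, 2, 9, 0, 7],
  [2, 8, 5, 2, 9, 6, 16, 8, 8, 5],
  [2, 8, 6, 8, 5, 10, 30, 9, 3, 0],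
  [2, 8, 7, 3, 10, 5, 39, 0, 5, 9],
  [2, 8, 8, 6, 3, 0, 17, 3, 9, 1],
  [2, 8, 9, 3, 9, 5, 37, 6, 3, 4],
  [2, 8, 10, 0, 5, 2, 39, 3, 10, 9],
  [2, 9, 0, 8, 8, 3, 10, 6, 2, 7],
  [2, 9, 1, 9, 10, 9, 5, 10, 2, 0],
  [2, 9, 2, 9, 8, 8, 39, 9, 8, 8],
  [2, 9, 3, 10, 2, 2, 25, 9, 10, 0],
  [2, 9, 4, 6, 2, 3, 0, 8, 8, 10],
  [2, 9, 5, 0, 9, 1, 7, 10, 6, 4],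
  [2, 9, 6, 3, 6, 4, 34, 1, 0, 2],
  [2, 9, 7, 8, 9, 4, 38, 1, 10, 2],
  [2, 9, 8, 1, 10, 10, 28, 8, 9, 1],
  [2, 9, 9, 1, 0, 9, 24, 3, 6, 0],
  [2, 9, 10, 10, 6, 2, 7, 0, 9, 10],
  [2, 10, 0, 3, 9, 7, 22, 0, 8, 4],
  [2, 10, 1, 9, 7, 7, 11, 9, 7, 7],
  [2, 10, 2, 0, 8, 7, 12, 3, 9, 10],
  [2, 10, 3, 9, 10, 3, 6, 6, 9, 10],
  [2, 10, 4, 2, 10, 9, 0, 7, 8, 2],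
  [2, 10, 5, 7, 7, 1, 19, 3, 2, 6],
  [2, 10, 6, 6, 5, 5, 17, 2, 0, 9],
  [2, 10, 7, 2, 0, 2, 37, 6, 5, 9],
  [2, 10, 8, 3, 2, 10, 19, 7, 7, 5],
  [2, 10, 9, 7, 8, 8, 10, 2, 10, 4],
  [2, 10, 10, 6, 9, 2, 36, 9, 10, 6],
  [3, 0, 0, 0, 4, 0, 39, 0, 4, 0],
  [3, 0, 1, 10, 8, 5, 25, 1, 9, 2],
  [3, 0, 2, 2, 9, 0, 0, 9, 7, 5],
  [3, 0, 3, 10, 6, 4, 7, 1, 7, 3],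
  [3, 0, 4, 9, 6, 8, 34, 2, 8, 5],
  [3, 0, 5, 4, 4, 10, 38, 7, 0, 7],
  [3, 0, 6, 7, 0, 4, 28, 4, 4, 7],
  [3, 0, 7, 2, 8, 1, 24, 9, 6, 4],
  [3, 0, 8, 1, 7, 1, 7, 10, 6, 2],
  [3, 0, 9, 9, 7, 9, 10, 2, 9, 4],
  [3, 0, 10, 1, 9, 0, 5, 10, 8, 3],
  [3, 1, 0, 6, 2, 10, 12, 9, 7, 1],
  [3, 1, 1, 2, 6, 1, 29, 4, 2, 3],
  [3, 1, 2, 2, 3, 1, 31, 0, 7, 4],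
  [3, 1, 3, 5, 6, 10, 8, 9, 9, 1],
  [3, 1, 4, 4, 9, 4, 23, 4, 9, 4],
  [3, 1, 5, 9, 9, 6, 18, 5, 6, 4],
  [3, 1, 6, 0, 7, 7, 31, 2, 3, 4],
  [3, 1, 7, 4, 2, 0, 9, 2, 6, 9],
  [3, 1, 8, 9, 7, 2, 22, 6, 2, 0],
  [3, 1, 9, 10, 3, 4, 34, 6, 0, 8],
  [3, 1, 10, 6, 0, 3, 24, 10, 3, 10],
  [3, 2, 0, 1, 5, 7, 9, 0, 9, 4],
  [3, 2, 1, 2, 9, 8, 22, 6, 4, 5],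
  [3, 2, 2, 6, 0, 8, 34, 4, 8, 3],
  [3, 2, 3, 4, 8, 9, 24, 6, 0, 3],
  [3, 2, 4, 6, 4, 4, 12, 2, 9, 7],
  [3, 2, 5, 0, 9, 7, 29, 1, 5, 10],
  [3, 2, 6, 8, 4, 10, 31, 7, 8, 9],
  [3, 2, 7, 2, 2, 1, 8, 4, 5, 4],
  [3, 2, 8, 8, 2, 3, 23, 8, 2, 3],
  [3, 2, 9, 4, 5, 9, 18, 2, 2, 6],
  [3, 2, 10, 7, 8, 1, 31, 8, 4, 2],
  [3, 3, 0, 5, 3, 8, 5, 5, 2, 5],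
  [3, 3, 1, 3, 7, 6, 39, 3, 7, 6],
  [3, 3, 2, 5, 2, 7, 25, 5, 3, 10],
  [3, 3, 3, 6, 4, 8, 0, 6, 2, 3],
  [3, 3, 4, 9, 4, 5, 7, 9, 5, 6],
  [3, 3, 5, 8, 3, 1, 34, 8, 5, 4],
  [3, 3, 6, 7, 0, 7, 38, 7, 7, 10],
  [3, 3, 7, 7, 7, 7, 28, 7, 0, 4],
  [3, 3, 8, 8, 5, 0, 24, 8, 3, 8],
  [3, 3, 9, 9, 5, 4, 7, 9, 4, 3],
  [3, 3, 10, 6, 2, 7, 10, 6, 4, 1],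
  [3, 4, 0, 2, 6, 8, 14, 0, 9, 3],
  [3, 4, 1, 1, 9, 6, 2, 5, 3, 3],
  [3, 4, 2, 5, 0, 7, 29, 4, 7, 4],
  [3, 4, 3, 1, 1, 9, 11, 2, 5, 10],
  [3, 4, 4, 6, 3, 5, 38, 4, 6, 2],
  [3, 4, 5, 6, 1, 8, 3, 6, 1, 8],
  [3, 4, 6, 4, 6, 7, 28, 6, 3, 10],
  [3, 4, 7, 2, 5, 2, 11, 1, 1, 1],
  [3, 4, 8, 4, 7, 1, 9, 5, 0, 4],
  [3, 4, 9, 5, 3, 4, 32, 1, 9, 7],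
  [3, 4, 10, 0, 9, 8, 4, 2, 6, 2],
  [3, 5, 0, 10, 10, 0, 13, 2, 5, 1],
  [3, 5, 1, 6, 7, 0, 12, 0, 6, 10],
  [3, 5, 2, 8, 4, 5, 28, 2, 3, 7],
  [3, 5, 3, 9, 0, 5, 35, 6, 5, 1],
  [3, 5, 4, 6, 5, 2, 35, 9, 0, 6],
  [3, 5, 5, 2, 3, 9, 38, 8, 4, 7],
  [3, 5, 6, 0, 6, 1, 22, 6, 7, 2],
  [3, 5, 7, 2, 5, 0, 33, 10, 10, 10],
  [3, 5, 8, 10, 6, 1, 26, 9, 4, 2],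
  [3, 5, 9, 8, 10, 4, 27, 8, 10, 4],
  [3, 5, 10, 9, 4, 6, 16, 10, 6, 5],
  [3, 6, 0, 8, 0, 7, 26, 5, 7, 6],
  [3, 6, 1, 2, 2, 2, 32, 5, 6, 0],
  [3, 6, 2, 10, 2, 1, 31, 10, 2, 1],
  [3, 6, 3, 5, 6, 3, 2, 2, 2, 5],
  [3, 6, 4, 5, 7, 3, 16, 8, 0, 4],
  [3, 6, 5, 2, 8, 0, 30, 8, 5, 10],
  [3, 6, 6, 6, 7, 10, 39, 10, 5, 6],
  [3, 6, 7, 0, 8, 9, 17, 4, 6, 8],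
  [3, 6, 8, 4, 6, 1, 37, 0, 8, 2],
  [3, 6, 9, 10, 5, 10, 39, 6, 7, 3],
  [3, 6, 10, 8, 5, 5, 20, 2, 8, 6],
  [3, 7, 0, 6, 1, 6, 17, 4, 10, 0],
  [3, 7, 1, 4, 10, 4, 37, 6, 1, 10],
  [3, 7, 2, 8, 10, 6, 19, 10, 1, 8],
  [3, 7, 3, 0, 4, 3, 10, 3, 7, 9],
  [3, 7, 4, 10, 2, 8, 36, 6, 9, 2]]

theorem it3_chk : relL it3 = true := by decide +kernel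

def it4 : List (List ℕ) := [[3, 7, 5, 4, 9, 8, 22, 8, 2, 7],
  [3, 7, 6, 3, 0, 0, 11, 3, 0, 0],
  [3, 7, 7, 8, 2, 10, 12, 4, 9, 0],
  [3, 7, 8, 6, 9, 10, 6, 10, 2, 5],
  [3, 7, 9, 3, 7, 3, 0, 0, 4, 8],
  [3, 7, 10, 10, 1, 4, 19, 8, 10, 2],
  [3, 8, 0, 9, 9, 5, 2, 4, 5, 8],
  [3, 8, 1, 8, 0, 4, 16, 2, 4, 0],
  [3, 8, 2, 9, 6, 3, 30, 8, 3, 7],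
  [3, 8, 3, 0, 6, 9, 39, 3, 4, 3],
  [3, 8, 4, 3, 5, 7, 17, 6, 3, 0],
  [3, 8, 5, 6, 3, 4, 37, 3, 5, 0],
  [3, 8, 6, 3, 4, 7, 39, 0, 6, 2],
  [3, 8, 7, 8, 3, 2, 20, 9, 6, 9],
  [3, 8, 8, 2, 4, 3, 26, 8, 0, 7],
  [3, 8, 9, 4, 5, 5, 32, 9, 9, 2],
  [3, 8, 10, 6, 9, 6, 31, 6, 9, 6],
  [3, 9, 0, 3, 4, 6, 22, 10, 5, 9],
  [3, 9, 1, 1, 1, 10, 33, 3, 6, 7],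
  [3, 9, 2, 1, 7, 0, 26, 9, 5, 3],
  [3, 9, 3, 10, 1, 6, 27, 10, 1, 6],
  [3, 9, 4, 9, 5, 7, 16, 1, 7, 4],
  [3, 9, 5, 3, 6, 8, 13, 1, 1, 0],
  [3, 9, 6, 10, 5, 7, 12, 3, 4, 4],
  [3, 9, 7, 7, 8, 4, 28, 0, 7, 10],
  [3, 9, 8, 7, 6, 6, 35, 9, 0, 5],
  [3, 9, 9, 9, 0, 6, 35, 7, 6, 7],
  [3, 9, 10, 0, 7, 1, 38, 7, 8, 6],
  [3, 10, 0, 5, 2, 1, 32, 10, 8, 10],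
  [3, 10, 1, 1, 5, 0, 4, 4, 2, 4],
  [3, 10, 2, 4, 2, 10, 14, 1, 5, 6],
  [3, 10, 3, 10, 8, 9, 2, 5, 2, 0],
  [3, 10, 4, 1, 4, 5, 29, 5, 0, 7],
  [3, 10, 5, 3, 6, 6, 11, 10, 10, 9],
  [3, 10, 6, 3, 5, 1, 38, 0, 8, 3],
  [3, 10, 7, 4, 10, 2, 3, 4, 10, 2],
  [3, 10, 8, 0, 8, 8, 28, 3, 5, 6],
  [3, 10, 9, 10, 10, 1, 11, 3, 6, 9],
  [3, 10, 10, 5, 0, 4, 9, 1, 4, 2],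
  [4, 0, 0, 0, 3, 0, 23, 0, 3, 0],
  [4, 0, 1, 4, 10, 10, 18, 7, 6, 9],
  [4, 0, 2, 9, 8, 4, 31, 2, 10, 8],
  [4, 0, 3, 2, 6, 9, 9, 9, 4, 8],
  [4, 0, 4, 3, 3, 7, 22, 8, 0, 6],
  [4, 0, 5, 4, 8, 3, 34, 7, 4, 5],
  [4, 0, 6, 7, 4, 0, 24, 4, 8, 9],
  [4, 0, 7, 8, 0, 5, 12, 3, 3, 6],
  [4, 0, 8, 9, 4, 0, 29, 2, 6, 1],
  [4, 0, 9, 2, 10, 5, 31, 9, 8, 1],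
  [4, 0, 10, 7, 6, 4, 8, 4, 10, 5],
  [4, 1, 0, 5, 3, 2, 6, 2, 1, 3],
  [4, 1, 1, 4, 1, 6, 0, 9, 8, 5],
  [4, 1, 2, 8, 10, 2, 19, 4, 0, 9],
  [4, 1, 3, 9, 9, 7, 17, 5, 10, 6],
  [4, 1, 4, 5, 10, 10, 37, 9, 9, 0],
  [4, 1, 5, 4, 0, 2, 19, 8, 10, 6],
  [4, 1, 6, 9, 8, 0, 10, 4, 1, 1],
  [4, 1, 7, 2, 1, 6, 36, 5, 3, 5],
  [4, 1, 8, 0, 8, 4, 22, 8, 6, 2],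
  [4, 1, 9, 2, 9, 2, 11, 2, 9, 2],
  [4, 1, 10, 8, 6, 5, 12, 0, 8, 7],
  [4, 2, 0, 10, 9, 2, 1, 3, 2, 0],
  [4, 2, 1, 2, 7, 10, 20, 10, 4, 8],
  [4, 2, 2, 10, 4, 7, 30, 2, 7, 9],
  [4, 2, 3, 3, 2, 5, 21, 10, 9, 7],
  [4, 2, 4, 3, 4, 10, 6, 6, 7, 6],
  [4, 2, 5, 5, 8, 1, 24, 0, 3, 10],
  [4, 2, 6, 6, 2, 2, 3, 2, 9, 10],
  [4, 2, 7, 5, 0, 0, 35, 5, 0, 0],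
  [4, 2, 8, 2, 9, 5, 3, 6, 2, 8],
  [4, 2, 9, 0, 3, 1, 34, 5, 8, 3],
  [4, 2, 10, 6, 7, 7, 36, 3, 4, 0],
  [4, 3, 0, 2, 2, 0, 37, 7, 1, 4],
  [4, 3, 1, 10, 1, 8, 19, 4, 0, 2],
  [4, 3, 2, 2, 10, 4, 10, 4, 3, 8],
  [4, 3, 3, 10, 8, 0, 36, 0, 10, 7],
  [4, 3, 4, 7, 5, 3, 22, 6, 3, 6],
  [4, 3, 5, 6, 2, 5, 11, 6, 2, 5],
  [4, 3, 6, 6, 3, 9, 12, 7, 5, 6],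
  [4, 3, 7, 0, 10, 4, 6, 10, 8, 8],
  [4, 3, 8, 4, 3, 2, 0, 2, 10, 9],
  [4, 3, 9, 4, 0, 9, 19, 10, 1, 4],
  [4, 3, 10, 7, 1, 0, 17, 2, 2, 7],
  [4, 4, 0, 1, 5, 10, 29, 1, 7, 9],
  [4, 4, 1, 4, 3, 9, 31, 4, 1, 2],
  [4, 4, 2, 6, 1, 0, 8, 6, 5, 10],
  [4, 4, 3, 5, 8, 2, 23, 5, 8, 2],
  [4, 4, 4, 6, 5, 4, 18, 6, 1, 5],
  [4, 4, 5, 4, 1, 5, 31, 4, 3, 1],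
  [4, 4, 6, 1, 7, 6, 9, 1, 5, 7],
  [4, 4, 7, 8, 0, 6, 22, 8, 8, 7],
  [4, 4, 8, 10, 7, 6, 34, 10, 3, 4],
  [4, 4, 9, 10, 3, 10, 24, 10, 7, 1],
  [4, 4, 10, 8, 8, 6, 12, 8, 0, 5],
  [4, 5, 0, 10, 7, 7, 36, 4, 8, 4],
  [4, 5, 1, 3, 4, 5, 7, 3, 4, 5],
  [4, 5, 2, 4, 8, 8, 6, 10, 7, 0],
  [4, 5, 3, 7, 10, 4, 13, 3, 7, 1],
  [4, 5, 4, 4, 4, 2, 2, 1, 10, 5],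
  [4, 5, 5, 2, 5, 5, 18, 10, 0, 10],
  [4, 5, 6, 7, 5, 4, 15, 0, 8, 5],
  [4, 5, 7, 0, 8, 6, 15, 7, 5, 5],
  [4, 5, 8, 10, 0, 1, 8, 2, 5, 7],
  [4, 5, 9, 1, 10, 7, 32, 4, 4, 4],
  [4, 5, 10, 3, 7, 0, 33, 7, 10, 3],
  [4, 6, 0, 1, 7, 4, 16, 2, 6, 7],
  [4, 6, 1, 9, 3, 9, 13, 1, 0, 6],
  [4, 6, 2, 0, 6, 10, 12, 5, 1, 2],
  [4, 6, 3, 9, 1, 0, 28, 3, 7, 5],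
  [4, 6, 4, 5, 10, 2, 35, 2, 2, 3],
  [4, 6, 5, 2, 2, 4, 35, 5, 10, 3]]

theorem it4_chk : relL it4 = true := by decide +kernel

def it5 : List (List ℕ) := [[4, 6, 6, 3, 7, 7, 38, 9, 1, 2],
  [4, 6, 7, 5, 1, 4, 22, 0, 6, 1],
  [4, 6, 8, 1, 0, 5, 33, 9, 3, 8],
  [4, 6, 9, 2, 6, 3, 26, 1, 7, 0],
  [4, 6, 10, 3, 2, 8, 27, 3, 2, 8],
  [4, 7, 0, 4, 4, 9, 26, 3, 1, 10],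
  [4, 7, 1, 5, 1, 6, 1, 10, 5, 0],
  [4, 7, 2, 7, 3, 1, 10, 6, 0, 6],
  [4, 7, 3, 6, 0, 5, 0, 7, 3, 0],
  [4, 7, 4, 10, 5, 5, 21, 5, 1, 0],
  [4, 7, 5, 3, 1, 9, 16, 4, 4, 8],
  [4, 7, 6, 4, 10, 1, 14, 6, 5, 6],
  [4, 7, 7, 5, 3, 6, 23, 0, 10, 8],
  [4, 7, 8, 10, 4, 2, 15, 10, 4, 2],
  [4, 7, 9, 0, 10, 3, 23, 5, 3, 1],
  [4, 7, 10, 6, 5, 8, 4, 4, 10, 3],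
  [4, 8, 0, 6, 0, 6, 10, 1, 8, 2],
  [4, 8, 1, 1, 8, 1, 0, 6, 0, 5],
  [4, 8, 2, 3, 10, 4, 21, 0, 6, 8],
  [4, 8, 3, 7, 7, 8, 16, 1, 10, 0],
  [4, 8, 4, 7, 6, 0, 14, 6, 1, 7],
  [4, 8, 5, 2, 1, 7, 23, 10, 8, 1],
  [4, 8, 6, 2, 7, 4, 15, 2, 7, 4],
  [4, 8, 7, 10, 8, 7, 23, 2, 1, 2],
  [4, 8, 8, 6, 1, 9, 4, 7, 6, 2],
  [4, 8, 9, 1, 10, 1, 26, 7, 7, 9],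
  [4, 8, 10, 0, 6, 3, 1, 3, 10, 10],
  [4, 9, 0, 7, 10, 10, 38, 0, 4, 1],
  [4, 9, 1, 10, 5, 9, 22, 3, 10, 8],
  [4, 9, 2, 3, 8, 4, 33, 1, 0, 5],
  [4, 9, 3, 9, 4, 2, 26, 1, 5, 1],
  [4, 9, 4, 10, 9, 10, 27, 10, 9, 10],
  [4, 9, 5, 1, 5, 5, 16, 9, 4, 6],
  [4, 9, 6, 1, 0, 6, 13, 3, 8, 5],
  [4, 9, 7, 3, 10, 6, 12, 10, 5, 7],
  [4, 9, 8, 0, 4, 10, 28, 7, 10, 8],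
  [4, 9, 9, 9, 9, 3, 35, 7, 1, 7],
  [4, 9, 10, 7, 1, 8, 35, 9, 9, 4],
  [4, 10, 0, 9, 1, 6, 33, 0, 4, 5],
  [4, 10, 1, 10, 3, 5, 36, 7, 4, 6],
  [4, 10, 2, 6, 7, 1, 7, 6, 7, 1],
  [4, 10, 3, 7, 4, 10, 6, 10, 3, 9],
  [4, 10, 4, 0, 4, 6, 13, 9, 1, 7],
  [4, 10, 5, 3, 1, 3, 2, 7, 7, 2],
  [4, 10, 6, 10, 0, 10, 18, 3, 6, 1],
  [4, 10, 7, 6, 3, 7, 15, 8, 6, 3],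
  [4, 10, 8, 8, 6, 4, 15, 6, 3, 8],
  [4, 10, 9, 3, 6, 3, 8, 10, 0, 1],
  [4, 10, 10, 7, 7, 4, 32, 3, 1, 5],
  [5, 0, 0, 0, 9, 0, 15, 0, 9, 0],
  [5, 0, 1, 6, 8, 1, 23, 5, 2, 9],
  [5, 0, 2, 2, 0, 1, 4, 9, 9, 10],
  [5, 0, 3, 1, 2, 5, 26, 10, 1, 1],
  [5, 0, 4, 6, 7, 4, 1, 5, 1, 6],
  [5, 0, 5, 1, 8, 2, 10, 10, 7, 4],
  [5, 0, 6, 10, 7, 3, 0, 1, 8, 1],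
  [5, 0, 7, 5, 1, 0, 21, 6, 7, 9],
  [5, 0, 8, 10, 1, 0, 16, 1, 2, 4],
  [5, 0, 9, 9, 9, 8, 14, 2, 0, 10],
  [5, 0, 10, 5, 2, 3, 23, 6, 8, 6],
  [5, 1, 0, 6, 6, 0, 29, 10, 3, 3],
  [5, 1, 1, 1, 0, 4, 11, 8, 3, 3],
  [5, 1, 2, 0, 8, 3, 38, 8, 2, 6],
  [5, 1, 3, 7, 6, 1, 3, 7, 6, 1],
  [5, 1, 4, 8, 2, 0, 28, 0, 8, 8],
  [5, 1, 5, 8, 3, 6, 11, 1, 0, 7],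
  [5, 1, 6, 10, 3, 0, 9, 6, 6, 8],
  [5, 1, 7, 1, 9, 7, 32, 6, 8, 4],
  [5, 1, 8, 7, 9, 4, 4, 10, 4, 10],
  [5, 1, 9, 10, 4, 5, 14, 7, 9, 10],
  [5, 1, 10, 6, 8, 3, 2, 1, 9, 6],
  [5, 2, 0, 3, 10, 3, 8, 6, 7, 8],
  [5, 2, 1, 6, 7, 5, 18, 3, 10, 0],
  [5, 2, 2, 4, 3, 3, 14, 0, 7, 9],
  [5, 2, 3, 6, 6, 3, 27, 4, 8, 5],
  [5, 2, 4, 5, 3, 0, 20, 9, 10, 1],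
  [5, 2, 5, 5, 9, 4, 5, 3, 0, 10],
  [5, 2, 6, 9, 6, 6, 19, 9, 6, 6],
  [5, 2, 7, 3, 0, 1, 25, 5, 9, 6],
  [5, 2, 8, 9, 10, 8, 30, 5, 3, 7],
  [5, 2, 9, 4, 8, 7, 27, 6, 6, 5],
  [5, 2, 10, 0, 7, 2, 4, 4, 3, 7],
  [5, 3, 0, 10, 8, 2, 30, 0, 1, 9],
  [5, 3, 1, 5, 5, 5, 27, 10, 3, 8],
  [5, 3, 2, 9, 8, 10, 4, 8, 4, 8],
  [5, 3, 3, 3, 4, 1, 8, 5, 1, 10],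
  [5, 3, 4, 5, 1, 7, 18, 3, 4, 9],
  [5, 3, 5, 8, 4, 4, 14, 9, 8, 6],
  [5, 3, 6, 10, 3, 6, 27, 5, 5, 3],
  [5, 3, 7, 0, 1, 2, 20, 10, 8, 6],
  [5, 3, 8, 3, 0, 10, 5, 9, 2, 1],
  [5, 3, 9, 8, 5, 2, 19, 8, 5, 2],
  [5, 3, 10, 9, 2, 3, 25, 3, 0, 1],
  [5, 4, 0, 4, 9, 7, 38, 6, 3, 5],
  [5, 4, 1, 6, 5, 7, 3, 6, 5, 7],
  [5, 4, 2, 6, 3, 10, 28, 4, 9, 1],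
  [5, 4, 3, 1, 0, 7, 11, 2, 8, 10],
  [5, 4, 4, 5, 5, 8, 9, 4, 8, 10],
  [5, 4, 5, 1, 3, 10, 32, 5, 2, 1],
  [5, 4, 6, 2, 7, 1, 4, 0, 2, 8],
  [5, 4, 7, 0, 2, 3, 14, 2, 7, 7],
  [5, 4, 8, 5, 2, 0, 2, 1, 3, 9],
  [5, 4, 9, 4, 8, 2, 29, 5, 5, 0],
  [5, 4, 10, 2, 8, 7, 11, 1, 0, 4],
  [5, 5, 0, 3, 4, 2, 21, 3, 10, 4],
  [5, 5, 1, 8, 9, 2, 16, 8, 10, 9],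
  [5, 5, 2, 2, 0, 10, 14, 2, 2, 8],
  [5, 5, 3, 1, 3, 1, 23, 1, 9, 9],
  [5, 5, 4, 4, 2, 7, 15, 4, 2, 7],
  [5, 5, 5, 1, 9, 4, 23, 1, 3, 7],
  [5, 5, 6, 2, 2, 10, 4, 2, 0, 1]]

theorem it5_chk : relL it5 = true := by decide +kernel

def it6 : List (List ℕ) := [[5, 5, 7, 8, 10, 10, 26, 8, 9, 3],
  [5, 5, 8, 3, 10, 10, 1, 3, 4, 8],
  [5, 5, 9, 7, 4, 3, 10, 7, 3, 1],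
  [5, 5, 10, 7, 3, 0, 0, 7, 4, 2],
  [5, 6, 0, 1, 1, 4, 18, 9, 3, 2],
  [5, 6, 1, 0, 8, 5, 15, 4, 9, 9],
  [5, 6, 2, 4, 9, 10, 15, 0, 8, 6],
  [5, 6, 3, 9, 3, 4, 8, 1, 1, 6],
  [5, 6, 4, 7, 0, 1, 32, 10, 9, 0],
  [5, 6, 5, 4, 3, 10, 33, 8, 4, 0],
  [5, 6, 6, 7, 4, 6, 36, 1, 8, 5],
  [5, 6, 7, 8, 1, 7, 7, 8, 1, 7],
  [5, 6, 8, 1, 8, 9, 6, 7, 4, 10],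
  [5, 6, 9, 8, 4, 1, 13, 4, 3, 0],
  [5, 6, 10, 10, 9, 9, 2, 7, 0, 10],
  [5, 7, 0, 5, 3, 10, 25, 0, 1, 1],
  [5, 7, 1, 9, 7, 5, 0, 8, 0, 9],
  [5, 7, 2, 7, 9, 8, 7, 2, 7, 5],
  [5, 7, 3, 9, 3, 5, 34, 10, 10, 7],
  [5, 7, 4, 10, 1, 2, 38, 8, 9, 4],
  [5, 7, 5, 8, 9, 1, 28, 10, 1, 10],
  [5, 7, 6, 10, 10, 3, 24, 9, 3, 1],
  [5, 7, 7, 2, 7, 3, 7, 7, 9, 6],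
  [5, 7, 8, 8, 0, 2, 10, 9, 7, 9],
  [5, 7, 9, 0, 1, 10, 5, 5, 3, 8],
  [5, 7, 10, 7, 10, 9, 39, 7, 10, 9],
  [5, 8, 0, 8, 5, 7, 33, 9, 6, 0],
  [5, 8, 1, 0, 9, 9, 26, 4, 2, 5],
  [5, 8, 2, 4, 0, 0, 27, 4, 0, 0],
  [5, 8, 3, 4, 2, 9, 16, 0, 9, 2],
  [5, 8, 4, 9, 6, 1, 13, 8, 5, 8],
  [5, 8, 5, 6, 10, 2, 12, 8, 1, 6],
  [5, 8, 6, 7, 10, 8, 28, 9, 1, 0],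
  [5, 8, 7, 6, 5, 1, 35, 7, 6, 6],
  [5, 8, 8, 7, 6, 7, 35, 6, 5, 2],
  [5, 8, 9, 9, 1, 2, 38, 7, 10, 10],
  [5, 8, 10, 8, 1, 8, 22, 6, 10, 4],
  [5, 9, 0, 8, 10, 8, 28, 1, 2, 3],
  [5, 9, 1, 3, 8, 8, 24, 1, 1, 3],
  [5, 9, 2, 0, 2, 10, 7, 10, 4, 1],
  [5, 9, 3, 6, 4, 1, 10, 8, 0, 2],
  [5, 9, 4, 10, 8, 3, 5, 9, 10, 9],
  [5, 9, 5, 9, 1, 1, 39, 9, 1, 1],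
  [5, 9, 6, 9, 10, 0, 25, 10, 8, 5],
  [5, 9, 7, 8, 0, 9, 0, 6, 4, 8],
  [5, 9, 8, 10, 4, 3, 7, 0, 2, 1],
  [5, 9, 9, 1, 1, 7, 34, 3, 8, 1],
  [5, 9, 10, 1, 2, 6, 38, 8, 10, 0],
  [5, 10, 0, 7, 0, 10, 2, 3, 2, 7],
  [5, 10, 1, 3, 8, 9, 18, 10, 10, 4],
  [5, 10, 2, 8, 2, 8, 15, 6, 3, 7],
  [5, 10, 3, 6, 3, 8, 15, 8, 2, 9],
  [5, 10, 4, 10, 10, 6, 8, 3, 8, 0],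
  [5, 10, 5, 3, 2, 9, 32, 7, 0, 1],
  [5, 10, 6, 0, 7, 5, 33, 9, 8, 2],
  [5, 10, 7, 7, 3, 4, 36, 10, 7, 7],
  [5, 10, 8, 6, 10, 3, 7, 6, 10, 3],
  [5, 10, 9, 10, 7, 0, 6, 7, 3, 8],
  [5, 10, 10, 9, 8, 3, 13, 0, 7, 6],
  [6, 0, 0, 0, 2, 0, 15, 0, 2, 0],
  [6, 0, 1, 5, 3, 1, 23, 6, 9, 9],
  [6, 0, 2, 9, 0, 1, 4, 2, 2, 10],
  [6, 0, 3, 10, 9, 5, 26, 1, 10, 1],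
  [6, 0, 4, 5, 4, 4, 1, 6, 10, 6],
  [6, 0, 5, 10, 3, 2, 10, 1, 4, 4],
  [6, 0, 6, 1, 4, 3, 0, 10, 3, 1],
  [6, 0, 7, 6, 10, 0, 21, 5, 4, 9],
  [6, 0, 8, 1, 10, 0, 16, 10, 9, 4],
  [6, 0, 9, 2, 2, 8, 14, 9, 0, 10],
  [6, 0, 10, 6, 9, 3, 23, 5, 3, 6],
  [6, 1, 0, 4, 0, 10, 2, 8, 9, 7],
  [6, 1, 1, 8, 3, 9, 18, 1, 1, 4],
  [6, 1, 2, 3, 9, 8, 15, 5, 8, 7],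
  [6, 1, 3, 5, 8, 8, 15, 3, 9, 9],
  [6, 1, 4, 1, 1, 6, 8, 8, 3, 0],
  [6, 1, 5, 8, 9, 9, 32, 4, 0, 1],
  [6, 1, 6, 0, 4, 5, 33, 2, 3, 2],
  [6, 1, 7, 4, 8, 4, 36, 1, 4, 7],
  [6, 1, 8, 5, 1, 3, 7, 5, 1, 3],
  [6, 1, 9, 1, 4, 0, 6, 4, 8, 8],
  [6, 1, 10, 2, 3, 3, 13, 0, 4, 6],
  [6, 2, 0, 3, 1, 8, 28, 10, 9, 3],
  [6, 2, 1, 8, 3, 8, 24, 10, 10, 3],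
  [6, 2, 2, 0, 9, 10, 7, 1, 7, 1],
  [6, 2, 3, 5, 7, 1, 10, 3, 0, 2],
  [6, 2, 4, 1, 3, 3, 5, 2, 1, 9],
  [6, 2, 5, 2, 10, 1, 39, 2, 10, 1],
  [6, 2, 6, 2, 1, 0, 25, 1, 3, 5],
  [6, 2, 7, 3, 0, 9, 0, 5, 7, 8],
  [6, 2, 8, 1, 7, 3, 7, 0, 9, 1],
  [6, 2, 9, 10, 10, 7, 34, 8, 3, 1],
  [6, 2, 10, 10, 9, 6, 38, 3, 1, 0],
  [6, 3, 0, 3, 6, 7, 33, 2, 5, 0],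
  [6, 3, 1, 0, 2, 9, 26, 7, 9, 5],
  [6, 3, 2, 7, 0, 0, 27, 7, 0, 0],
  [6, 3, 3, 7, 9, 9, 16, 0, 2, 2],
  [6, 3, 4, 2, 5, 1, 13, 3, 6, 8],
  [6, 3, 5, 5, 1, 2, 12, 3, 10, 6],
  [6, 3, 6, 4, 1, 8, 28, 2, 10, 0],
  [6, 3, 7, 5, 6, 1, 35, 4, 5, 6],
  [6, 3, 8, 4, 5, 7, 35, 5, 6, 2],
  [6, 3, 9, 2, 10, 2, 38, 4, 1, 10],
  [6, 3, 10, 3, 10, 8, 22, 5, 1, 4],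
  [6, 4, 0, 6, 8, 10, 25, 0, 10, 1],
  [6, 4, 1, 2, 4, 5, 0, 3, 0, 9],
  [6, 4, 2, 4, 2, 8, 7, 9, 4, 5],
  [6, 4, 3, 2, 8, 5, 34, 1, 1, 7],
  [6, 4, 4, 1, 10, 2, 38, 3, 2, 4],
  [6, 4, 5, 3, 2, 1, 28, 1, 10, 10],
  [6, 4, 6, 1, 1, 3, 24, 2, 8, 1],
  [6, 4, 7, 9, 4, 3, 7, 4, 2, 6]]

theorem it6_chk : relL it6 = true := by decide +kernel

def it7 : List (List ℕ) := [[6, 4, 8, 3, 0, 2, 10, 2, 4, 9],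
  [6, 4, 9, 0, 10, 10, 5, 6, 8, 8],
  [6, 4, 10, 4, 1, 9, 39, 4, 1, 9],
  [6, 5, 0, 10, 10, 4, 18, 2, 8, 2],
  [6, 5, 1, 0, 3, 5, 15, 7, 2, 9],
  [6, 5, 2, 7, 2, 10, 15, 0, 3, 6],
  [6, 5, 3, 2, 8, 4, 8, 10, 10, 6],
  [6, 5, 4, 4, 0, 1, 32, 1, 2, 0],
  [6, 5, 5, 7, 8, 10, 33, 3, 7, 0],
  [6, 5, 6, 4, 7, 6, 36, 10, 3, 5],
  [6, 5, 7, 3, 10, 7, 7, 3, 10, 7],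
  [6, 5, 8, 10, 3, 9, 6, 4, 7, 10],
  [6, 5, 9, 3, 7, 1, 13, 7, 8, 0],
  [6, 5, 10, 1, 2, 9, 2, 4, 0, 10],
  [6, 6, 0, 8, 7, 2, 21, 8, 1, 4],
  [6, 6, 1, 3, 2, 2, 16, 3, 1, 9],
  [6, 6, 2, 9, 0, 10, 14, 9, 9, 8],
  [6, 6, 3, 10, 8, 1, 23, 10, 2, 9],
  [6, 6, 4, 7, 9, 7, 15, 7, 9, 7],
  [6, 6, 5, 10, 2, 4, 23, 10, 8, 7],
  [6, 6, 6, 9, 9, 10, 4, 9, 0, 1],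
  [6, 6, 7, 3, 1, 10, 26, 3, 2, 3],
  [6, 6, 8, 8, 1, 10, 1, 8, 7, 8],
  [6, 6, 9, 4, 7, 3, 10, 4, 8, 1],
  [6, 6, 10, 4, 8, 0, 0, 4, 7, 2],
  [6, 7, 0, 7, 2, 7, 38, 5, 8, 5],
  [6, 7, 1, 5, 6, 7, 3, 5, 6, 7],
  [6, 7, 2, 5, 8, 10, 28, 7, 2, 1],
  [6, 7, 3, 10, 0, 7, 11, 9, 3, 10],
  [6, 7, 4, 6, 6, 8, 9, 7, 3, 10],
  [6, 7, 5, 10, 8, 10, 32, 6, 9, 1],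
  [6, 7, 6, 9, 4, 1, 4, 0, 9, 8],
  [6, 7, 7, 0, 9, 3, 14, 9, 4, 7],
  [6, 7, 8, 6, 9, 0, 2, 10, 8, 9],
  [6, 7, 9, 7, 3, 2, 29, 6, 6, 0],
  [6, 7, 10, 9, 3, 7, 11, 10, 0, 4],
  [6, 8, 0, 1, 3, 2, 30, 0, 10, 9],
  [6, 8, 1, 6, 6, 5, 27, 1, 8, 8],
  [6, 8, 2, 2, 3, 10, 4, 3, 7, 8],
  [6, 8, 3, 8, 7, 1, 8, 6, 10, 10],
  [6, 8, 4, 6, 10, 7, 18, 8, 7, 9],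
  [6, 8, 5, 3, 7, 4, 14, 2, 3, 6],
  [6, 8, 6, 1, 8, 6, 27, 6, 6, 3],
  [6, 8, 7, 0, 10, 2, 20, 1, 3, 6],
  [6, 8, 8, 8, 0, 10, 5, 2, 9, 1],
  [6, 8, 9, 3, 6, 2, 19, 3, 6, 2],
  [6, 8, 10, 2, 9, 3, 25, 8, 0, 1],
  [6, 9, 0, 8, 1, 3, 8, 5, 4, 8],
  [6, 9, 1, 5, 4, 5, 18, 8, 1, 0],
  [6, 9, 2, 7, 8, 3, 14, 0, 4, 9],
  [6, 9, 3, 5, 5, 3, 27, 7, 3, 5],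
  [6, 9, 4, 6, 8, 0, 20, 2, 1, 1],
  [6, 9, 5, 6, 2, 4, 5, 8, 0, 10],
  [6, 9, 6, 2, 5, 6, 19, 2, 5, 6],
  [6, 9, 7, 8, 0, 1, 25, 6, 2, 6],
  [6, 9, 8, 2, 1, 8, 30, 6, 8, 7],
  [6, 9, 9, 7, 3, 7, 27, 5, 5, 5],
  [6, 9, 10, 0, 4, 2, 4, 7, 8, 7],
  [6, 10, 0, 5, 5, 0, 29, 1, 8, 3],
  [6, 10, 1, 10, 0, 4, 11, 3, 8, 3],
  [6, 10, 2, 0, 3, 3, 38, 3, 9, 6],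
  [6, 10, 3, 4, 5, 1, 3, 4, 5, 1],
  [6, 10, 4, 3, 9, 0, 28, 0, 3, 8],
  [6, 10, 5, 3, 8, 6, 11, 10, 0, 7],
  [6, 10, 6, 1, 8, 0, 9, 5, 5, 8],
  [6, 10, 7, 10, 2, 7, 32, 5, 3, 4],
  [6, 10, 8, 4, 2, 4, 4, 1, 7, 10],
  [6, 10, 9, 1, 7, 5, 14, 4, 2, 10],
  [6, 10, 10, 5, 3, 3, 2, 10, 2, 6],
  [7, 0, 0, 0, 8, 0, 23, 0, 8, 0],
  [7, 0, 1, 7, 1, 10, 18, 4, 5, 9],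
  [7, 0, 2, 2, 3, 4, 31, 9, 1, 8],
  [7, 0, 3, 9, 5, 9, 9, 2, 7, 8],
  [7, 0, 4, 8, 8, 7, 22, 3, 0, 6],
  [7, 0, 5, 7, 3, 3, 34, 4, 7, 5],
  [7, 0, 6, 4, 7, 0, 24, 7, 3, 9],
  [7, 0, 7, 3, 0, 5, 12, 8, 8, 6],
  [7, 0, 8, 2, 7, 0, 29, 9, 5, 1],
  [7, 0, 9, 9, 1, 5, 31, 2, 3, 1],
  [7, 0, 10, 4, 5, 4, 8, 7, 1, 5],
  [7, 1, 0, 2, 10, 6, 33, 0, 7, 5],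
  [7, 1, 1, 1, 8, 5, 36, 4, 7, 6],
  [7, 1, 2, 5, 4, 1, 7, 5, 4, 1],
  [7, 1, 3, 4, 7, 10, 6, 1, 8, 9],
  [7, 1, 4, 0, 7, 6, 13, 2, 10, 7],
  [7, 1, 5, 8, 10, 3, 2, 4, 4, 2],
  [7, 1, 6, 1, 0, 10, 18, 8, 5, 1],
  [7, 1, 7, 5, 8, 7, 15, 3, 5, 3],
  [7, 1, 8, 3, 5, 4, 15, 5, 8, 8],
  [7, 1, 9, 8, 5, 3, 8, 1, 0, 1],
  [7, 1, 10, 4, 4, 4, 32, 8, 10, 5],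
  [7, 2, 0, 4, 1, 10, 38, 0, 7, 1],
  [7, 2, 1, 1, 6, 9, 22, 8, 1, 8],
  [7, 2, 2, 8, 3, 4, 33, 10, 0, 5],
  [7, 2, 3, 2, 7, 2, 26, 10, 6, 1],
  [7, 2, 4, 1, 2, 10, 27, 1, 2, 10],
  [7, 2, 5, 10, 6, 5, 16, 2, 7, 6],
  [7, 2, 6, 10, 0, 6, 13, 8, 3, 5],
  [7, 2, 7, 8, 1, 6, 12, 1, 6, 7],
  [7, 2, 8, 0, 7, 10, 28, 4, 1, 8],
  [7, 2, 9, 2, 2, 3, 35, 4, 10, 7],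
  [7, 2, 10, 4, 10, 8, 35, 2, 2, 4],
  [7, 3, 0, 5, 0, 6, 10, 10, 3, 2],
  [7, 3, 1, 10, 3, 1, 0, 5, 0, 5],
  [7, 3, 2, 8, 1, 4, 21, 0, 5, 8],
  [7, 3, 3, 4, 4, 8, 16, 10, 1, 0],
  [7, 3, 4, 4, 5, 0, 14, 5, 10, 7],
  [7, 3, 5, 9, 10, 7, 23, 1, 3, 1],
  [7, 3, 6, 9, 4, 4, 15, 9, 4, 4],
  [7, 3, 7, 1, 3, 7, 23, 9, 10, 2],
  [7, 3, 8, 5, 10, 9, 4, 4, 5, 2]]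

theorem it7_chk : relL it7 = true := by decide +kernel

def it8 : List (List ℕ) := [[7, 3, 9, 10, 1, 1, 26, 4, 4, 9],
  [7, 3, 10, 0, 5, 3, 1, 8, 1, 10],
  [7, 4, 0, 7, 7, 9, 26, 8, 10, 10],
  [7, 4, 1, 6, 10, 6, 1, 1, 6, 0],
  [7, 4, 2, 4, 8, 1, 10, 5, 0, 6],
  [7, 4, 3, 5, 0, 5, 0, 4, 8, 0],
  [7, 4, 4, 1, 6, 5, 21, 6, 10, 0],
  [7, 4, 5, 8, 10, 9, 16, 7, 7, 8],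
  [7, 4, 6, 7, 1, 1, 14, 5, 6, 6],
  [7, 4, 7, 6, 8, 6, 23, 0, 1, 8],
  [7, 4, 8, 1, 7, 2, 15, 1, 7, 2],
  [7, 4, 9, 0, 1, 3, 23, 6, 8, 1],
  [7, 4, 10, 5, 6, 8, 4, 7, 1, 3],
  [7, 5, 0, 10, 4, 4, 16, 9, 5, 7],
  [7, 5, 1, 2, 8, 9, 13, 10, 0, 6],
  [7, 5, 2, 0, 5, 10, 12, 6, 10, 2],
  [7, 5, 3, 2, 10, 0, 28, 8, 4, 5],
  [7, 5, 4, 6, 1, 2, 35, 9, 9, 3],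
  [7, 5, 5, 9, 9, 4, 35, 6, 1, 3],
  [7, 5, 6, 8, 4, 7, 38, 2, 10, 2],
  [7, 5, 7, 6, 10, 4, 22, 0, 5, 1],
  [7, 5, 8, 10, 0, 5, 33, 2, 8, 8],
  [7, 5, 9, 9, 5, 3, 26, 10, 4, 0],
  [7, 5, 10, 8, 9, 8, 27, 8, 9, 8],
  [7, 6, 0, 1, 4, 7, 36, 7, 3, 4],
  [7, 6, 1, 8, 7, 5, 7, 8, 7, 5],
  [7, 6, 2, 7, 3, 8, 6, 1, 4, 0],
  [7, 6, 3, 4, 1, 4, 13, 8, 4, 1],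
  [7, 6, 4, 7, 7, 2, 2, 10, 1, 5],
  [7, 6, 5, 9, 6, 5, 18, 1, 0, 10],
  [7, 6, 6, 4, 6, 4, 15, 0, 3, 5],
  [7, 6, 7, 0, 3, 6, 15, 4, 6, 5],
  [7, 6, 8, 1, 0, 1, 8, 9, 6, 7],
  [7, 6, 9, 10, 1, 7, 32, 7, 7, 4],
  [7, 6, 10, 8, 4, 0, 33, 4, 1, 3],
  [7, 7, 0, 10, 6, 10, 29, 10, 4, 9],
  [7, 7, 1, 7, 8, 9, 31, 7, 10, 2],
  [7, 7, 2, 5, 10, 0, 8, 5, 6, 10],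
  [7, 7, 3, 6, 3, 2, 23, 6, 3, 2],
  [7, 7, 4, 5, 6, 4, 18, 5, 10, 5],
  [7, 7, 5, 7, 10, 5, 31, 7, 8, 1],
  [7, 7, 6, 10, 4, 6, 9, 10, 6, 7],
  [7, 7, 7, 3, 0, 6, 22, 3, 3, 7],
  [7, 7, 8, 1, 4, 6, 34, 1, 8, 4],
  [7, 7, 9, 1, 8, 10, 24, 1, 4, 1],
  [7, 7, 10, 3, 3, 6, 12, 3, 0, 5],
  [7, 8, 0, 9, 9, 0, 37, 4, 10, 4],
  [7, 8, 1, 1, 10, 8, 19, 7, 0, 2],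
  [7, 8, 2, 9, 1, 4, 10, 7, 8, 8],
  [7, 8, 3, 1, 3, 0, 36, 0, 1, 7],
  [7, 8, 4, 4, 6, 3, 22, 5, 8, 6],
  [7, 8, 5, 5, 9, 5, 11, 5, 9, 5],
  [7, 8, 6, 5, 8, 9, 12, 4, 6, 6],
  [7, 8, 7, 0, 1, 4, 6, 1, 3, 8],
  [7, 8, 8, 7, 8, 2, 0, 9, 1, 9],
  [7, 8, 9, 7, 0, 9, 19, 1, 10, 4],
  [7, 8, 10, 4, 10, 0, 17, 9, 9, 7],
  [7, 9, 0, 1, 2, 2, 1, 8, 9, 0],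
  [7, 9, 1, 9, 4, 10, 20, 1, 7, 8],
  [7, 9, 2, 1, 7, 7, 30, 9, 4, 9],
  [7, 9, 3, 8, 9, 5, 21, 1, 2, 7],
  [7, 9, 4, 8, 7, 10, 6, 5, 4, 6],
  [7, 9, 5, 6, 3, 1, 24, 0, 8, 10],
  [7, 9, 6, 5, 9, 2, 3, 9, 2, 10],
  [7, 9, 7, 6, 0, 0, 35, 6, 0, 0],
  [7, 9, 8, 9, 2, 5, 3, 5, 9, 8],
  [7, 9, 9, 0, 8, 1, 34, 6, 3, 3],
  [7, 9, 10, 5, 4, 7, 36, 8, 7, 0],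
  [7, 10, 0, 6, 8, 2, 6, 9, 10, 3],
  [7, 10, 1, 7, 10, 6, 0, 2, 3, 5],
  [7, 10, 2, 3, 1, 2, 19, 7, 0, 9],
  [7, 10, 3, 2, 2, 7, 17, 6, 1, 6],
  [7, 10, 4, 6, 1, 10, 37, 2, 2, 0],
  [7, 10, 5, 7, 0, 2, 19, 3, 1, 6],
  [7, 10, 6, 2, 3, 0, 10, 7, 10, 1],
  [7, 10, 7, 9, 10, 6, 36, 6, 8, 5],
  [7, 10, 8, 0, 3, 4, 22, 3, 5, 2],
  [7, 10, 9, 9, 2, 2, 11, 9, 2, 2],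
  [7, 10, 10, 3, 5, 5, 12, 0, 3, 7],
  [8, 0, 0, 0, 7, 0, 39, 0, 7, 0],
  [8, 0, 1, 1, 3, 5, 25, 10, 2, 2],
  [8, 0, 2, 9, 2, 0, 0, 2, 4, 5],
  [8, 0, 3, 1, 5, 4, 7, 10, 4, 3],
  [8, 0, 4, 2, 5, 8, 34, 9, 3, 5],
  [8, 0, 5, 7, 7, 10, 38, 4, 0, 7],
  [8, 0, 6, 4, 0, 4, 28, 7, 7, 7],
  [8, 0, 7, 9, 3, 1, 24, 2, 5, 4],
  [8, 0, 8, 10, 4, 1, 7, 1, 5, 2],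
  [8, 0, 9, 2, 4, 9, 10, 9, 2, 4],
  [8, 0, 10, 10, 2, 0, 5, 1, 3, 3],
  [8, 1, 0, 6, 9, 1, 32, 1, 3, 10],
  [8, 1, 1, 10, 6, 0, 4, 7, 9, 4],
  [8, 1, 2, 7, 9, 10, 14, 10, 6, 6],
  [8, 1, 3, 1, 3, 9, 2, 6, 9, 0],
  [8, 1, 4, 10, 7, 5, 29, 6, 0, 7],
  [8, 1, 5, 8, 5, 6, 11, 1, 1, 9],
  [8, 1, 6, 8, 6, 1, 38, 0, 3, 3],
  [8, 1, 7, 7, 1, 2, 3, 7, 1, 2],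
  [8, 1, 8, 0, 3, 8, 28, 8, 6, 6],
  [8, 1, 9, 1, 1, 1, 11, 8, 5, 9],
  [8, 1, 10, 6, 0, 4, 9, 10, 7, 2],
  [8, 2, 0, 8, 7, 6, 22, 1, 6, 9],
  [8, 2, 1, 10, 10, 10, 33, 8, 5, 7],
  [8, 2, 2, 10, 4, 0, 26, 2, 6, 3],
  [8, 2, 3, 1, 10, 6, 27, 1, 10, 6],
  [8, 2, 4, 2, 6, 7, 16, 10, 4, 4],
  [8, 2, 5, 8, 5, 8, 13, 10, 10, 0],
  [8, 2, 6, 1, 6, 7, 12, 8, 7, 4],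
  [8, 2, 7, 4, 3, 4, 28, 0, 4, 10],
  [8, 2, 8, 4, 5, 6, 35, 2, 0, 5],
  [8, 2, 9, 2, 0, 6, 35, 4, 5, 7]]

theorem it8_chk : relL it8 = true := by decide +kernel

def it9 : List (List ℕ) := [[8, 2, 10, 0, 4, 1, 38, 4, 3, 6],
  [8, 3, 0, 2, 2, 5, 2, 7, 6, 8],
  [8, 3, 1, 3, 0, 4, 16, 9, 7, 0],
  [8, 3, 2, 2, 5, 3, 30, 3, 8, 7],
  [8, 3, 3, 0, 5, 9, 39, 8, 7, 3],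
  [8, 3, 4, 8, 6, 7, 17, 5, 8, 0],
  [8, 3, 5, 5, 8, 4, 37, 8, 6, 0],
  [8, 3, 6, 8, 7, 7, 39, 0, 5, 2],
  [8, 3, 7, 3, 8, 2, 20, 2, 5, 9],
  [8, 3, 8, 9, 7, 3, 26, 3, 0, 7],
  [8, 3, 9, 7, 6, 5, 32, 2, 2, 2],
  [8, 3, 10, 5, 2, 6, 31, 5, 2, 6],
  [8, 4, 0, 5, 10, 6, 17, 7, 1, 0],
  [8, 4, 1, 7, 1, 4, 37, 5, 10, 10],
  [8, 4, 2, 3, 1, 6, 19, 1, 10, 8],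
  [8, 4, 3, 0, 7, 3, 10, 8, 4, 9],
  [8, 4, 4, 1, 9, 8, 36, 5, 2, 2],
  [8, 4, 5, 7, 2, 8, 22, 3, 9, 7],
  [8, 4, 6, 8, 0, 0, 11, 8, 0, 0],
  [8, 4, 7, 3, 9, 10, 12, 7, 2, 0],
  [8, 4, 8, 5, 2, 10, 6, 1, 9, 5],
  [8, 4, 9, 8, 4, 3, 0, 0, 7, 8],
  [8, 4, 10, 1, 10, 4, 19, 3, 1, 2],
  [8, 5, 0, 3, 0, 7, 26, 6, 4, 6],
  [8, 5, 1, 9, 9, 2, 32, 6, 5, 0],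
  [8, 5, 2, 1, 9, 1, 31, 1, 9, 1],
  [8, 5, 3, 6, 5, 3, 2, 9, 9, 5],
  [8, 5, 4, 6, 4, 3, 16, 3, 0, 4],
  [8, 5, 5, 9, 3, 0, 30, 3, 6, 10],
  [8, 5, 6, 5, 4, 10, 39, 1, 6, 6],
  [8, 5, 7, 0, 3, 9, 17, 7, 5, 8],
  [8, 5, 8, 7, 5, 1, 37, 0, 3, 2],
  [8, 5, 9, 1, 6, 10, 39, 5, 4, 3],
  [8, 5, 10, 3, 6, 5, 20, 9, 3, 6],
  [8, 6, 0, 1, 1, 0, 13, 9, 6, 1],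
  [8, 6, 1, 5, 4, 0, 12, 0, 5, 10],
  [8, 6, 2, 3, 7, 5, 28, 9, 8, 7],
  [8, 6, 3, 2, 0, 5, 35, 5, 6, 1],
  [8, 6, 4, 5, 6, 2, 35, 2, 0, 6],
  [8, 6, 5, 9, 8, 9, 38, 3, 7, 7],
  [8, 6, 6, 0, 5, 1, 22, 5, 4, 2],
  [8, 6, 7, 9, 6, 0, 33, 1, 1, 10],
  [8, 6, 8, 1, 5, 1, 26, 2, 7, 2],
  [8, 6, 9, 3, 1, 4, 27, 3, 1, 4],
  [8, 6, 10, 2, 7, 6, 16, 1, 5, 5],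
  [8, 7, 0, 9, 5, 8, 14, 0, 2, 3],
  [8, 7, 1, 10, 2, 6, 2, 6, 8, 3],
  [8, 7, 2, 6, 0, 7, 29, 7, 4, 4],
  [8, 7, 3, 10, 10, 9, 11, 9, 6, 10],
  [8, 7, 4, 5, 8, 5, 38, 7, 5, 2],
  [8, 7, 5, 5, 10, 8, 3, 5, 10, 8],
  [8, 7, 6, 7, 5, 7, 28, 5, 8, 10],
  [8, 7, 7, 9, 6, 2, 11, 10, 10, 1],
  [8, 7, 8, 7, 4, 1, 9, 6, 0, 4],
  [8, 7, 9, 6, 8, 4, 32, 10, 2, 7],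
  [8, 7, 10, 0, 2, 8, 4, 9, 5, 2],
  [8, 8, 0, 6, 8, 8, 5, 6, 9, 5],
  [8, 8, 1, 8, 4, 6, 39, 8, 4, 6],
  [8, 8, 2, 6, 9, 7, 25, 6, 8, 10],
  [8, 8, 3, 5, 7, 8, 0, 5, 9, 3],
  [8, 8, 4, 2, 7, 5, 7, 2, 6, 6],
  [8, 8, 5, 3, 8, 1, 34, 3, 6, 4],
  [8, 8, 6, 4, 0, 7, 38, 4, 4, 10],
  [8, 8, 7, 4, 4, 7, 28, 4, 0, 4],
  [8, 8, 8, 3, 6, 0, 24, 3, 8, 8],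
  [8, 8, 9, 2, 6, 4, 7, 2, 7, 3],
  [8, 8, 10, 5, 9, 7, 10, 5, 7, 1],
  [8, 9, 0, 10, 6, 7, 9, 0, 2, 4],
  [8, 9, 1, 9, 2, 8, 22, 5, 7, 5],
  [8, 9, 2, 5, 0, 8, 34, 7, 3, 3],
  [8, 9, 3, 7, 3, 9, 24, 5, 0, 3],
  [8, 9, 4, 5, 7, 4, 12, 9, 2, 7],
  [8, 9, 5, 0, 2, 7, 29, 10, 6, 10],
  [8, 9, 6, 3, 7, 10, 31, 4, 3, 9],
  [8, 9, 7, 9, 9, 1, 8, 7, 6, 4],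
  [8, 9, 8, 3, 9, 3, 23, 3, 9, 3],
  [8, 9, 9, 7, 6, 9, 18, 9, 9, 6],
  [8, 9, 10, 4, 3, 1, 31, 3, 7, 2],
  [8, 10, 0, 5, 9, 10, 12, 2, 4, 1],
  [8, 10, 1, 9, 5, 1, 29, 7, 9, 3],
  [8, 10, 2, 9, 8, 1, 31, 0, 4, 4],
  [8, 10, 3, 6, 5, 10, 8, 2, 2, 1],
  [8, 10, 4, 7, 2, 4, 23, 7, 2, 4],
  [8, 10, 5, 2, 2, 6, 18, 6, 5, 4],
  [8, 10, 6, 0, 4, 7, 31, 9, 8, 4],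
  [8, 10, 7, 7, 9, 0, 9, 9, 5, 9],
  [8, 10, 8, 2, 4, 2, 22, 5, 9, 0],
  [8, 10, 9, 1, 8, 4, 34, 5, 0, 8],
  [8, 10, 10, 5, 0, 3, 24, 1, 8, 10],
  [9, 0, 0, 0, 5, 0, 7, 0, 5, 0],
  [9, 0, 1, 5, 5, 6, 6, 6, 0, 2],
  [9, 0, 2, 4, 3, 0, 13, 7, 10, 4],
  [9, 0, 3, 3, 2, 7, 2, 8, 10, 3],
  [9, 0, 4, 3, 6, 1, 18, 8, 3, 9],
  [9, 0, 5, 7, 2, 9, 15, 4, 6, 4],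
  [9, 0, 6, 4, 6, 5, 15, 7, 2, 10],
  [9, 0, 7, 8, 3, 0, 8, 3, 6, 3],
  [9, 0, 8, 8, 10, 5, 32, 3, 2, 9],
  [9, 0, 9, 7, 10, 3, 33, 4, 3, 10],
  [9, 0, 10, 6, 0, 9, 36, 5, 5, 2],
  [9, 1, 0, 8, 2, 7, 22, 0, 3, 4],
  [9, 1, 1, 2, 4, 7, 11, 2, 4, 7],
  [9, 1, 2, 0, 3, 7, 12, 8, 2, 10],
  [9, 1, 3, 2, 1, 3, 6, 5, 2, 10],
  [9, 1, 4, 9, 1, 9, 0, 4, 3, 2],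
  [9, 1, 5, 4, 4, 1, 19, 8, 9, 6],
  [9, 1, 6, 5, 6, 5, 17, 9, 0, 9],
  [9, 1, 7, 9, 0, 2, 37, 5, 6, 9],
  [9, 1, 8, 8, 9, 10, 19, 4, 4, 5],
  [9, 1, 9, 4, 3, 8, 10, 9, 1, 4],
  [9, 1, 10, 5, 2, 2, 36, 2, 1, 6]]

theorem it9_chk : relL it9 = true := by decide +kernel

def it10 : List (List ℕ) := [[9, 2, 0, 3, 3, 3, 10, 5, 9, 7],
  [9, 2, 1, 2, 1, 9, 5, 1, 9, 0],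
  [9, 2, 2, 2, 3, 8, 39, 2, 3, 8],
  [9, 2, 3, 1, 9, 2, 25, 2, 1, 0],
  [9, 2, 4, 5, 9, 3, 0, 3, 3, 10],
  [9, 2, 5, 0, 2, 1, 7, 1, 5, 4],
  [9, 2, 6, 8, 5, 4, 34, 10, 0, 2],
  [9, 2, 7, 3, 2, 4, 38, 10, 1, 2],
  [9, 2, 8, 10, 1, 10, 28, 3, 2, 1],
  [9, 2, 9, 10, 0, 9, 24, 8, 5, 0],
  [9, 2, 10, 1, 5, 2, 7, 0, 2, 10],
  [9, 3, 0, 2, 8, 6, 20, 3, 6, 5],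
  [9, 3, 1, 3, 3, 8, 26, 9, 2, 9],
  [9, 3, 2, 2, 0, 4, 32, 7, 1, 6],
  [9, 3, 3, 5, 3, 9, 31, 5, 3, 9],
  [9, 3, 4, 7, 1, 9, 2, 2, 0, 7],
  [9, 3, 5, 9, 2, 6, 16, 3, 3, 5],
  [9, 3, 6, 3, 6, 10, 30, 2, 8, 0],
  [9, 3, 7, 8, 1, 5, 39, 0, 6, 9],
  [9, 3, 8, 5, 8, 0, 17, 8, 2, 1],
  [9, 3, 9, 8, 2, 5, 37, 5, 8, 4],
  [9, 3, 10, 0, 6, 2, 39, 8, 1, 9],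
  [9, 4, 0, 7, 7, 0, 21, 8, 9, 5],
  [9, 4, 1, 8, 1, 1, 6, 10, 5, 2],
  [9, 4, 2, 3, 5, 8, 24, 7, 2, 3],
  [9, 4, 3, 2, 9, 10, 3, 3, 0, 8],
  [9, 4, 4, 10, 7, 9, 35, 10, 7, 9],
  [9, 4, 5, 3, 0, 3, 3, 2, 9, 5],
  [9, 4, 6, 7, 2, 5, 34, 3, 5, 10],
  [9, 4, 7, 10, 5, 3, 36, 8, 1, 2],
  [9, 4, 8, 8, 9, 0, 1, 7, 7, 6],
  [9, 4, 9, 2, 6, 0, 20, 0, 2, 6],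
  [9, 4, 10, 0, 2, 5, 30, 2, 6, 10],
  [9, 5, 0, 1, 5, 8, 30, 7, 9, 1],
  [9, 5, 1, 1, 2, 7, 21, 4, 4, 0],
  [9, 5, 2, 0, 6, 5, 6, 6, 10, 8],
  [9, 5, 3, 3, 9, 2, 24, 4, 6, 9],
  [9, 5, 4, 3, 0, 8, 3, 6, 2, 2],
  [9, 5, 5, 7, 4, 8, 35, 7, 4, 8],
  [9, 5, 6, 6, 2, 8, 3, 3, 0, 3],
  [9, 5, 7, 4, 6, 0, 34, 3, 9, 4],
  [9, 5, 8, 6, 10, 9, 36, 0, 6, 6],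
  [9, 5, 9, 4, 4, 6, 1, 1, 2, 2],
  [9, 5, 10, 7, 9, 2, 20, 1, 5, 9],
  [9, 6, 0, 4, 9, 2, 17, 0, 3, 9],
  [9, 6, 1, 0, 3, 2, 37, 4, 9, 6],
  [9, 6, 2, 6, 10, 5, 39, 10, 5, 10],
  [9, 6, 3, 2, 5, 9, 20, 8, 3, 2],
  [9, 6, 4, 5, 9, 1, 26, 8, 8, 8],
  [9, 6, 5, 5, 10, 1, 32, 2, 0, 4],
  [9, 6, 6, 10, 8, 4, 31, 10, 8, 4],
  [9, 6, 7, 2, 0, 7, 2, 5, 10, 4],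
  [9, 6, 8, 8, 8, 5, 16, 5, 9, 9],
  [9, 6, 9, 8, 3, 7, 30, 2, 5, 3],
  [9, 6, 10, 10, 5, 6, 39, 6, 10, 1],
  [9, 7, 0, 10, 0, 2, 34, 9, 6, 8],
  [9, 7, 1, 8, 10, 0, 38, 10, 9, 6],
  [9, 7, 2, 10, 9, 3, 28, 8, 10, 8],
  [9, 7, 3, 9, 6, 4, 24, 10, 0, 9],
  [9, 7, 4, 7, 9, 6, 7, 2, 6, 4],
  [9, 7, 5, 9, 2, 4, 10, 8, 8, 3],
  [9, 7, 6, 5, 2, 5, 5, 0, 10, 10],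
  [9, 7, 7, 7, 8, 5, 39, 7, 8, 5],
  [9, 7, 8, 0, 10, 1, 25, 5, 2, 7],
  [9, 7, 9, 8, 8, 10, 0, 9, 2, 0],
  [9, 7, 10, 2, 6, 6, 7, 7, 9, 8],
  [9, 8, 0, 9, 8, 5, 0, 7, 10, 6],
  [9, 8, 1, 1, 2, 8, 19, 7, 7, 1],
  [9, 8, 2, 9, 0, 9, 17, 4, 5, 10],
  [9, 8, 3, 4, 5, 3, 37, 9, 0, 2],
  [9, 8, 4, 7, 7, 5, 19, 1, 2, 1],
  [9, 8, 5, 7, 10, 1, 10, 9, 8, 0],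
  [9, 8, 6, 0, 10, 7, 36, 1, 9, 8],
  [9, 8, 7, 5, 8, 6, 22, 4, 9, 8],
  [9, 8, 8, 5, 7, 10, 11, 5, 7, 10],
  [9, 8, 9, 4, 9, 0, 12, 5, 8, 9],
  [9, 8, 10, 1, 9, 5, 6, 0, 10, 4],
  [9, 9, 0, 9, 1, 7, 13, 9, 8, 3],
  [9, 9, 1, 10, 1, 5, 2, 10, 9, 9],
  [9, 9, 2, 2, 8, 2, 18, 2, 5, 5],
  [9, 9, 3, 3, 5, 3, 15, 3, 9, 8],
  [9, 9, 4, 3, 9, 9, 15, 3, 5, 4],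
  [9, 9, 5, 2, 5, 7, 8, 2, 8, 4],
  [9, 9, 6, 10, 9, 0, 32, 10, 1, 7],
  [9, 9, 7, 9, 8, 2, 33, 9, 1, 6],
  [9, 9, 8, 6, 6, 2, 36, 6, 0, 9],
  [9, 9, 9, 1, 6, 8, 7, 1, 6, 8],
  [9, 9, 10, 6, 0, 2, 6, 6, 6, 6],
  [9, 10, 0, 2, 4, 8, 25, 5, 7, 0],
  [9, 10, 1, 5, 3, 7, 30, 10, 8, 2],
  [9, 10, 2, 7, 4, 9, 27, 10, 7, 10],
  [9, 10, 3, 7, 8, 7, 4, 2, 3, 10],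
  [9, 10, 4, 1, 6, 4, 8, 0, 5, 7],
  [9, 10, 5, 0, 5, 4, 18, 1, 6, 1],
  [9, 10, 6, 2, 3, 6, 14, 7, 8, 3],
  [9, 10, 7, 10, 7, 8, 27, 7, 4, 7],
  [9, 10, 8, 10, 8, 6, 20, 5, 3, 0],
  [9, 10, 9, 5, 7, 9, 5, 2, 4, 6],
  [9, 10, 10, 1, 0, 0, 19, 1, 0, 0],
  [10, 0, 0, 0, 10, 0, 31, 0, 10, 0],
  [10, 0, 1, 6, 1, 4, 2, 5, 6, 3],
  [10, 0, 2, 5, 9, 9, 16, 6, 4, 3],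
  [10, 0, 3, 10, 10, 2, 30, 1, 0, 8],
  [10, 0, 4, 3, 4, 3, 39, 8, 1, 5],
  [10, 0, 5, 3, 9, 1, 17, 8, 6, 7],
  [10, 0, 6, 8, 6, 0, 37, 3, 9, 5],
  [10, 0, 7, 8, 1, 9, 39, 3, 4, 7],
  [10, 0, 8, 1, 0, 3, 20, 10, 10, 8],
  [10, 0, 9, 6, 4, 6, 26, 5, 9, 1],
  [10, 0, 10, 5, 6, 0, 32, 6, 1, 1],
  [10, 1, 0, 6, 6, 1, 34, 10, 7, 6]]

theorem it10_chk : relL it10 = true := by decide +kernel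

def it11 : List (List ℕ) := [[10, 1, 1, 10, 7, 1, 24, 6, 6, 7],
  [10, 1, 2, 9, 2, 7, 12, 6, 4, 4],
  [10, 1, 3, 4, 2, 3, 29, 2, 7, 0],
  [10, 1, 4, 0, 4, 4, 31, 2, 10, 5],
  [10, 1, 5, 9, 0, 3, 8, 5, 10, 0],
  [10, 1, 6, 4, 6, 10, 23, 4, 6, 10],
  [10, 1, 7, 5, 10, 5, 18, 9, 0, 8],
  [10, 1, 8, 2, 10, 8, 31, 0, 4, 7],
  [10, 1, 9, 2, 7, 8, 9, 4, 2, 0],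
  [10, 1, 10, 6, 4, 5, 22, 9, 2, 8],
  [10, 2, 0, 3, 3, 0, 5, 5, 7, 9],
  [10, 2, 1, 9, 3, 3, 19, 9, 3, 3],
  [10, 2, 2, 5, 7, 0, 25, 3, 3, 2],
  [10, 2, 3, 5, 2, 4, 30, 9, 10, 8],
  [10, 2, 4, 6, 0, 1, 27, 4, 7, 9],
  [10, 2, 5, 4, 1, 0, 4, 0, 4, 2],
  [10, 2, 6, 6, 10, 10, 8, 3, 4, 1],
  [10, 2, 7, 3, 4, 9, 18, 6, 10, 7],
  [10, 2, 8, 0, 4, 9, 14, 4, 1, 7],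
  [10, 2, 9, 4, 7, 7, 27, 6, 0, 10],
  [10, 2, 10, 9, 10, 1, 20, 5, 2, 8],
  [10, 3, 0, 8, 7, 8, 1, 0, 6, 3],
  [10, 3, 1, 10, 7, 4, 10, 5, 5, 10],
  [10, 3, 2, 5, 5, 9, 0, 10, 7, 3],
  [10, 3, 3, 0, 6, 8, 21, 8, 7, 2],
  [10, 3, 4, 10, 9, 4, 16, 4, 0, 5],
  [10, 3, 5, 5, 6, 6, 14, 4, 10, 1],
  [10, 3, 6, 1, 9, 9, 23, 9, 10, 7],
  [10, 3, 7, 9, 5, 5, 15, 9, 5, 5],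
  [10, 3, 8, 9, 10, 2, 23, 1, 9, 4],
  [10, 3, 9, 4, 10, 3, 4, 5, 6, 8],
  [10, 3, 10, 4, 0, 6, 26, 10, 9, 5],
  [10, 4, 0, 7, 5, 9, 24, 3, 9, 2],
  [10, 4, 1, 3, 3, 9, 3, 2, 4, 4],
  [10, 4, 2, 10, 3, 7, 35, 10, 3, 7],
  [10, 4, 3, 2, 4, 10, 3, 3, 3, 4],
  [10, 4, 4, 3, 9, 4, 34, 7, 5, 0],
  [10, 4, 5, 8, 7, 0, 36, 10, 5, 3],
  [10, 4, 6, 7, 0, 3, 1, 8, 10, 7],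
  [10, 4, 7, 0, 9, 6, 20, 2, 7, 10],
  [10, 4, 8, 2, 7, 9, 30, 0, 9, 5],
  [10, 4, 9, 8, 10, 1, 21, 7, 0, 8],
  [10, 4, 10, 10, 5, 2, 6, 8, 7, 10],
  [10, 5, 0, 4, 8, 10, 9, 10, 3, 0],
  [10, 5, 1, 2, 1, 5, 32, 0, 10, 6],
  [10, 5, 2, 9, 5, 2, 4, 10, 6, 0],
  [10, 5, 3, 10, 6, 6, 14, 9, 5, 8],
  [10, 5, 4, 0, 10, 5, 2, 2, 1, 4],
  [10, 5, 5, 10, 3, 3, 29, 4, 8, 2],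
  [10, 5, 6, 3, 8, 3, 11, 9, 3, 7],
  [10, 5, 7, 4, 6, 2, 38, 3, 5, 1],
  [10, 5, 8, 2, 0, 0, 3, 2, 0, 0],
  [10, 5, 9, 3, 5, 6, 28, 4, 6, 7],
  [10, 5, 10, 9, 3, 10, 11, 3, 8, 6],
  [10, 6, 0, 5, 4, 6, 6, 0, 6, 5],
  [10, 6, 1, 7, 2, 3, 24, 8, 6, 8],
  [10, 6, 2, 5, 7, 7, 3, 8, 8, 9],
  [10, 6, 3, 4, 8, 6, 35, 4, 8, 6],
  [10, 6, 4, 8, 8, 4, 3, 5, 7, 2],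
  [10, 6, 5, 8, 6, 10, 34, 7, 2, 5],
  [10, 6, 6, 0, 6, 6, 36, 5, 4, 7],
  [10, 6, 7, 10, 1, 9, 1, 7, 0, 3],
  [10, 6, 8, 10, 4, 8, 20, 4, 2, 2],
  [10, 6, 9, 4, 2, 1, 30, 10, 4, 7],
  [10, 6, 10, 7, 0, 8, 21, 10, 1, 3],
  [10, 7, 0, 4, 5, 2, 4, 6, 1, 9],
  [10, 7, 1, 3, 2, 3, 26, 4, 0, 6],
  [10, 7, 2, 10, 5, 0, 1, 5, 4, 4],
  [10, 7, 3, 6, 6, 10, 10, 7, 4, 3],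
  [10, 7, 4, 7, 4, 2, 0, 6, 6, 9],
  [10, 7, 5, 5, 4, 9, 21, 10, 5, 5],
  [10, 7, 6, 4, 0, 5, 16, 3, 2, 2],
  [10, 7, 7, 6, 1, 7, 14, 4, 5, 0],
  [10, 7, 8, 0, 1, 8, 23, 5, 2, 3],
  [10, 7, 9, 10, 6, 3, 15, 10, 6, 3],
  [10, 7, 10, 5, 2, 9, 23, 0, 1, 3],
  [10, 8, 0, 2, 10, 10, 14, 3, 7, 4],
  [10, 8, 1, 6, 0, 10, 27, 1, 4, 8],
  [10, 8, 2, 1, 9, 3, 20, 0, 1, 2],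
  [10, 8, 3, 2, 4, 6, 5, 8, 8, 0],
  [10, 8, 4, 3, 8, 10, 19, 3, 8, 10],
  [10, 8, 5, 8, 8, 2, 25, 2, 4, 8],
  [10, 8, 6, 0, 1, 9, 30, 1, 9, 10],
  [10, 8, 7, 1, 4, 10, 27, 6, 0, 1],
  [10, 8, 8, 3, 7, 8, 4, 2, 10, 3],
  [10, 8, 9, 6, 7, 8, 8, 8, 1, 3],
  [10, 8, 10, 8, 1, 0, 18, 6, 7, 5],
  [10, 9, 0, 9, 0, 8, 18, 7, 1, 10],
  [10, 9, 1, 3, 7, 2, 31, 4, 1, 5],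
  [10, 9, 2, 0, 9, 4, 9, 10, 4, 6],
  [10, 9, 3, 5, 9, 0, 22, 9, 7, 2],
  [10, 9, 4, 7, 4, 5, 34, 5, 5, 1],
  [10, 9, 5, 5, 5, 7, 24, 7, 4, 0],
  [10, 9, 6, 9, 7, 1, 12, 5, 9, 10],
  [10, 9, 7, 10, 4, 9, 29, 0, 9, 7],
  [10, 9, 8, 4, 1, 2, 31, 3, 7, 10],
  [10, 9, 9, 7, 1, 5, 8, 9, 0, 3],
  [10, 9, 10, 3, 5, 9, 23, 3, 5, 9],
  [10, 10, 0, 7, 2, 6, 37, 7, 5, 1],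
  [10, 10, 1, 6, 7, 3, 39, 6, 10, 5],
  [10, 10, 2, 1, 1, 8, 20, 1, 0, 3],
  [10, 10, 3, 9, 2, 9, 26, 9, 7, 3],
  [10, 10, 4, 4, 10, 6, 32, 4, 5, 5],
  [10, 10, 5, 2, 1, 10, 31, 2, 1, 10],
  [10, 10, 6, 4, 5, 8, 2, 4, 10, 9],
  [10, 10, 7, 9, 7, 0, 16, 9, 2, 6],
  [10, 10, 8, 1, 0, 8, 30, 1, 1, 2],
  [10, 10, 9, 6, 10, 1, 39, 6, 7, 10],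
  [10, 10, 10, 7, 5, 8, 17, 7, 2, 2]]

theorem it11_chk : relL it11 = true := by decide +kernel

def its : List (List ℕ) := it0 ++ (it1 ++ (it2 ++ (it3 ++ (it4 ++ (it5 ++ (it6 ++ (it7 ++ (it8 ++
  (it9 ++ (it10 ++ it11))))))))))

theorem cov : (its.map fun it => 121 * it.getD 0 0 + 11 * it.getD 1 0 + it.getD 2 0) =
    List.range' 1 1330 := by decide +kernel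

theorem mem17 : [10, 10, 10, 7, 5, 8, 17, 7, 2, 2] ∈ its := by decide +kernel

theorem mem18 : [10, 9, 0, 9, 0, 8, 18, 7, 1, 10] ∈ its := by decide +kernel

end Cfsg.Agent.H56.JU
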