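import Cfsg.Agent.H76.K4Defs

set_option autoImplicit false

namespace Cfsg.Agent.H56.K4Pl

open Cfsg.Agent.H76.K4

theorem core (E s m : ℤ) (hE : 0 < E) (h0 : 0 ≤ s) (h1 : s ≤ E) (h2 : 2 * E * m = s ^ 2 + 3)
    (hm : 2 ∣ m) (h3 : s * (s + 1) ≤ (1 + 2 * E) * m) : E ≤ 8 := by
  by_contra hc
  have e9 : 9 ≤ E := by omega
  have m0 : 0 < m := by
    by_contra h
    have : m ≤ 0 := by omega
    nlinarith [sq_nonneg s]
  have m2 : 2 ≤ m := by omega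
  have a1 : s ≤ m + 3 := by nlinarith
  have a2 : 2 * m ≤ E := by
    by_contra h
    have h' : E + 1 ≤ 2 * m := by omega
    nlinarith
  have a3 : s ^ 2 ≤ (m + 3) ^ 2 := by nlinarith
  have a4 : 7 ≤ 2 * E - m - 6 := by omega
  nlinarith

theorem pl : PlStmt := by
  intro q x y a b hq hab H
  obtain ⟨E, hE⟩ : ∃ E, E = x ^ 2 + x * y + y ^ 2 := ⟨_, rfl⟩
  have E0 : 0 < E := by
    by_contra h
    have h1 : y = 0 := by nlinarith [sq_nonneg (2 * x + y), sq_nonneg y]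
    have h2 : x = 0 := by subst h1; nlinarith [sq_nonneg x]
    simp [h1, h2] at hab
  obtain ⟨s0, hs0⟩ : ∃ s0, s0 = x * (-b) + y * a + (x + y) * (-b + a) := ⟨_, rfl⟩
  obtain ⟨t, ht⟩ : ∃ t, t = (s0 + E) / (2 * E) := ⟨_, rfl⟩
  have r0 := Int.emod_nonneg (s0 + E) (show 2 * E ≠ 0 by omega)
  have r1 := Int.emod_lt_of_pos (s0 + E) (show 0 < 2 * E by omega)
  have r2 := Int.emod_add_mul_ediv (s0 + E) (2 * E)
  rw [← ht] at r2
  obtain ⟨w1, hw1⟩ : ∃ w1, w1 = -b - t * x := ⟨_, rfl⟩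
  obtain ⟨w2, hw2⟩ : ∃ w2, w2 = a - t * y := ⟨_, rfl⟩
  obtain ⟨s, hs⟩ : ∃ s, s = x * w1 + y * w2 + (x + y) * (w1 + w2) := ⟨_, rfl⟩
  obtain ⟨m, hm⟩ : ∃ m, m = w1 ^ 2 + w2 ^ 2 + (w1 + w2) ^ 2 := ⟨_, rfl⟩
  have e1 : s = s0 - 2 * E * t := by rw [hs, hs0, hw1, hw2, hE]; ring
  have e2 : x * w2 - y * w1 = 1 := by rw [hw1, hw2, ← hab]; ring
  have e3 : 2 * E * m = s ^ 2 + 3 := by
    have : 2 * E * m = s ^ 2 + 3 * (x * w2 - y * w1) ^ 2 := by rw [hs, hm, hE]; ring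
    rw [this, e2]; ring
  have e4 : 2 ∣ m := ⟨w1 ^ 2 + w1 * w2 + w2 ^ 2, by rw [hm]; ring⟩
  have hq' : q = 1 + 2 * E := by rw [hq, hE]
  have H1 : s * (s + 1) ≤ (1 + 2 * E) * m := by
    have := H w1 w2
    rwa [← hs, ← hm, hq'] at this
  have H2 : (-s) * (-s + 1) ≤ (1 + 2 * E) * m := by
    have := H (-w1) (-w2)
    rw [hq'] at this
    convert this using 2
    · rw [hs]; ring
    · rw [hs]; ring
    · rw [hm]; ring
  have E8 : E ≤ 8 := by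
    rcases le_total 0 s with h | h
    · exact core E s m E0 h (by omega) e3 e4 H1
    · exact core E (-s) m E0 (by omega) (by omega) (by rw [e3]; ring) e4 H2
  have b1 : y ≤ 3 := by nlinarith [sq_nonneg (2 * x + y)]
  have b2 : -3 ≤ y := by nlinarith [sq_nonneg (2 * x + y)]
  have b3 : x ≤ 3 := by nlinarith [sq_nonneg (2 * y + x)]
  have b4 : -3 ≤ x := by nlinarith [sq_nonneg (2 * y + x)]
  clear H H1 H2 e1 e2 e3 e4 hs hm hw1 hw2 hs0 ht r0 r1 r2 hq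
  interval_cases x <;> interval_cases y <;> omega

end Cfsg.Agent.H56.K4Pl
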