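import Cfsg.Agent.H44.K5Defs

set_option autoImplicit false

namespace Cfsg.Agent.H56.K5Herm

open Cfsg.Agent.H44.K5 Matrix

def blk {n : ℕ} (c : ℤ) (r : Fin n → ℤ) (D : Matrix (Fin n) (Fin n) ℤ) :
    Matrix (Fin (n + 1)) (Fin (n + 1)) ℤ :=
  of (Fin.cons (Fin.cons c r) (fun i => Fin.cons 0 (D i)))

theorem det_blk {n : ℕ} (c : ℤ) (r : Fin n → ℤ) (D : Matrix (Fin n) (Fin n) ℤ) :
    (blk c r D).det = c * D.det := by
  rw [det_succ_column_zero, Fin.sum_univ_succ]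
  have : (blk c r D).submatrix (Fin.succAbove 0) Fin.succ = D := by
    ext i j; simp [blk]
  rw [this]
  simp [blk]

theorem ent {n : ℕ} (U B : Matrix (Fin n) (Fin n) ℤ) (i j : Fin n) :
    (Uᵀ * B * U) i j = (fun k => U k i) ⬝ᵥ B *ᵥ (fun k => U k j) := by
  rw [Matrix.mul_assoc]
  simp [Matrix.mul_apply, dotProduct, mulVec]

theorem herm : HermStmt := by
  intro n
  induction n with
  | zero => intro A _ _; exact ⟨1, by simp, by simp⟩
  | succ n ih =>
    intro A hA hp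
    have pos : ∀ U : Matrix (Fin (n + 2)) (Fin (n + 2)) ℤ, IsUnit U.det → 0 < (Uᵀ * A * U) 0 0 := by
      intro U hU
      rw [ent]
      refine hp _ fun h => hU.ne_zero (det_eq_zero_of_column_eq_zero 0 fun i => congrFun h i)
    obtain ⟨a, ⟨U, hU, hUa⟩, hmin⟩ := Int.exists_least_of_bdd
      (P := fun a => ∃ U : Matrix (Fin (n + 2)) (Fin (n + 2)) ℤ, IsUnit U.det ∧ (Uᵀ * A * U) 0 0 = a)
      ⟨0, fun z ⟨U, hU, h⟩ => h ▸ (pos U hU).le⟩ ⟨_, 1, by simp, rfl⟩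
    have a0 : 0 < a := hUa ▸ pos U hU
    refine ⟨U, hU, ?_⟩
    rw [hUa]
    obtain ⟨B, hB⟩ : ∃ B, B = Uᵀ * A * U := ⟨_, rfl⟩
    rw [← hB] at hUa
    have Bs : ∀ i j, B i j = B j i := fun i j => by
      have : Bᵀ = B := by rw [hB]; simp [transpose_mul, hA, Matrix.mul_assoc]
      exact (congrFun (congrFun this i) j).symm
    have Bd : B.det = A.det := by
      rw [hB, det_mul, det_mul, det_transpose]
      rcases Int.isUnit_iff.1 hU with h | h <;> rw [h] <;> ring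
    have Bp : ∀ x : Fin (n + 2) → ℤ, x ≠ 0 → 0 < x ⬝ᵥ B *ᵥ x := by
      intro x hx
      have : x ⬝ᵥ B *ᵥ x = (U *ᵥ x) ⬝ᵥ A *ᵥ (U *ᵥ x) := by
        rw [hB, ← mulVec_mulVec, ← mulVec_mulVec, dotProduct_mulVec, vecMul_transpose]
      rw [this]
      exact hp _ fun h => hx (eq_zero_of_mulVec_eq_zero hU.ne_zero h)
    have Bm : ∀ W : Matrix (Fin (n + 2)) (Fin (n + 2)) ℤ, IsUnit W.det → a ≤ (Wᵀ * B * W) 0 0 := by
      intro W hW
      refine hmin _ ⟨U * W, by rw [det_mul]; exact hU.mul hW, ?_⟩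
      rw [hB]; simp [transpose_mul, Matrix.mul_assoc]
    obtain ⟨b, hb⟩ : ∃ b : Fin (n + 1) → ℤ, b = fun i => B 0 i.succ := ⟨_, rfl⟩
    obtain ⟨S, hS⟩ : ∃ S : Matrix (Fin (n + 1)) (Fin (n + 1)) ℤ,
      S = of fun i j => a * B i.succ j.succ - b i * b j := ⟨_, rfl⟩
    have key : ∀ (t t' : ℤ) (y y' : Fin (n + 1) → ℤ),
        a * ((Fin.cons t y : Fin (n + 2) → ℤ) ⬝ᵥ B *ᵥ (Fin.cons t' y' : Fin (n + 2) → ℤ)) =
          (a * t + b ⬝ᵥ y) * (a * t' + b ⬝ᵥ y') + y ⬝ᵥ S *ᵥ y' := by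
      intro t t' y y'
      have e0 : ∀ i : Fin (n + 1), B i.succ 0 = b i := fun i => by rw [hb, Bs]
      have e1 : ∀ i : Fin (n + 1), B 0 i.succ = b i := fun i => by rw [hb]
      have e2 : y ⬝ᵥ S *ᵥ y' = a * ∑ i, y i * ∑ j, B i.succ j.succ * y' j - (b ⬝ᵥ y) * (b ⬝ᵥ y') := by
        simp only [hS, dotProduct, mulVec, of_apply, Finset.mul_sum, Finset.sum_mul]
        rw [Finset.sum_comm (f := fun x i => b i * y i * (b x * y' x)), ← Finset.sum_sub_distrib]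
        refine Finset.sum_congr rfl fun i _ => ?_
        rw [← Finset.sum_sub_distrib]
        refine Finset.sum_congr rfl fun j _ => by ring
      rw [e2]
      simp only [dotProduct, mulVec]
      rw [Fin.sum_univ_succ]
      simp only [Fin.sum_univ_succ (n := n + 1), Fin.cons_zero, Fin.cons_succ, e0, e1, hUa, mul_add,
        Finset.sum_add_distrib]
      have e3 : ∑ i, y i * (b i * t') = (∑ i, b i * y i) * t' := by
        rw [Finset.sum_mul]; exact Finset.sum_congr rfl fun i _ => by ring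
      rw [e3]; ring
    have Ss : Sᵀ = S := by ext i j; simp [hS, Bs j.succ, mul_comm]
    have Sp : ∀ y : Fin (n + 1) → ℤ, y ≠ 0 → 0 < y ⬝ᵥ S *ᵥ y := by
      intro y hy
      have h1 := Bp (Fin.cons (-(b ⬝ᵥ y)) (a • y)) fun h => hy (funext fun i => by
        have := congrFun h i.succ
        simpa [a0.ne'] using this)
      have h2 := key (-(b ⬝ᵥ y)) (-(b ⬝ᵥ y)) (a • y) (a • y)
      simp only [dotProduct_smul, mulVec_smul, smul_dotProduct, smul_eq_mul] at h2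
      have h3 := mul_pos a0 h1
      rw [h2] at h3
      have h4 : 0 < a * (a * (y ⬝ᵥ S *ᵥ y)) := by nlinarith
      exact (mul_pos_iff_of_pos_left a0).1 ((mul_pos_iff_of_pos_left a0).1 h4)
    have Sd : S.det = a ^ n * A.det := by
      have h1 : B * blk 1 (-b) (diagonal fun _ => a) = (blk a (fun i => B i.succ 0) Sᵀ)ᵀ := by
        ext i j
        refine Fin.cases ?_ (fun i => ?_) i <;> refine Fin.cases ?_ (fun j => ?_) j <;>
          simp [Matrix.mul_apply, Fin.sum_univ_succ (n := n + 1), blk, hUa, hS, hb, diagonal_apply,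
            Bs _ 0] <;> ring
      have h2 := congrArg det h1
      rw [det_mul, det_transpose, det_blk, det_blk, det_transpose, Bd] at h2
      simp only [det_diagonal, Finset.prod_const, Finset.card_univ, Fintype.card_fin] at h2
      apply mul_left_cancel₀ a0.ne'
      rw [← h2]; ring
    obtain ⟨V, hV, hVs⟩ := ih S Ss Sp
    rw [ent, Sd] at hVs
    obtain ⟨y, hy⟩ : ∃ y : Fin (n + 1) → ℤ, y = fun k => V k 0 := ⟨_, rfl⟩
    rw [← hy] at hVs
    obtain ⟨k, hk⟩ : ∃ k : ℤ, k = -((2 * (b ⬝ᵥ y) + a) / (2 * a)) := ⟨_, rfl⟩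
    have r0 := Int.emod_nonneg (2 * (b ⬝ᵥ y) + a) (show 2 * a ≠ 0 by omega)
    have r1 := Int.emod_lt_of_pos (2 * (b ⬝ᵥ y) + a) (show 0 < 2 * a by omega)
    have r2 := Int.emod_add_mul_ediv (2 * (b ⬝ᵥ y) + a) (2 * a)
    have r3 : -a ≤ 2 * (a * k + b ⬝ᵥ y) := by rw [hk]; nlinarith
    have r4 : 2 * (a * k + b ⬝ᵥ y) ≤ a := by rw [hk]; nlinarith
    have h5 := Bm ((blk 1 (fun _ => k) V).submatrix id (Equiv.swap 0 1)) (by
      rw [det_permute', det_blk]
      exact (Units.isUnit _).mul (by simpa using hV))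
    rw [ent] at h5
    have h6 : (fun i => (blk 1 (fun _ => k) V).submatrix id (Equiv.swap 0 1) i 0) =
        (Fin.cons k y : Fin (n + 2) → ℤ) := by
      funext i
      rw [submatrix_apply, Equiv.swap_apply_left, hy]
      refine Fin.cases ?_ (fun i => ?_) i <;> rfl
    rw [h6] at h5
    have h7 := mul_le_mul_of_nonneg_left h5 a0.le
    rw [key] at h7
    obtain ⟨s, hs⟩ : ∃ s, s = y ⬝ᵥ S *ᵥ y := ⟨_, rfl⟩
    rw [← hs] at h7 hVs
    have h8 : 3 * a ^ 2 ≤ 4 * s := by nlinarith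
    have h9 : (3 * a ^ 2) ^ (n + 1) ≤ (4 * s) ^ (n + 1) := pow_le_pow_left₀ (by positivity) h8 _
    have hm : (n + 1) * (n + 1 + 1) / 2 = n * (n + 1) / 2 + (n + 1) := by
      rw [← Nat.add_mul_div_left _ _ two_pos]; congr 1; ring
    rw [hm]
    generalize n * (n + 1) / 2 = m at hVs ⊢
    have h10 := mul_le_mul_of_nonneg_left hVs (show (0 : ℤ) ≤ 4 ^ (n + 1) by positivity)
    have h11 := mul_le_mul_of_nonneg_right h9 (show (0 : ℤ) ≤ 3 ^ m by positivity)
    apply le_of_mul_le_mul_left _ (pow_pos a0 n)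
    calc a ^ n * (a ^ (n + 1 + 1) * 3 ^ (m + (n + 1))) = (3 * a ^ 2) ^ (n + 1) * 3 ^ m := by ring
      _ ≤ (4 * s) ^ (n + 1) * 3 ^ m := h11
      _ = 4 ^ (n + 1) * (s ^ (n + 1) * 3 ^ m) := by ring
      _ ≤ _ := h10
      _ = _ := by ring

end Cfsg.Agent.H56.K5Herm
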