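import Cfsg.Agent.H17.KnDef2
import Cfsg.Agent.H64.KnMod3b

/-! Project KN, piece E16: elementary abelian groups of order 16 in the unitriangular group. -/

set_option autoImplicit false
set_option maxRecDepth 100000
set_option synthInstance.maxSize 100000
set_option synthInstance.maxHeartbeats 400000

namespace Cfsg.Agent.H56.KnE16

open Subgroup Cfsg.Agent.H17.Kn
open Cfsg.Agent.H64.KnG (T M5 Act T_mul T_inj T_one act_one act_ut act_U act_xc)

universe u

/-- the correction term -/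
def cor (p q r a b c : ℕ) : ℕ :=
  Nat.mul 2 (Nat.xor (Nat.xor (Nat.mul p a) (Nat.mul q b)) (Nat.mul r c))
/-- the correction term of a product -/
def corr (x y : ℕ) : ℕ := cor (Nat.land x 1) (Nat.land x 18) (Nat.land x 164)
  (Nat.mod (Nat.div y 16) 8) (Nat.mod (Nat.div y 128) 4) (Nat.div y 512)
/-- the product of codes -/
def mu (x y : ℕ) : ℕ := Nat.xor (Nat.xor x y) (corr x y)
/-- a digit -/
def dc (x i : ℕ) : ZMod 2 := if x.testBit i then 1 else 0
/-- the matrix of a code -/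
def Tn (x : ℕ) : M5 :=
  T (dc x 0) (dc x 1) (dc x 2) (dc x 3) (dc x 4) (dc x 5) (dc x 6) (dc x 7) (dc x 8) (dc x 9)
/-- commuting codes -/
def cm (x y : ℕ) : Bool := Nat.beq (corr x y) (corr y x)
/-- the codes of rank one -/
def tb (x : ℕ) : Bool := Nat.testBit 7360198307048065029934624620675715688448774695782720856767472279892934478438496306637611739022585347226933979317349336793710860752893844060806273230741889549207826821387945192178358632534358168227656813769589448426691679698148656052110925592126896340990 x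
/-- the codes of the involutions -/
def IV : List ℕ := [1, 2, 3, 4, 5, 6, 7, 8, 9, 10, 11, 12, 13, 14, 15, 16, 18, 20, 22, 24, 26, 28, 30,
  32, 34, 36, 38, 40, 42, 44, 46, 48, 50, 52, 54, 56, 58, 60, 62, 64, 66, 68, 70, 72, 74, 76, 78, 80,
  82, 84, 86, 88, 90, 92, 94, 96, 98, 100, 102, 104, 106, 108, 110, 112, 114, 116, 118, 120, 122,
  124, 126, 128, 129, 132, 133, 136, 137, 140, 141, 160, 163, 164, 167, 168, 171, 172, 175, 192, 196,
  200, 204, 224, 228, 232, 236, 256, 257, 260, 261, 264, 265, 268, 269, 288, 292, 296, 300, 320, 323,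
  324, 327, 328, 331, 332, 335, 352, 356, 360, 364, 384, 385, 388, 389, 392, 393, 396, 397, 416, 420,
  424, 428, 448, 452, 456, 460, 480, 483, 484, 487, 488, 491, 492, 495, 512, 513, 514, 515, 520, 521,
  522, 523, 528, 530, 536, 538, 576, 578, 581, 583, 584, 586, 589, 591, 592, 594, 600, 602, 768, 769,
  774, 775, 776, 777, 782, 783, 816, 822, 824, 830, 832, 835, 837, 838, 840, 843, 845, 846, 880, 886,
  888, 894]
/-- the position of an entry -/
def ix (i j : Fin 5) : ℕ := ![![0, 0, 1, 2, 3], ![0, 0, 4, 5, 6], ![0, 0, 0, 7, 8], ![0, 0, 0, 0, 9],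
  ![0, 0, 0, 0, 0]] i j
/-- the element with a given code -/
def el (x : ℕ) : N2 := ut fun i j => dc x (ix i j)
/-- the span of three codes -/
def sp (a b c : ℕ) : List ℕ := [0, a, b, mu a b, c, mu a c, mu b c, mu a (mu b c)]

theorem hA : ∀ x < 1024, Nat.land x 1 ∈ [0, 1] ∧ Nat.land x 18 ∈ [0, 2, 16, 18] ∧
    Nat.land x 164 ∈ [0, 4, 32, 36, 128, 132, 160, 164] ∧ dc x 0 = dc (Nat.land x 1) 0 ∧
    dc x 1 = dc (Nat.land x 18) 1 ∧ dc x 4 = dc (Nat.land x 18) 4 ∧
    dc x 2 = dc (Nat.land x 164) 2 ∧ dc x 5 = dc (Nat.land x 164) 5 ∧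
    dc x 7 = dc (Nat.land x 164) 7 := by decide +kernel

theorem hB : ∀ y < 1024, Nat.mod (Nat.div y 16) 8 < 8 ∧ Nat.mod (Nat.div y 128) 4 < 4 ∧
    Nat.div y 512 < 2 ∧ dc y 4 = dc (Nat.mod (Nat.div y 16) 8) 0 ∧
    dc y 5 = dc (Nat.mod (Nat.div y 16) 8) 1 ∧ dc y 6 = dc (Nat.mod (Nat.div y 16) 8) 2 ∧
    dc y 7 = dc (Nat.mod (Nat.div y 128) 4) 0 ∧ dc y 8 = dc (Nat.mod (Nat.div y 128) 4) 1 ∧
    dc y 9 = dc (Nat.div y 512) 0 := by decide +kernel

theorem hC : ∀ p ∈ [0, 1], ∀ q ∈ [0, 2, 16, 18], ∀ r ∈ [0, 4, 32, 36, 128, 132, 160, 164],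
    ∀ a < 8, ∀ b < 4, ∀ c < 2, cor p q r a b c < 2 ^ 10 ∧ dc (cor p q r a b c) 0 = 0 ∧
    dc (cor p q r a b c) 1 = dc p 0 * dc a 0 ∧
    dc (cor p q r a b c) 2 = dc p 0 * dc a 1 + dc q 1 * dc b 0 ∧
    dc (cor p q r a b c) 3 = dc p 0 * dc a 2 + dc q 1 * dc b 1 + dc r 2 * dc c 0 ∧
    dc (cor p q r a b c) 4 = 0 ∧ dc (cor p q r a b c) 5 = dc q 4 * dc b 0 ∧
    dc (cor p q r a b c) 6 = dc q 4 * dc b 1 + dc r 5 * dc c 0 ∧ dc (cor p q r a b c) 7 = 0 ∧
    dc (cor p q r a b c) 8 = dc r 7 * dc c 0 ∧ dc (cor p q r a b c) 9 = 0 := by decide +kernel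

theorem hI : ∀ x < 1024, mu x x = 0 → x = 0 ∨ x ∈ IV := by decide +kernel

theorem hS : ∀ a b c d e f g h k l : ZMod 2, ∃ x < 1024, Tn x = T a b c d e f g h k l := by
  have : ∀ a b c d e f g h k l : ZMod 2,
      let x := a.val + 2 * b.val + 4 * c.val + 8 * d.val + 16 * e.val + 32 * f.val + 64 * g.val +
        128 * h.val + 256 * k.val + 512 * l.val
      x < 1024 ∧ dc x 0 = a ∧ dc x 1 = b ∧ dc x 2 = c ∧ dc x 3 = d ∧ dc x 4 = e ∧ dc x 5 = f ∧
        dc x 6 = g ∧ dc x 7 = h ∧ dc x 8 = k ∧ dc x 9 = l := by decide +kernel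
  intro a b c d e f g h k l
  exact ⟨_, (this a b c d e f g h k l).1, T_inj.2 (this a b c d e f g h k l).2⟩

theorem hT : ∀ x < 1024, (tv (el x) ↔ tb x = true) := by decide +kernel

theorem s1 : ∀ a ∈ IV, tb a = false → ∀ b ∈ IV.filter (cm a), a ≤ b → tb b = false →
    b ≤ mu a b → tb (mu a b) = false → ∀ c ∈ (IV.filter (cm a)).filter (cm b), b ≤ c →
    tb c = false → c ≤ mu a c → c ≤ mu b c → c ≤ mu a (mu b c) → tb (mu a c) = false →
    tb (mu b c) = false → tb (mu a (mu b c)) = false →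
    ∀ d ∈ ((IV.filter (cm a)).filter (cm b)).filter (cm c), d ∈ sp a b c ∨
      ∃ e ∈ sp a b c, tb (mu e d) = true ∧ ∃ e' ∈ sp a b c, e ≠ e' ∧ tb (mu e' d) = true := by
  decide +kernel

theorem s2 : ∀ y < 1024, tb y = true → tb (mu y 8) = true → ∀ a ∈ IV, tb a = false →
    tb (mu y a) = true → tb (mu y (mu 8 a)) = true → ∀ b ∈ IV, tb b = false → tb (mu y b) = true →
    tb (mu y (mu 8 b)) = true → tb (mu a b) = false → tb (mu y (mu a b)) = true → mu a b = 0 := by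
  decide +kernel

end Cfsg.Agent.H56.KnE16
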