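import Mathlib
import Cfsg.Agent.H56.Closed
import Cfsg.Agent.H51.QdInv
import Cfsg.Agent.H51.ZJFun
import Cfsg.Agent.H54.KFusion

/-!
`Qd(p)`-free groups: `K_∞` controls strong fusion in every section.
-/

set_option autoImplicit false

namespace Cfsg.Agent.H56

open Subgroup Cfsg.Agent.H85

universe u

/-- a homomorphism on `L` killing `L ∩ C` extends to `L C` -/
theorem exists_section_of_hom {G Y : Type*} [Group G] [Group Y] {L C : Subgroup G}
    (hn : L ≤ normalizer (C : Set G)) (φ : L →* Y) (hφ : Function.Surjective φ)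
    (hk : C.subgroupOf L ≤ φ.ker) : ∃ (K : Subgroup G) (_ : (K.subgroupOf (L ⊔ C)).Normal),
      C ≤ K ∧ K ≤ L ⊔ C ∧ Nonempty ((↥(L ⊔ C) ⧸ K.subgroupOf (L ⊔ C)) ≃* Y) := by
  have := normal_subgroupOf_of_le_normalizer hn
  have := normal_subgroupOf_sup_of_le_normalizer hn
  let e := QuotientGroup.quotientInfEquivProdNormalizerQuotient L C hn
  let ψ : ↥(L ⊔ C) →* Y := (QuotientGroup.lift _ φ hk).comp
    (e.symm.toMonoidHom.comp (QuotientGroup.mk' _))
  have hψ : Function.Surjective ψ :=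
    (QuotientGroup.lift_surjective_of_surjective _ φ hφ hk).comp
      (e.symm.surjective.comp (QuotientGroup.mk'_surjective _))
  have h : (ψ.ker.map (L ⊔ C).subtype).subgroupOf (L ⊔ C) = ψ.ker :=
    comap_map_eq_self_of_injective (L ⊔ C).subtype_injective _
  have hN : ((ψ.ker.map (L ⊔ C).subtype).subgroupOf (L ⊔ C)).Normal := h.symm ▸ inferInstance
  refine ⟨ψ.ker.map (L ⊔ C).subtype, hN, fun c hc => ⟨⟨c, mem_sup_right hc⟩, ?_, rfl⟩,
    map_subtype_le _, ⟨(QuotientGroup.quotientMulEquivOfEq h).trans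
      (QuotientGroup.quotientKerEquivOfSurjective ψ hψ)⟩⟩
  have h1 : QuotientGroup.mk' (C.subgroupOf (L ⊔ C)) ⟨c, mem_sup_right hc⟩ = 1 :=
    (QuotientGroup.eq_one_iff _).2 hc
  change QuotientGroup.lift _ φ hk (e.symm (QuotientGroup.mk' _ _)) = 1
  rw [h1, map_one, map_one]

variable {p : ℕ} [Fact p.Prime]

theorem qdFree_of_automizers {G : Type*} [Group G] [Finite G]
    (hfree : ∀ Q : Subgroup G, IsPGroup p Q → ¬ ∃ (H K : Subgroup G) (_ : (K.subgroupOf H).Normal),
      centralizer (Q : Set G) ≤ K ∧ K ≤ H ∧ H ≤ normalizer (Q : Set G) ∧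
      Nonempty ((H ⧸ K.subgroupOf H) ≃* Matrix.SpecialLinearGroup (Fin 2) (ZMod p))) :
    ¬ Involves (qd p) G := by
  intro h
  obtain ⟨K, f, hf⟩ := H54.involves_iff.1 h
  obtain ⟨P, hP, hPV, hN⟩ := H51.exists_isPGroup_map_normalizer hf
    (H54.Aff.isPGroup_V (Q := qd p) p)
  rw [normalizer_eq_top (H54.Aff.V (qd p))] at hN
  set L := (normalizer (P : Set K)).map K.subtype
  have hL : L ≤ normalizer ((P.map K.subtype : Subgroup G) : Set G) := le_normalizer_map _
  have hLK : L ≤ K := map_subtype_le _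
  let φ : L →* Matrix.SpecialLinearGroup (Fin 2) (ZMod p) :=
    H54.Aff.lin.comp (f.comp (inclusion hLK))
  have hφ : Function.Surjective φ := by
    intro A
    obtain ⟨M, rfl⟩ := H54.Aff.lin_surjective (Q := qd p) A
    obtain ⟨x, hx, rfl⟩ : M ∈ (normalizer (P : Set K)).map f := by rw [hN]; trivial
    exact ⟨⟨x, mem_map_of_mem _ hx⟩, rfl⟩
  obtain ⟨R, hR, h1, h2, h3⟩ := exists_section_of_hom
    (hL.trans (normalizer_le_normalizer_centralizer _)) φ hφ (fun x hx => by
      change f (inclusion hLK x) ∈ H54.Aff.lin.ker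
      rw [H54.Aff.ker_lin, ← H54.Aff.centralizer_V, ← hPV, mem_centralizer_iff]
      rintro _ ⟨y, hy, rfl⟩
      rw [← map_mul, ← map_mul]
      exact congrArg f (Subtype.ext (mem_centralizer_iff.1 hx _ (mem_map_of_mem _ hy))))
  exact hfree _ (hP.map _) ⟨_, R, hR, h1, h2, sup_le hL (centralizer_le_normalizer _), h3⟩

theorem fusCtl_kInf_of_qdFree (hp : p ≠ 2) {G : Type u} [Group G] [Finite G]
    (h : ¬ Involves (qd p) G) (Y : Type u) [Group Y] (hY : IsSec Y G) :
    FusCtl p {@kInfLower.{u}} Y := by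
  have := hY.finite
  have hW := H54.isCharPFunctor_kInfLower.{u} p
  obtain ⟨S⟩ : Nonempty (Sylow p Y) := inferInstance
  obtain ⟨T, h1, h2⟩ := controlsStrongFusion_iff.1 (H54.kInf_controlsStrongFusion (Or.inl rfl)
    (fun K R _ => H51.isNormalizerPStable_of_qdFree hp fun h' => h (H54.involves_trans h'
      (H54.involves_trans (H54.involves_section K R) (H54.involves_iff.2 hY)))) S)
  rw [fusCtl_iff (by rintro _ rfl; exact hW) (isSyl_top T), indFam_singleton,
    famFus_singleton_iff, top_inf_eq]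
  have hc := isConjugacyFunctor_induced hW Y
  -- `S` and `T` are Sylow subgroups of the normalizer of `W(S)`
  have h3 := h2.le_norm h1
  have h4 := le_normalizer.trans (functor_normalizer hc S.isPGroup')
  obtain ⟨g, hg, hgT⟩ := (isSyl_of_sylow_le S h4).exists_cj_eq (isSyl_of_sylow_le T h3)
  rwa [← hgT, functor_cj hc S.isPGroup', cj_eq_of_mem_normalizer hg, hgT]

end Cfsg.Agent.H56
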