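import Mathlib
import Cfsg.Agent.H54.KInfCor
import Cfsg.Agent.H54.AbRes
import Cfsg.Agent.H53.Stable
import Cfsg.Agent.H7.Bender
import Cfsg.Agent.H24.PSolv
import Cfsg.Agent.H85.Basic
import Cfsg.Agent.H4.CoprimeGen

/-! Elements acting quadratically on the Fitting subgroup of a solvable group. -/

set_option autoImplicit false

namespace Cfsg.Agent.H56

open Subgroup Cfsg

variable {G : Type*} [Group G]

theorem chief_commutator_le_of_quadratic [Finite G] {p : ℕ} [Fact p.Prime] (hp : 5 ≤ p)
    (hG : IsPSolvable p G) {U V : Subgroup G} (h : IsChiefFactor U V) (hU : IsPGroup p U) {g : G}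
    (h1 : ⁅⁅U, zpowers g⁆, zpowers g⁆ ≤ V) : ⁅U, zpowers g⁆ ≤ V := by
  have := h.2.2.1
  have := h.2.1
  have hsurj := QuotientGroup.mk'_surjective V
  have := h.2.1.map _ hsurj
  set P := U.map (QuotientGroup.mk' V) with hP
  have hq : ⁅⁅P, zpowers (QuotientGroup.mk' V g)⁆, zpowers (QuotientGroup.mk' V g)⁆ = ⊥ := by
    rw [← MonoidHom.map_zpowers, hP, ← map_commutator, ← map_commutator,
      Subgroup.map_eq_bot_iff, QuotientGroup.ker_mk']
    exact h1
  have hel : IsElementaryAbelian p P := by
    constructor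
    · have h2 := H54.chief_commutator_le_of_isPGroup h hU hU
      rw [← le_centralizer_iff_isMulCommutative, ← commutator_eq_bot_iff_le_centralizer, hP,
        ← map_commutator, Subgroup.map_eq_bot_iff, QuotientGroup.ker_mk']
      exact h2
    · rintro _ ⟨u, hu, rfl⟩
      rw [← map_pow, QuotientGroup.mk'_apply, QuotientGroup.eq_one_iff]
      exact H54.chief_pow_mem h hU hu
  have hg := H53.isPStableOn_of_isPSolvable hp (H53.isPSolvable_quotient hG V) P hel _ hq
  let ψ := (QuotientGroup.mk' (centralizer (P : Set (G ⧸ V)))).comp (QuotientGroup.mk' V)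
  have hD : ⁅U, (pCore p _).comap ψ⁆ ≤ V := by
    refine H54.chief_commutator_le_of_coprime h hU fun x hx hc => ?_
    have h3 := H54.coprime_orderOf_of_mem_isPGroup (H3.pCore_isPGroup p _) hc hx
    have h4 := Nat.Coprime.eq_one_of_dvd h3.symm (orderOf_map_dvd ψ x)
    rw [orderOf_eq_one_iff] at h4
    have h5 : QuotientGroup.mk' V x ∈ centralizer (P : Set (G ⧸ V)) :=
      (QuotientGroup.eq_one_iff _).mp h4
    rw [commutator_comm, H54.commutator_le_iff_map_mk', MonoidHom.map_zpowers, zpowers_le]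
    exact h5
  have hg' : g ∈ (pCore p _).comap ψ := hg
  exact (commutator_mono le_rfl (zpowers_le.mpr hg')).trans hD

/-- A normal subgroup of a solvable group stabilizing all chief factors inside the subgroups
`O_p(G)` is nilpotent. -/
theorem le_fitting_of_le_chiefStab [Finite G] [Group.IsSolvable G] {D : Subgroup G} [D.Normal]
    (hD : ∀ p : ℕ, p.Prime → D ≤ H54.chiefStab (pCore p G)) : D ≤ fittingSubgroup G := by
  refine H4.le_of_forall_sylow_le fun q _ => ?_
  have hq : q.Prime := Fact.out
  obtain ⟨P⟩ : Nonempty (Sylow q D) := inferInstance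
  refine ⟨P, ?_⟩
  have hT := H85.isSyl_map_subtype P
  generalize (P : Subgroup D).map D.subtype = T at hT
  have hF := H7.fitP'_normal (p := q) (G := G)
  have h1 : T ≤ centralizer (H7.fitP' q G : Set G) := by
    rw [le_centralizer_iff]
    refine H4.le_of_forall_sylow_le fun r _ => ?_
    have hr : r.Prime := Fact.out
    obtain ⟨R⟩ : Nonempty (Sylow r (H7.fitP' q G)) := inferInstance
    refine ⟨R, ?_⟩
    have hR := H85.isSyl_map_subtype R
    generalize (R : Subgroup (H7.fitP' q G)).map (H7.fitP' q G).subtype = R' at hR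
    by_cases hqr : r = q
    · subst hqr
      have h2 := H3.inf_eq_bot_of_isPGroup_of_coprime hR.isPGroup H7.coprime_fitP'
      rw [inf_eq_left.2 hR.le] at h2
      rw [h2]; exact bot_le
    · refine (H3.le_pCore_of_le_fitting hR.isPGroup (hR.le.trans inf_le_left)).trans ?_
      rw [← le_centralizer_iff]
      intro t ht
      refine H54.mem_centralizer_of_mem_chiefStab (H3.pCore_isPGroup r G) ?_ (hD r hr (hT.le ht))
      exact (H54.coprime_orderOf_of_mem_isPGroup hT.isPGroup
        ((Nat.coprime_primes hr hq).2 hqr) ht).symm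
  let E := D ⊓ centralizer (H7.fitP' q G : Set G)
  have hTE : H85.IsSyl q T E := hT.of_le (le_inf hT.le h1) inf_le_left
  have h2 : H85.resOf q E ≤ H7.fitP' q G := by
    refine H85.resOf_le_iff.2 fun y hy hc => H7.mem_fitP'_of_mem_fitting ?_ hc
    apply H3.centralizer_fitting_le
    intro x hx
    obtain ⟨a, ha, b, hb, rfl⟩ := (H7.mem_fitting_iff (p := q)).1 hx
    have h3 := H54.mem_centralizer_of_mem_chiefStab (H3.pCore_isPGroup q G) hc (hD q hq hy.1) a ha
    rw [mul_assoc, hy.2 b hb, ← mul_assoc, h3, mul_assoc]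
  have h3 : E ≤ normalizer (T : Set G) := by
    rw [← hTE.resOf_sup]
    exact sup_le (h2.trans ((le_centralizer_iff.1 h1).trans (centralizer_le_normalizer _)))
      le_normalizer
  exact ((H85.le_pCoreOf hTE.le hTE.isPGroup h3).trans (H85.pCoreOf_le_pCore E)).trans
    H3.pCore_le_fitting

theorem mem_fitting_of_quadratic [Finite G] [Group.IsSolvable G]
    (h5 : ∀ p : ℕ, p.Prime → p ∣ Nat.card (fittingSubgroup G) → 5 ≤ p) {a : G}
    (ha : ⁅⁅fittingSubgroup G, zpowers a⁆, zpowers a⁆ = ⊥) : a ∈ fittingSubgroup G := by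
  let D : Subgroup G := ⨅ p : Nat.Primes, H54.chiefStab (pCore p G)
  have : D.Normal := normal_iInf_normal fun p => H54.chiefStab_normal _
  refine le_fitting_of_le_chiefStab (D := D) (fun p hp => iInf_le_of_le ⟨p, hp⟩ le_rfl) ?_
  rw [mem_iInf]
  rintro ⟨p, hp⟩
  have : Fact p.Prime := ⟨hp⟩
  refine H54.mem_chiefStab.2 fun U V hUV hU => ?_
  have hUp : IsPGroup p U := (H3.pCore_isPGroup p G).to_le hU
  have hUF : U ≤ fittingSubgroup G := hU.trans H3.pCore_le_fitting
  have hp5 : 5 ≤ p := by
    refine h5 p hp (dvd_trans ?_ (card_dvd_of_le hUF))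
    obtain ⟨n, hn⟩ := IsPGroup.iff_card.1 hUp
    rcases n with _ | n
    · exact absurd (eq_bot_of_card_eq _ (by simpa using hn)) (ne_bot_of_gt hUV.1)
    · rw [hn]; exact dvd_pow_self p n.succ_ne_zero
  refine chief_commutator_le_of_quadratic hp5 (H24.isPSolvable_of_isSolvable hp G inferInstance)
    hUV hUp ?_
  exact ((commutator_mono (commutator_mono hUF le_rfl) le_rfl).trans ha.le).trans bot_le

end Cfsg.Agent.H56
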