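import Cfsg.Agent.H56.R3C3
import Cfsg.Agent.H56.R3S
import Cfsg.Agent.H10.R3Ev
import Cfsg.Agent.H66.Grid
import Cfsg.Agent.S0547
import Cfsg.Agent.S0144
import Cfsg.Agent.S3378
import Cfsg.Agent.H3.Fitting

/-! Rank 3 groups with a Frobenius point stabiliser: the assembly. -/

set_option autoImplicit false

namespace Cfsg.Agent.H56.R3

open MulAction

universe u v

variable {G : Type u} {X : Type v} [Group G] [MulAction G X]

theorem reg_of_solv [Finite G] [FaithfulSMul G X] [Nonempty X] [Nontrivial G]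
    (hp : IsPreprimitive G X) (hs : Group.IsSolvable G) :
    (∃ p d : ℕ, p.Prime ∧ Nat.card X = p ^ d) ∧
      ∃ N : Subgroup G, N.Normal ∧ Nat.card N = Nat.card X ∧
        ∀ x y : X, ∃! n : ↥N, (n : G) • x = y := by
  obtain ⟨M, hM, h1, h2⟩ := H3.exists_minimal_normal G
  obtain ⟨ht, hst, p, d, h3, -, h4, h5⟩ := S0547.result hp M h1 h2
  refine ⟨⟨p, d, h3, h4⟩, M, hM, h5.trans h4.symm, fun x y => ?_⟩
  obtain ⟨n, hn⟩ := ht.exists_smul_eq x y
  refine ⟨n, hn, fun m hm => ?_⟩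
  have : n⁻¹ * m ∈ stabilizer M x := by
    rw [mem_stabilizer_iff, mul_smul, inv_smul_eq_iff, hn]
    exact hm
  rw [hst, Subgroup.mem_bot, inv_mul_eq_one] at this
  exact this.symm

theorem Data.semi [Finite G] (D : Data G X) (hh : Even D.h) (h : ¬ D.Cen) : D.Semi :=
  fun x y hxy c hc e => by
    by_contra h1
    exact h ⟨x, y, hxy, c, hc, h1, fun d hd => D.K_comm hh hd hc, e⟩

theorem Data.even_h [Finite G] [Finite X] (D : Data G X) (hk : Odd D.k) : Even D.h := by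
  by_contra h
  rw [Nat.not_even_iff_odd] at h
  obtain ⟨A⟩ := D.nonempty
  obtain ⟨C, hC⟩ := D.ex2 A
  have h1 := D.orb_J hC
  have h2 : Odd {z | D.nadj A z}.ncard := (Nat.odd_mul.1 (h1 ▸ hk.mul h)).1
  have h3 := D.even
  rw [D.card_G, D.card_X A] at h3
  exact Nat.not_even_iff_odd.2 (((odd_one.add_odd hk).add_odd h2).mul (hk.mul h)) h3

theorem main (hR : SrgStmt.{v}) (hA : ArithStmt) [Finite G] [Fintype X] [FaithfulSMul G X]
    (heven : Even (Nat.card G)) (hprim : IsPreprimitive G X) (A : X)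
    (h3 : Nat.card (orbitRel.Quotient ↥(stabilizer G A) X) = 3) (B : X) (hBA : B ≠ A)
    (hfaith : ∀ g ∈ stabilizer G A, (∀ h ∈ stabilizer G A, g • (h • B) = h • B) → g = 1)
    (hfix : ∃ g ∈ stabilizer G A, g ≠ 1 ∧ g • B = B)
    (hfrob : ∀ g ∈ stabilizer G A, ∀ h ∈ stabilizer G A, g • B = B → g • (h • B) = h • B →
      h • B ≠ B → g = 1) :
    (Nonempty (G ≃* ↥(alternatingGroup (Fin 5))) ∧ Fintype.card X = 10) ∨
    (Group.IsSolvable G ∧ ∃ N : Subgroup G, N.Normal ∧ Nat.card N = 16 ∧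
      ∀ x y : X, ∃! n : ↥N, (n : G) • x = y) := by
  obtain ⟨D⟩ := setup G X heven hprim A h3 B hBA hfix hfaith hfrob
  have : Nonempty X := ⟨A⟩
  have : Nontrivial G := by
    obtain ⟨g, -, h1, -⟩ := hfix
    exact ⟨g, 1, h1⟩
  have hG := D.card_G
  have key : ∀ q a b : ℕ, q.Prime → Nat.card G = 2 ^ a * q ^ b → Nat.card X = 16 →
      (Group.IsSolvable G ∧ ∃ N : Subgroup G, N.Normal ∧ Nat.card N = 16 ∧
        ∀ x y : X, ∃! n : ↥N, (n : G) • x = y) := fun q a b hq h1 h2 => by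
    have hs : Group.IsSolvable G := S0144.result _ _ _ _ Nat.prime_two hq h1
    exact ⟨hs, h2 ▸ (reg_of_solv hprim hs).2⟩
  by_cases hc : D.Cen
  · obtain ⟨h1, h2⟩ := H66.Grid.grid G X D hc
    obtain ⟨e, -, he⟩ := D.dvd
    obtain ⟨a, -, ha⟩ := (Nat.dvd_prime_pow Nat.prime_two).1
      (show D.h ∣ 2 ^ 3 from Dvd.intro_left e (by omega))
    exact Or.inr (key 3 (4 + a) 2 Nat.prime_three (by rw [hG, h1, h2, ha]; ring) h1)
  have hk : Odd D.k := Nat.not_even_iff_odd.1 fun h => hc (H10.R3.even G X hprim D h)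
  have hh := D.even_h hk
  obtain ⟨b, v, u, w, j1, j2, th, hN⟩ := count H10.R3.tq hR G X D (D.semi hh hc) hk hh
  rcases hA _ _ _ _ _ _ _ _ _ _ hN with ⟨h1, h2, h4⟩ | ⟨h1, h2, h4⟩
  · refine Or.inl ⟨S3378.equiv_A5 (by rw [hG, h1, h2, h4]) fun hs => ?_,
      by rw [← Nat.card_eq_fintype_card, h1]⟩
    obtain ⟨p, d, hp, h5⟩ := (reg_of_solv hprim hs).1
    rw [h1] at h5
    have e2 := (Nat.prime_dvd_prime_iff_eq Nat.prime_two hp).1
      (Nat.prime_two.dvd_of_dvd_pow (h5 ▸ (by norm_num : 2 ∣ 10)))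
    have e5 := (Nat.prime_dvd_prime_iff_eq Nat.prime_five hp).1
      (Nat.prime_five.dvd_of_dvd_pow (h5 ▸ (by norm_num : 5 ∣ 10)))
    omega
  · exact Or.inr (key 5 6 1 Nat.prime_five (by rw [hG, h1, h2, h4]; norm_num) h1)

end Cfsg.Agent.H56.R3
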