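import Mathlib
import Cfsg.Agent.H56.Closed
import Cfsg.Agent.H56.Triple

/-!
Alperin's theorem with centric radical subgroups; products of subgroups controlling strong fusion;
passage from a normal subgroup to the whole group.
-/

set_option autoImplicit false

namespace Cfsg.Agent.H56

open Subgroup Cfsg.Agent.H85

variable {G : Type*} [Group G] {p : ℕ}

/-- `N(R) / R C(R)` has no nontrivial normal `p`-subgroup -/
def Radical (p : ℕ) (R : Subgroup G) : Prop :=
  ∀ X, X ≤ normalizer (R : Set G) → normalizer (R : Set G) ≤ normalizer (X : Set G) →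
    R ⊔ centralizer (R : Set G) ≤ X → PQuot p (R ⊔ centralizer (R : Set G)) X →
    X = R ⊔ centralizer (R : Set G)

/-- Alperin's theorem with extremal centric radical subgroups -/
theorem IsGood.alperin_radical [Fact p.Prime] [Finite G] {Good : Subgroup G → G → Prop}
    (hG : IsGood Good) (hcent : ∀ (A : Subgroup G), ∀ c ∈ centralizer (A : Set G), Good A c)
    {S : Subgroup G} (hS : IsSyl p S ⊤)
    (step : ∀ U ≤ S, Extremal p ⊤ S U → S ⊓ centralizer (U : Set G) ≤ U → Radical p U →
      ∀ y ∈ normalizer (U : Set G), Good U y) : GoodIn Good ⊤ S := by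
  intro A hA y hy hyA
  refine hG.alperin hS (fun _ => True) (fun _ _ _ _ => trivial) (fun _ _ _ _ => trivial)
    (fun U hUS hU _ ih y _ hy => ?_) A hA trivial y hy hyA
  by_cases hc : S ⊓ centralizer (U : Set G) ≤ U
  swap
  · exact hG.of_not_centric hcent hS hUS hU hc (fun T h1 h2 => ih T h1 h2 trivial) trivial hy
  by_cases hr : Radical p U
  · exact step U hUS hU hc hr y hy
  simp only [Radical, not_forall] at hr
  obtain ⟨X, h1, h2, h3, h4, h5⟩ := hr
  rw [Extremal, top_inf_eq] at hU
  have h6 := hU.inf_of_le_normalizer h1 h2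
  set T := S ⊓ normalizer (U : Set G) ⊓ X
  have h7 := h6.sup_eq_of_pquot h3
    (h1.trans (le_normalizer_sup le_rfl (normalizer_le_normalizer_centralizer U))) h4
  have hTU : ¬ T ≤ U := fun h => h5 (by rw [← h7, sup_eq_left]; exact h.trans le_sup_left)
  have hUT : U ≤ T := le_inf (le_inf hUS le_normalizer) (le_sup_left.trans h3)
  have h8 : y ∈ centralizer (U : Set G) ⊔ (normalizer (U : Set G) ⊓ normalizer (T : Set G)) := by
    rw [← h6.frattini h1 h2, ← h7] at hy
    have h9 : T ≤ normalizer (U : Set G) ⊓ normalizer (T : Set G) :=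
      le_inf (h6.le.trans h1) le_normalizer
    exact sup_le (sup_le (sup_le ((hUT.trans h9).trans le_sup_right) le_sup_left)
      (h9.trans le_sup_right)) le_sup_right hy
  obtain ⟨c, hc', n, hn, rfl⟩ := (mem_sup_of_le_normalizer
    (inf_le_left.trans (normalizer_le_normalizer_centralizer U))).1 h8
  have h9 : T ≤ S := inf_le_left.trans inf_le_left
  refine hG.trans _ _ _ (hG.mono _ _ _ hUT (ih T h9
    (card_lt_of_lt (lt_of_le_of_ne hUT fun h => hTU h.ge)) trivial n trivial
      ((cj_eq_of_mem_normalizer hn.2).le.trans h9))) (hcent _ c ?_)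
  rwa [cj_eq_of_mem_normalizer hn.1]

theorem subFus_iSup [Fact p.Prime] [Finite G] {S : Subgroup G} (hS : IsSyl p S ⊤) {ι : Sort*}
    {V : ι → Subgroup G} (hV : ∀ i, V i ≤ S)
    (h : ∀ i, SubFus (normalizer (V i : Set G)) ⊤ S) :
    SubFus (normalizer ((⨆ i, V i : Subgroup G) : Set G)) ⊤ S := by
  refine (isGood_sub _).alperin_radical (fun A c hc => ⟨1, one_mem _, by simpa using hc⟩) hS
    fun U hU _ hc hr y hy => ⟨y, ?_, by simp⟩
  rw [← cj_eq_iff_mem_normalizer, cj, Subgroup.map_iSup]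
  refine iSup_congr fun i => cj_eq_of_mem_normalizer ?_
  exact H7.IsStronglyClosed.normalizer_le ((h i).isStronglyClosed_of_le_normalizer (hV i) le_rfl) hU
    ((h i).le_of_radical hS.isPGroup (hV i) hU hc hr) hy

theorem subFus_subgroupOf_iff {K N T : Subgroup G} (hT : T ≤ N) :
    SubFus (K.subgroupOf N) ⊤ (T.subgroupOf N) ↔ SubFus (N ⊓ K) N T := by
  constructor
  · intro h A hA y hy hyA
    obtain ⟨x, hx, hxy⟩ := h (A.subgroupOf N) (comap_mono hA) ⟨y, hy⟩ trivial
      (by rw [cj_subgroupOf]; exact comap_mono hyA)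
    refine ⟨x, ⟨x.2, hx⟩, mem_centralizer_iff.2 fun a ha => ?_⟩
    exact congrArg Subtype.val (mem_centralizer_iff.1 hxy ⟨a, hT (hA ha)⟩ ha)
  · intro h A hA y _ hyA
    obtain ⟨x, hx, hxy⟩ := h (A.map N.subtype) (map_le_iff_le_comap.2 hA) y y.2
      (by rw [← map_subtype_cj]; exact map_le_iff_le_comap.2 hyA)
    refine ⟨⟨x, hx.1⟩, hx.2, mem_centralizer_iff.2 fun a ha => Subtype.ext ?_⟩
    exact mem_centralizer_iff.1 hxy _ (mem_map_of_mem _ ha)

theorem SubFus.cj {K H T : Subgroup G} (h : SubFus K H T) (g : G) :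
    SubFus (cj g K) (cj g H) (cj g T) := by
  intro A hA y hy hyA
  obtain ⟨x, hx, hxy⟩ := h (H85.cj g⁻¹ A) ((le_cj_iff_cj_inv_le g).1 hA) (g⁻¹ * y * g) (mem_cj.1 hy)
    (by
      rw [← cj_mul, mul_inv_cancel_right, cj_mul]
      exact (le_cj_iff_cj_inv_le g).1 hyA)
  refine ⟨_, conj_mem_cj hx, ?_⟩
  rw [← cj_centralizer, mem_cj] at hxy
  convert hxy using 1; group

/-- control of strong fusion passes from a normal subgroup to the whole group -/
theorem subFus_of_normal [Fact p.Prime] [Finite G] {S N W : Subgroup G} [N.Normal]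
    (hS : IsSyl p S ⊤) (hW : W ≤ S ⊓ N)
    (hn : normalizer ((S ⊓ N : Subgroup G) : Set G) ≤ normalizer (W : Set G))
    (h : SubFus (N ⊓ normalizer (W : Set G)) N (S ⊓ N)) :
    SubFus (normalizer (W : Set G)) ⊤ S := by
  have hT := hS.inf_of_le_normalizer (le_top (a := N)) le_normalizer_of_normal
  have key : ∀ B ≤ W, normalizer (W : Set G) ≤ normalizer (B : Set G) → IsStronglyClosed B S := by
    refine fun B hB hBn => ⟨hB.trans (hW.trans inf_le_left), fun x hx g hg => ?_⟩
    have h2 : g ∈ N ⊔ (⊤ ⊓ normalizer ((S ⊓ N : Subgroup G) : Set G)) := by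
      rw [hT.frattini le_top le_normalizer_of_normal]; trivial
    obtain ⟨k, hk, n, hn', rfl⟩ := (mem_sup_of_le_normalizer le_normalizer_of_normal).1 h2
    have h3 : n * x * n⁻¹ ∈ B := (mem_normalizer_iff.1 (hBn (hn hn'.2)) x).1 hx
    have e : k * n * x * (k * n)⁻¹ = k * (n * x * n⁻¹) * k⁻¹ := by group
    rw [e] at hg ⊢
    obtain ⟨y, hy, hyk⟩ := h (zpowers (n * x * n⁻¹)) (zpowers_le.2 (hW (hB h3))) k hk (by
      rw [cj_zpowers]
      exact zpowers_le.2 ⟨hg, N.mul_mem (N.mul_mem hk (hW (hB h3)).2) (N.inv_mem hk)⟩)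
    rw [← conj_eq_iff_mem_centralizer.2 hyk _ (mem_zpowers _)]
    exact (mem_normalizer_iff.1 (hBn hy.2) _).1 h3
  have := (hT.isPGroup.to_le hW).isNilpotent
  obtain ⟨n, hn'⟩ := H54.exists_iterCommutator_eq_bot (le_refl W) (le_refl W)
  have h1 : SC S W W := SC.of_seq (iterCommutator W W)
    (fun i => key _ (H54.iterCommutator_le le_normalizer i)
      (H54.le_normalizer_iterCommutator le_rfl le_rfl i)) (fun _ => le_rfl) (hn' ▸ SC.bot)
  refine (h1.step (isStronglyClosed_self S) (H54.commutator_le_of_le_normalizer' ?_)).subFus hS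
    (key W le_rfl le_rfl)
  exact (le_normalizer_inf le_normalizer le_normalizer_of_normal).trans hn

theorem subFus_ncl [Fact p.Prime] [Finite G] {S N V : Subgroup G} [N.Normal]
    (hS : IsSyl p S ⊤) (hV : V ≤ S ⊓ N)
    (h : SubFus (N ⊓ normalizer (V : Set G)) N (S ⊓ N)) :
    SubFus (normalizer ((ncl V (normalizer ((S ⊓ N : Subgroup G) : Set G)) : Subgroup G) : Set G))
      ⊤ S := by
  have hT := hS.inf_of_le_normalizer (le_top (a := N)) le_normalizer_of_normal
  set T := S ⊓ N
  have hW : ncl V (normalizer (T : Set G)) ≤ T := ncl_le_of_le_normalizer hV le_rfl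
  refine subFus_of_normal hS hW (le_normalizer_ncl _ _) ?_
  have h1 := subFus_iSup (isSyl_top hT.toSylow)
    (V := fun x : normalizer (T : Set G) => (cj (x : G) V).subgroupOf N)
    (fun x => comap_mono (cj_le_of_mem_normalizer hV x.2)) fun x => by
      have := h.cj x
      rw [cj_inf, cj_normal, cj_normalizer, cj_eq_of_mem_normalizer x.2,
        ← subFus_subgroupOf_iff hT.le, subgroupOf_normalizer_eq
          ((cj_le_of_mem_normalizer hV x.2).trans hT.le)] at this
      exact this
  rw [← subFus_subgroupOf_iff hT.le, subgroupOf_normalizer_eq (hW.trans hT.le)]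
  rw [hT.coe_toSylow] at h1
  convert h1
  apply map_injective N.subtype_injective
  rw [map_subgroupOf_eq_of_le (hW.trans hT.le), Subgroup.map_iSup, ncl, iSup_subtype']
  exact iSup_congr fun x =>
    (map_subgroupOf_eq_of_le ((cj_le_of_mem_normalizer hV x.2).trans hT.le)).symm

end Cfsg.Agent.H56
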