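import Cfsg.Agent.H46.J1Defs
import Cfsg.Agent.H10.SylowUtil

/-!
# The elementary abelian group of order 16 is weakly closed
-/

set_option autoImplicit false
open scoped Pointwise commutatorElement
open Subgroup

namespace Cfsg.Agent.H56.S94Jg1
open Cfsg.Agent.H46.S94

universe u

local notation "C[" A "]" => Subgroup.centralizer (SetLike.coe A)
local notation "N[" A "]" => Subgroup.normalizer (SetLike.coe A)

variable {Γ : Type} [Group Γ] {G : Type u} [Group G] {φ : Γ →* G} {F : Subgroup G} {t : G}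
  {O : Subgroup G} {z σ ρ : Γ} {V L : Subgroup Γ}

theorem tw_conj {x : G} (hx : Tw x) (g : G) : Tw (g * x * g⁻¹) := by
  obtain ⟨n, e⟩ := hx
  exact ⟨n, by rw [conj_pow, e]; group⟩

theorem tw_of_mem {S : Subgroup G} (hS : IsPGroup 2 S) {x : G} (hx : x ∈ S) : Tw x := by
  obtain ⟨n, e⟩ := hS ⟨x, hx⟩
  exact ⟨n, by simpa using congrArg Subtype.val e⟩

theorem memE (cx : Cx φ t O) {x : G} :
    x ∈ St1 (V.map φ) t ↔ ∃ v ∈ V, x = φ v ∨ x = φ v * t := by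
  constructor
  · intro hx
    let S : Subgroup G :=
      { carrier := {x | ∃ v ∈ V, x = φ v ∨ x = φ v * t}
        one_mem' := ⟨1, V.one_mem, Or.inl (by simp)⟩
        mul_mem' := by
          rintro _ _ ⟨a, ha, rfl | rfl⟩ ⟨b, hb, rfl | rfl⟩
          · exact ⟨a * b, V.mul_mem ha hb, Or.inl (by simp)⟩
          · exact ⟨a * b, V.mul_mem ha hb, Or.inr (by simp [mul_assoc])⟩
          · refine ⟨a * b, V.mul_mem ha hb, Or.inr ?_⟩
            rw [map_mul, mul_assoc, mul_assoc, cx.AC]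
          · refine ⟨a * b, V.mul_mem ha hb, Or.inl ?_⟩
            rw [map_mul, mul_assoc, cx.AC b, ← mul_assoc t t, cx.tt, one_mul]
        inv_mem' := by
          rintro _ ⟨a, ha, rfl | rfl⟩
          · exact ⟨a⁻¹, V.inv_mem ha, Or.inl (by simp)⟩
          · refine ⟨a⁻¹, V.inv_mem ha, Or.inr ?_⟩
            rw [mul_inv_rev, cx.tinv, ← map_inv, cx.AC] }
    have : St1 (V.map φ) t ≤ S := sup_le (by rintro _ ⟨a, ha, rfl⟩; exact ⟨a, ha, Or.inl rfl⟩)
      (by rw [zpowers_le]; exact ⟨1, V.one_mem, Or.inr (by simp)⟩)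
    exact this hx
  · rintro ⟨v, hv, rfl | rfl⟩
    · exact mem_sup_left ⟨v, hv, rfl⟩
    · exact mul_mem (mem_sup_left ⟨v, hv, rfl⟩) (mem_sup_right (mem_zpowers t))

theorem tE : t ∈ St1 (V.map φ) t := mem_sup_right (mem_zpowers t)

theorem sqE (jf : J1F z σ ρ V L) (cx : Cx φ t O) {x : G} (hx : x ∈ St1 (V.map φ) t) :
    x * x = 1 := by
  obtain ⟨v, hv, rfl | rfl⟩ := (memE cx).1 hx
  · rw [← map_mul, jf.el v hv, map_one]
  · rw [mul_assoc, cx.AC v, ← mul_assoc t t, cx.tt, one_mul, ← map_mul, jf.el v hv, map_one]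

theorem comE (cx : Cx φ t O) {x : G} (hx : x ∈ St1 (V.map φ) t) : x * t = t * x := by
  obtain ⟨v, hv, rfl | rfl⟩ := (memE cx).1 hx
  · exact cx.AC v
  · rw [← mul_assoc, cx.AC v]

theorem oE (cx : Cx φ t O) {x o : G} (hx : x ∈ St1 (V.map φ) t) (ho : o ∈ O) :
    x * o = o * x := by
  obtain ⟨v, hv, rfl | rfl⟩ := (memE cx).1 hx
  · exact cx.oA ho v
  · rw [mul_assoc, ← cx.Ot o ho, ← mul_assoc, cx.oA ho v, mul_assoc]

theorem pE (jf : J1F z σ ρ V L) (cx : Cx φ t O) : IsPGroup 2 (St1 (V.map φ) t) := fun x =>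
  ⟨1, Subtype.ext (by simpa [pow_two] using sqE jf cx x.2)⟩

theorem sylV (jf : J1F z σ ρ V L) {a : Γ} (ha : a ∈ N[V]) {n : ℕ} (e : a ^ 2 ^ n = 1) :
    a ∈ V := by
  have := jf.base.fin
  have hi : V.relIndex N[V] = 21 := by
    have k := card_mul_index (V.subgroupOf N[V])
    rw [Nat.card_congr (subgroupOfEquivOfLe le_normalizer).toEquiv, jf.cV, jf.cN] at k
    unfold relIndex
    omega
  have : (V.subgroupOf N[V]).Normal := normal_in_normalizer
  have k : a ^ 21 ∈ V := by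
    have := pow_index_mem (H := V.subgroupOf N[V]) ⟨a, ha⟩
    rw [show (V.subgroupOf N[V]).index = 21 from hi] at this
    simpa [mem_subgroupOf] using this
  obtain ⟨m, hm⟩ := exists_pow_eq_self_of_coprime (x := a) (n := 21)
    (Nat.Coprime.coprime_dvd_right (orderOf_dvd_of_pow_eq_one e)
      (Nat.Coprime.pow_right n (by norm_num)))
  rw [← hm]
  exact V.pow_mem k m

theorem l0 (jf : J1F z σ ρ V L) (cx : Cx φ t O) {j : G} (hj : j ∈ N[V.map φ]) (tw : Tw j)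
    (hc : j * t = t * j) : j ∈ St1 (V.map φ) t := by
  obtain ⟨n, e⟩ := tw
  obtain ⟨α, hα⟩ := cx.aut hc
  obtain ⟨a, ea⟩ := jf.inn α
  have k1 : ∀ x, φ (a * x * a⁻¹) = j * φ x * j⁻¹ := fun x => by
    rw [← hα, ea, MulAut.conj_apply]
  have k2 : ∀ (k : ℕ) x, φ (a ^ k * x * (a ^ k)⁻¹) = j ^ k * φ x * (j ^ k)⁻¹ := by
    intro k
    induction k with
    | zero => intro x; simp
    | succ k ih =>
      intro x
      have : a ^ (k + 1) * x * (a ^ (k + 1))⁻¹ = a * (a ^ k * x * (a ^ k)⁻¹) * a⁻¹ := by group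
      rw [this, k1, ih]
      group
  have k3 : a ^ 2 ^ n = 1 := jf.base.eq_one fun x => by
    have := k2 (2 ^ n) x
    rw [e] at this
    rw [one_mul, inv_one, mul_one] at this
    have := cx.inj this
    rwa [mul_inv_eq_iff_eq_mul] at this
  have k4 : a ∈ N[V] := by
    have := jf.base.fin
    refine mem_normalizer_fintype fun v hv => ?_
    have : φ (a * v * a⁻¹) ∈ V.map φ := by
      rw [k1]
      exact (mem_normalizer_iff.1 hj _).1 ⟨v, hv, rfl⟩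
    obtain ⟨w, hw, ew⟩ := this
    rwa [← cx.inj ew]
  have aV := sylV jf k4 k3
  obtain ⟨o, ho, rfl | rfl⟩ := cx.split' hc hα ea
  · rw [cx.o_one_of jf.base ho (cx.oA ho a) (m := 0) ⟨a, by simp⟩ e, mul_one]
    exact (memE cx).2 ⟨a, aV, Or.inl rfl⟩
  · have m : φ a * t ∈ St1 (V.map φ) t := (memE cx).2 ⟨a, aV, Or.inr rfl⟩
    rw [cx.o_one_of jf.base ho (oE cx m ho) (m := 1)
      ⟨1, by rw [pow_one, pow_two, sqE jf cx m, map_one]⟩ e, mul_one]
    exact m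

theorem cjt (h : C1 φ F t O z σ ρ V L) {v : Γ} (hv : v ∈ V) : IsConj t (φ v * t) := by
  obtain ⟨n, -, e⟩ := h.tr v hv
  exact isConj_iff.2 ⟨n, by rw [e, h.cx.AC]⟩

theorem l1 (h : CG φ F t O z σ ρ V L) {j x : G} (hj : j ∈ N[St1 (V.map φ) t]) (tw : Tw j)
    (hx : x ∈ St1 (V.map φ) t) (i : IsConj t x) (hc : j * x = x * j) : j ∈ St1 (V.map φ) t := by
  obtain ⟨v, hv, rfl | rfl⟩ := (memE h.cx).1 hx
  · exact absurd i (h.nc v)
  obtain ⟨n, hn, e⟩ := h.tr v hv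
  rw [← h.cx.AC] at e
  have m : n⁻¹ * j * n⁻¹⁻¹ ∈ St1 (V.map φ) t := by
    refine l0 h.jf h.cx (h.gl.1 (mul_mem (mul_mem (inv_mem hn) hj) (inv_mem (inv_mem hn))))
      (tw_conj tw _) ?_
    rw [← e] at hc
    calc n⁻¹ * j * n⁻¹⁻¹ * t = n⁻¹ * (j * (n * t * n⁻¹)) * n := by group
      _ = t * (n⁻¹ * j * n⁻¹⁻¹) := by rw [hc]; group
  have := (mem_normalizer_iff.1 hn _).1 m
  simpa [mul_assoc] using this

theorem co (h : CG φ F t O z σ ρ V L) {c : G} (hn : c ∈ N[St1 (V.map φ) t])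
    (hc : c ∈ C[V.map φ]) : ∃ e ∈ St1 (V.map φ) t, ∃ o ∈ O, c = e * o := by
  have ct := h.hG c hn hc
  obtain ⟨α, hα⟩ := h.cx.aut ct
  obtain ⟨a, ea⟩ := h.jf.inn α
  have aV : a ∈ V := by
    refine h.jf.CV (mem_centralizer_iff.2 fun v hv => ?_)
    have k := hα v
    rw [← mem_centralizer_iff.1 hc (φ v) ⟨v, hv, rfl⟩, mul_inv_cancel_right, ea,
      MulAut.conj_apply] at k
    have := h.cx.inj k
    rw [mul_inv_eq_iff_eq_mul] at this
    exact this.symm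
  obtain ⟨o, ho, e | e⟩ := h.cx.split' ct hα ea
  · exact ⟨_, (memE h.cx).2 ⟨a, aV, Or.inl rfl⟩, o, ho, e⟩
  · exact ⟨_, (memE h.cx).2 ⟨a, aV, Or.inr rfl⟩, o, ho, e⟩

theorem dih {e o s : G} (ee : e * e = 1) (eo : e * o = o * e) (ss : s * s = 1)
    (od : Odd (orderOf o)) (yy : e * o * s * (e * o * s) = 1) :
    e * s = s * e ∧ IsConj (e * o * s) (e * s) := by
  have si : s⁻¹ = s := inv_eq_of_mul_eq_one_right ss
  have ei : e⁻¹ = e := inv_eq_of_mul_eq_one_right ee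
  have k1 : s * (e * o) * s⁻¹ = (e * o)⁻¹ := by
    rw [si]
    exact eq_inv_of_mul_eq_one_right (by rw [← yy]; group)
  obtain ⟨k, hk⟩ := od
  have k2 : (e * o) ^ (2 * k + 1) = e := by
    rw [Commute.mul_pow eo, ← hk, pow_orderOf_eq_one, hk, pow_succ, pow_mul, pow_two, ee]
    simp
  have k3 : s * e * s⁻¹ = e := by
    calc s * e * s⁻¹ = (s * (e * o) * s⁻¹) ^ (2 * k + 1) := by rw [conj_pow, k2]
      _ = e := by rw [k1, inv_pow, k2, ei]
  have k4 : e * s = s * e := by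
    rw [mul_inv_eq_iff_eq_mul] at k3
    exact k3.symm
  have k5 : s * o * s⁻¹ = o⁻¹ := by
    have : e * (s * o * s⁻¹) = e * o⁻¹ := by
      calc e * (s * o * s⁻¹) = s * (e * o) * s⁻¹ := by rw [← mul_assoc, ← mul_assoc, k4]; group
        _ = e * o⁻¹ := by rw [k1, eo, mul_inv_rev, ei]
    exact mul_left_cancel this
  refine ⟨k4, isConj_iff.2 ⟨o ^ k, ?_⟩⟩
  have k6 : s * (o ^ k)⁻¹ = o ^ k * s := by
    have : s * (o ^ k)⁻¹ * s⁻¹ = o ^ k := by
      rw [← inv_pow, ← conj_pow, ← conj_inv, k5, inv_inv]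
    rw [mul_inv_eq_iff_eq_mul] at this
    exact this
  have k7 : o ^ k * e = e * o ^ k := ((Commute.pow_right eo k)).symm
  have k8 : o ^ k * o * o ^ k = 1 := by
    rw [← pow_orderOf_eq_one o, hk]
    group
  calc o ^ k * (e * o * s) * (o ^ k)⁻¹ = (o ^ k * e) * o * (s * (o ^ k)⁻¹) := by group
    _ = e * (o ^ k * o * o ^ k) * s := by rw [k6, k7]; group
    _ = e * s := by rw [k8, mul_one]

theorem wc [Finite G] (gl : GLStmt.{u}) (h : CG φ F t O z σ ρ V L) {S : Subgroup G}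
    (hS : IsPGroup 2 S) (ES : St1 (V.map φ) t ≤ S) (SN : S ≤ N[St1 (V.map φ) t]) {g : G}
    (hg : g ∈ N[S]) : g ∈ N[St1 (V.map φ) t] := by
  have cS : ∀ x ∈ S, g * x * g⁻¹ ∈ S := fun x hx => (mem_normalizer_iff.1 hg x).1 hx
  have cS' : ∀ x ∈ S, g⁻¹ * x * g⁻¹⁻¹ ∈ S := fun x hx =>
    (mem_normalizer_iff.1 (inv_mem hg) x).1 hx
  have tS := cS t (ES tE)
  have ct : IsConj t (g * t * g⁻¹) := isConj_iff.2 ⟨g, rfl⟩
  have A : g * t * g⁻¹ ∈ St1 (V.map φ) t := by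
    by_contra hA
    have n1 : g * t * g⁻¹ ∉ C[V.map φ] := fun m =>
      hA (l0 h.jf h.cx (h.gl.1 (SN tS)) (tw_of_mem hS tS) (h.hG _ (SN tS) m))
    have vS : ∀ v ∈ V, g * φ v * g⁻¹ ∈ S := fun v hv =>
      cS _ (ES ((memE h.cx).2 ⟨v, hv, Or.inl rfl⟩))
    have n2 : ∃ v ∈ V, g * φ v * g⁻¹ ∉ C[V.map φ] := by
      by_contra hB
      push Not at hB
      have gN : g ∈ N[V.map φ] := by
        refine mem_normalizer_fintype ?_
        rintro _ ⟨v, hv, rfl⟩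
        have m := l0 h.jf h.cx (h.gl.1 (SN (vS v hv))) (tw_of_mem hS (vS v hv))
          (h.hG _ (SN (vS v hv)) (hB v hv))
        obtain ⟨w, hw, e | e⟩ := (memE h.cx).1 m
        · exact ⟨w, hw, e.symm⟩
        · refine absurd ((cjt h.toC1 hw).trans ?_) (h.nc v)
          rw [← e]
          exact (isConj_iff.2 ⟨g, rfl⟩).symm
      refine n1 (mem_centralizer_iff.2 fun x hx => ?_)
      obtain ⟨w, -, e⟩ := (mem_normalizer_iff.1 (inv_mem gN) x).1 hx
      have k := h.cx.AC w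
      rw [e] at k
      calc x * (g * t * g⁻¹) = g * (g⁻¹ * x * g⁻¹⁻¹ * t) * g⁻¹ := by group
        _ = g * t * g⁻¹ * x := by rw [k]; group
    obtain ⟨v, hv, n2⟩ := n2
    have s1 : g * t * g⁻¹ * (g * t * g⁻¹) = 1 := by
      rw [conj_mul, h.cx.tt]; group
    have s2 : g * φ v * g⁻¹ * (g * φ v * g⁻¹) = 1 := by
      rw [conj_mul, ← map_mul, h.jf.el v hv, map_one]; group
    obtain ⟨m, hm, c⟩ := ((gl G N[St1 (V.map φ) t] (V.map φ)
      (by rintro _ ⟨w, hw, rfl⟩; rw [← map_mul, h.jf.el w hw, map_one])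
      (by rw [card_map_of_injective h.cx.inj, h.jf.cV]) h.gl.1).2 h.gl).2.2
      _ (SN (vS v hv)) _ (SN tS) (by rw [s2]; exact one_mem _) n2 (by rw [s1]; exact one_mem _) n1
    obtain ⟨e, he, o, ho, ec⟩ := co h
      (mul_mem (mul_mem (mul_mem hm (SN (vS v hv))) (inv_mem hm)) (inv_mem (SN tS))) c
    rw [mul_inv_eq_iff_eq_mul] at ec
    obtain ⟨k1, k2⟩ := dih (sqE h.jf h.cx he) (oE h.cx he ho) s1 (h.cx.odd_ord ho)
      (by rw [← ec, conj_mul, s2]; group)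
    obtain ⟨w, hw, rfl | rfl⟩ := (memE h.cx).1 he
    · have eS := cS' _ (ES he)
      have m1 : g⁻¹ * φ w * g⁻¹⁻¹ ∈ St1 (V.map φ) t := by
        refine l0 h.jf h.cx (h.gl.1 (SN eS)) (tw_of_mem hS eS) ?_
        calc g⁻¹ * φ w * g⁻¹⁻¹ * t = g⁻¹ * (φ w * (g * t * g⁻¹)) * g := by group
          _ = t * (g⁻¹ * φ w * g⁻¹⁻¹) := by rw [k1]; group
      obtain ⟨u, hu, e1 | e1⟩ := (memE h.cx).1 m1
      · refine h.nc v ((cjt h.toC1 hu).trans ?_)
        have i1 : IsConj (φ u * t) (φ w * (g * t * g⁻¹)) :=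
          isConj_iff.2 ⟨g, by rw [← e1]; group⟩
        have i2 : IsConj (φ v) (φ w * o * (g * t * g⁻¹)) :=
          isConj_iff.2 ⟨m * g, by rw [← ec]; group⟩
        exact i1.trans (k2.symm.trans i2.symm)
      · refine h.nc w ((cjt h.toC1 hu).trans ?_)
        rw [← e1]
        exact (isConj_iff.2 ⟨g⁻¹, rfl⟩).symm
    · exact hA (l1 h (SN tS) (tw_of_mem hS tS) he (cjt h.toC1 hw) k1.symm)
  refine mem_normalizer_fintype fun x hx => ?_
  have xS := cS x (ES hx)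
  refine l1 h (SN xS) (tw_of_mem hS xS) A ct ?_
  rw [conj_mul, conj_mul, comE h.cx hx]

theorem jg1 (gl : GLStmt.{u}) : JG1Stmt.{u} := by
  intro Γ _ G _ _ φ F t O z σ ρ V L h
  have : Fact (Nat.Prime 2) := ⟨Nat.prime_two⟩
  obtain ⟨S, ⟨hS, ES, SN⟩, mx⟩ := Set.Finite.exists_maximal (Set.toFinite
    {S : Subgroup G | IsPGroup 2 S ∧ St1 (V.map φ) t ≤ S ∧ S ≤ N[St1 (V.map φ) t]})
    ⟨_, pE h.jf h.cx, le_rfl, le_normalizer⟩
  obtain ⟨P, hP⟩ := hS.exists_le_sylow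
  have e : (P : Subgroup G) ≤ S := by
    by_contra hn
    obtain ⟨g, gP, gN, gS⟩ := H10.exists_mem_normalizer_of_lt P.isPGroup' (lt_of_le_not_ge hP hn)
    have := mx (y := S ⊔ zpowers g) ⟨P.isPGroup'.to_le (sup_le hP (by rwa [zpowers_le])),
      ES.trans le_sup_left, sup_le SN (by rw [zpowers_le]; exact wc gl h hS ES SN gN)⟩ le_sup_left
    exact gS (this (mem_sup_right (mem_zpowers g)))
  have k : ¬ 2 ∣ (P : Subgroup G).index := P.not_dvd_index
  exact Nat.odd_iff.2 (Nat.two_dvd_ne_zero.1 fun d => k (d.trans (index_dvd_of_le (e.trans SN))))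

end Cfsg.Agent.H56.S94Jg1
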