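import Mathlib
import Cfsg.Agent.H87.Transfer

/-! A semiregular `2`-element with an odd number of cycles is an odd permutation. -/

set_option autoImplicit false

namespace Cfsg.Agent.H56

open Subgroup

theorem sign_of_semiregular {Ω : Type*} [Fintype Ω] [DecidableEq Ω] (σ : Equiv.Perm Ω) (k : ℕ)
    (h1 : σ ^ 2 ^ (k + 1) = 1) (h2 : ∀ x, (σ ^ 2 ^ k) x ≠ x) (h3 : ¬ 2 ^ (k + 2) ∣ Fintype.card Ω) :
    Equiv.Perm.sign σ = -1 := by
  have hall : ∀ n ∈ σ.cycleType, n = 2 ^ (k + 1) := by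
    intro n hn
    have hd : n ∣ 2 ^ (k + 1) :=
      (Equiv.Perm.dvd_of_mem_cycleType hn).trans (orderOf_dvd_of_pow_eq_one h1)
    obtain ⟨j, hj, rfl⟩ := (Nat.dvd_prime_pow Nat.prime_two).1 hd
    by_contra hne
    have hjk : j ≤ k := by
      rcases Nat.lt_or_ge k j with h | h
      · exact absurd (by rw [show j = k + 1 by omega]) hne
      · exact h
    obtain ⟨c, τ, rfl, hdis, hc, hcard⟩ := Equiv.Perm.mem_cycleType_iff.1 hn
    obtain ⟨x, hx, -⟩ := id hc
    have hτ : τ x = x := (hdis x).resolve_left hx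
    have hc1 : c ^ 2 ^ k = 1 := by
      apply orderOf_dvd_iff_pow_eq_one.1
      rw [hc.orderOf, hcard]; exact pow_dvd_pow 2 hjk
    apply h2 x
    rw [hdis.commute.mul_pow, hc1, one_mul]
    exact Equiv.Perm.pow_apply_eq_self_of_apply_eq_self hτ _
  have hsupp : σ.support = Finset.univ := by
    ext x
    simp only [Equiv.Perm.mem_support, Finset.mem_univ, iff_true]
    exact fun h => h2 x (Equiv.Perm.pow_apply_eq_self_of_apply_eq_self h _)
  have hrep := Multiset.eq_replicate_card.2 hall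
  have hsum := σ.sum_cycleType
  rw [hsupp, Finset.card_univ] at hsum
  generalize hr : Multiset.card σ.cycleType = r at hrep
  have hsum' : σ.cycleType.sum = r * 2 ^ (k + 1) := by rw [hrep]; simp
  have hodd : Odd r := by
    by_contra h
    obtain ⟨m, rfl⟩ := Nat.not_odd_iff_even.1 h
    apply h3
    rw [← hsum, hsum']
    exact ⟨m, by ring⟩
  rw [Equiv.Perm.sign_of_cycleType, hsum', hr]
  apply Odd.neg_one_pow
  exact Even.add_odd ⟨r * 2 ^ k, by ring⟩ hodd

theorem exists_index_two_of_semiregular {G : Type*} [Group G] [Finite G] (T : Subgroup G) {e : G}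
    (k : ℕ) (h1 : e ^ 2 ^ (k + 1) = 1) (h2 : ∀ g : G, g * e ^ 2 ^ k * g⁻¹ ∉ T)
    (h3 : ¬ 2 ^ (k + 2) ∣ T.index) : ∃ M : Subgroup G, M.index = 2 ∧ e ∉ M := by
  classical
  have : Fintype (G ⧸ T) := Fintype.ofFinite _
  let f : G →* ℤˣ := Equiv.Perm.sign.comp (MulAction.toPermHom G (G ⧸ T))
  have hf : f e = -1 := by
    apply sign_of_semiregular _ k
    · rw [← map_pow, h1, map_one]
    · intro x hx
      rw [← map_pow] at hx
      obtain ⟨g, rfl⟩ := QuotientGroup.mk_surjective x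
      have h4 : ((e ^ 2 ^ k * g : G) : G ⧸ T) = g := hx
      have h5 := T.inv_mem (QuotientGroup.eq.1 h4)
      apply h2 g⁻¹
      simpa [mul_assoc] using h5
    · rwa [← Nat.card_eq_fintype_card]
  refine ⟨f.ker, H87.index_ker_eq_two f hf, fun h => ?_⟩
  rw [MonoidHom.mem_ker, hf] at h
  exact absurd h (by decide)

theorem mul_prod_injective {G : Type*} [Group G] {A B X : Subgroup G} (hA : A ≤ X) (hB : B ≤ X)
    (hAB : A ⊓ B = ⊥) :
    Function.Injective (fun x : A × B => (⟨x.1 * x.2, X.mul_mem (hA x.1.2) (hB x.2.2)⟩ : X)) := by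
  rintro ⟨a, b⟩ ⟨a', b'⟩ h
  have h1 : (a : G) * b = a' * b' := congrArg Subtype.val h
  have h2 : (a' : G)⁻¹ * a = b' * (b : G)⁻¹ := by
    calc (a' : G)⁻¹ * a = (a' : G)⁻¹ * (a * b) * (b : G)⁻¹ := by group
      _ = _ := by rw [h1]; group
  have h3 : (a' : G)⁻¹ * a ∈ A ⊓ B :=
    ⟨A.mul_mem (A.inv_mem a'.2) a.2, h2 ▸ B.mul_mem b'.2 (B.inv_mem b.2)⟩
  rw [hAB, mem_bot] at h3
  have h4 : (a' : G) = a := inv_mul_eq_one.1 h3
  rw [h4] at h1
  exact Prod.ext (Subtype.ext h4.symm) (Subtype.ext (mul_left_cancel h1))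

theorem card_mul_card_le {G : Type*} [Group G] [Finite G] {A B X : Subgroup G} (hA : A ≤ X)
    (hB : B ≤ X) (hAB : A ⊓ B = ⊥) : Nat.card A * Nat.card B ≤ Nat.card X := by
  rw [← Nat.card_prod]
  exact Nat.card_le_card_of_injective _ (mul_prod_injective hA hB hAB)

theorem card_mul_card_eq_iff {G : Type*} [Group G] [Finite G] {A B X : Subgroup G} (hA : A ≤ X)
    (hB : B ≤ X) (hAB : A ⊓ B = ⊥) :
    Nat.card A * Nat.card B = Nat.card X ↔ ∀ x ∈ X, ∃ a ∈ A, ∃ b ∈ B, a * b = x := by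
  rw [← Nat.card_prod]
  constructor
  · intro h x hx
    obtain ⟨⟨a, b⟩, hab⟩ := ((Nat.bijective_iff_injective_and_card _).2
      ⟨mul_prod_injective hA hB hAB, h⟩).2 ⟨x, hx⟩
    exact ⟨a, a.2, b, b.2, congrArg Subtype.val hab⟩
  · intro h
    refine Nat.card_eq_of_bijective _ ⟨mul_prod_injective hA hB hAB, fun x => ?_⟩
    obtain ⟨a, ha, b, hb, hab⟩ := h x x.2
    exact ⟨(⟨a, ha⟩, ⟨b, hb⟩), Subtype.ext hab⟩

/-- In a dihedral group of order at least four with a cyclic subgroup of index two, all the elements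
outside that subgroup are involutions. -/
theorem dihedral_orderOf_of_notMem {n : ℕ} (hn : 2 ≤ n)
    {C : Subgroup (DihedralGroup n)} (hC : IsCyclic C) (hi : C.index = 2) {x : DihedralGroup n}
    (hx : x ∉ C) : orderOf x = 2 := by
  have : NeZero n := ⟨by omega⟩
  rcases x with i | i
  swap
  · exact DihedralGroup.orderOf_sr i
  have hc : Nat.card C = n := by
    have := C.index_mul_card
    rw [hi, DihedralGroup.nat_card] at this
    omega
  obtain ⟨⟨c, hc1⟩, hg⟩ := hC.exists_generator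
  have ho : orderOf c = n := by
    have := orderOf_eq_card_of_forall_mem_zpowers hg
    rwa [Subgroup.orderOf_mk, hc] at this
  rcases c with j | j
  · exfalso
    apply hx
    have h3 : zpowers (DihedralGroup.r j) ≤ zpowers (DihedralGroup.r (1 : ZMod n)) := by
      rw [zpowers_le]
      exact ⟨(j.val : ℤ), by simp⟩
    have h4 : zpowers (DihedralGroup.r j) = zpowers (DihedralGroup.r (1 : ZMod n)) :=
      eq_of_le_of_card_ge h3 (by rw [Nat.card_zpowers, Nat.card_zpowers, ho,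
        DihedralGroup.orderOf_r_one])
    have h5 : DihedralGroup.r i ∈ zpowers (DihedralGroup.r j) := by
      rw [h4]; exact ⟨(i.val : ℤ), by simp⟩
    exact (zpowers_le.2 hc1) h5
  · rw [DihedralGroup.orderOf_sr] at ho
    subst ho
    have hne : DihedralGroup.r i ≠ 1 := fun h => hx (h ▸ C.one_mem)
    have h3 : ∀ i : ZMod 2, DihedralGroup.r i * DihedralGroup.r i = 1 := by decide
    exact orderOf_eq_prime (by rw [sq, h3]) hne

end Cfsg.Agent.H56
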