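import Mathlib
import Cfsg.Agent.H56.TTDefs

/-! Interface statements for normal subgroups of triply transitive groups (paper proofs in
`stubs/notes/h56_twotrans2.md`). -/

set_option autoImplicit false

namespace Cfsg.Agent.H56.TT

open MulAction Subgroup

universe u v

/-- elements of odd prime order of a nonabelian simple group of order prime to three are real -/
def SzRealStmt : Prop :=
  ∀ (M : Type u) [Group M] [Finite M], IsSimpleGroup M → ¬IsMulCommutative M → ¬3 ∣ Nat.card M →
    ∀ x : M, (orderOf x).Prime → orderOf x ≠ 2 → IsConj x x⁻¹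

/-- primitive actions of odd degree of such a group are doubly transitive -/
def SzPrimStmt : Prop :=
  ∀ (M : Type u) (Ω : Type v) [Group M] [Finite M] [Finite Ω] [MulAction M Ω], IsSimpleGroup M →
    ¬IsMulCommutative M → ¬3 ∣ Nat.card M → IsPreprimitive M Ω → Odd (Nat.card Ω) → Two M Ω

/-- normal subgroups of a large linear group of odd dimension in odd characteristic -/
def LinStmt : Prop :=
  ∀ (X : Type u) [Group X] [Finite X] (Q A D : Subgroup X) (p f : ℕ), p.Prime → p ≠ 2 → Odd f →
    Nat.card Q = p ^ f → IsMulCommutative Q → (∀ w ∈ Q, w ^ p = 1) →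
    A ≤ normalizer (Q : Set X) → A ⊓ centralizer (Q : Set X) = ⊥ → p ^ f - 1 ∣ Nat.card A →
    D ≤ A → A ≤ normalizer (D : Set X) → (¬3 ∣ Nat.card D ∨ Odd (Nat.card D)) →
    (∀ d ∈ D, d ≠ 1 → Q ⊓ centralizer {d} = ⊥) ∨
      ∃ x ∈ D, (orderOf x).Prime ∧ normalizer (D : Set X) ≤ normalizer (zpowers x : Set X) ∧
        (∀ d ∈ D, d ≠ 1 → d * x = x * d → Q ⊓ centralizer {d} = ⊥) ∧
        Odd ((centralizer {x}).relIndex D)

end Cfsg.Agent.H56.TT
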