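import Cfsg.Agent.H56.TTKit
import Cfsg.Agent.H63.Defs
import Cfsg.Agent.H65.A45Cnt
import Cfsg.Prelude.Def_SporadicB

/-! Interface statements for S3400 (paper proofs: `stubs/notes/h56_s3400.md`). -/

set_option autoImplicit false

namespace Cfsg.Agent.H56.W2

open MulAction Subgroup Cfsg.Agent.H63 Cfsg.Agent.H56.TT

universe u v

section
variable {G : Type u} [Group G]

/-- the number of involutions of `X` -/
noncomputable def ni (X : Subgroup G) : ℕ := {x : G | x ∈ X ∧ orderOf x = 2}.ncard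

/-- `B` has index two in `S` -/
def Hy (B S : Subgroup G) : Prop := B ≤ S ∧ Nat.card S = 2 * Nat.card B

/-- the points fixed by `U` -/
def Fix (Ω : Type v) [MulAction G Ω] (U : Subgroup G) : Set Ω := {c | ∀ x ∈ U, x • c = c}

/-- `U` fixes two points -/
def Big (Ω : Type v) [MulAction G Ω] (U : Subgroup G) : Prop :=
  ∃ c d : Ω, c ≠ d ∧ c ∈ Fix Ω U ∧ d ∈ Fix Ω U

/-- What all simple groups `D` with an abelian Sylow 2-subgroup `S` have in common. -/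
structure WS (D S : Subgroup G) (m : ℕ) : Prop where
  simple : IsSimpleGroup D
  nonab : ¬ IsMulCommutative D
  le : S ≤ D
  card : Nat.card S = 2 ^ m
  odd : Odd (S.relIndex D)
  two : 2 ≤ m
  sq : ∀ x ∈ S, x * x = 1
  one : ∀ x ∈ D, ∀ y ∈ D, orderOf x = 2 → orderOf y = 2 → ∃ g ∈ D, g * x * g⁻¹ = y
  selfc : ∀ x ∈ D, (∀ s ∈ S, x * s = s * x) → x ∈ S
  trans : ∀ x ∈ S, ∀ y ∈ S, x ≠ 1 → y ≠ 1 → ∃ g ∈ D, g ∈ N[S] ∧ g * x * g⁻¹ = y
  hyp : ∀ B B' : Subgroup G, Hy B S → Hy B' S → ∃ g ∈ D, g ∈ N[S] ∧ cj g B = B'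

/-- the numbers of `L₂(2 ^ m)`, `m ≥ 3` -/
structure TA (D : Subgroup G) (m : ℕ) : Prop where
  three : 3 ≤ m
  ni_eq : ni D + 1 = 4 ^ m
  cent : ∀ t ∈ D, orderOf t = 2 → Nat.card ↥(D ⊓ C1[t]) = 2 ^ m

/-- `L₂(q)`, `q = 4 k + ε ≥ 11`, `k` odd -/
structure TB (D : Subgroup G) (q k : ℕ) (ε : ℤ) : Prop where
  iso : ∃ (F : Type) (_ : Field F) (_ : Fintype F), Fintype.card F = q ∧
    Nonempty (D ≃* Matrix.ProjectiveSpecialLinearGroup (Fin 2) F)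
  odd : Odd k
  three : 3 ≤ k
  eps : ε = 1 ∨ ε = -1
  q_eq : (q : ℤ) = 4 * k + ε
  ni_eq : (ni D : ℤ) = (4 * k + ε) * (2 * k + ε)
  cent : ∀ t ∈ D, orderOf t = 2 → Nat.card ↥(D ⊓ C1[t]) = 4 * k
  nic : ∀ t ∈ D, orderOf t = 2 → ni (D ⊓ C1[t]) = 2 * k + 1

/-- the numbers of `J₁` -/
structure TJ (D : Subgroup G) : Prop where
  ni_eq : ni D = 1463
  cent : ∀ t ∈ D, orderOf t = 2 → Nat.card ↥(D ⊓ C1[t]) = 120

/-- Ree type -/
structure TR (D : Subgroup G) (q : ℕ) : Prop where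
  pow : ∃ l : ℕ, 1 ≤ l ∧ q = 3 ^ (2 * l + 1)
  ni_eq : ni D + q ^ 3 = q ^ 4 + q ^ 2
  cent : ∀ t ∈ D, orderOf t = 2 → Nat.card ↥(D ⊓ C1[t]) + q = q ^ 3
  nic : ∀ t ∈ D, orderOf t = 2 → ni (D ⊓ C1[t]) + q = q ^ 2 + 1
  four : ∀ t ∈ D, ∀ w ∈ D, orderOf t = 2 → orderOf w = 2 → t ≠ w → t * w = w * t →
    ni (D ⊓ C1[t] ⊓ C1[w]) = q + 4
  comp : ∀ t ∈ D, orderOf t = 2 → ∃ E : Subgroup G, E ≤ D ⊓ C1[t] ∧ t ∉ E ∧
    (∀ x ∈ D ⊓ C1[t], x ∈ E ∨ x * t ∈ E) ∧ ∃ (F : Type) (_ : Field F) (_ : Fintype F),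
      Fintype.card F = q ∧ Nonempty (E ≃* Matrix.ProjectiveSpecialLinearGroup (Fin 2) F)

/-- Walter's list without `A₅` -/
def Ty (D : Subgroup G) (m : ℕ) : Prop :=
  TA D m ∨ (m = 2 ∧ ∃ q k ε, TB D q k ε) ∨ (m = 3 ∧ TJ D) ∨ (m = 3 ∧ ∃ q, TR D q)

variable {Ω : Type v} [MulAction G Ω]

/-- the setup -/
structure Su (G : Type u) {Ω : Type v} [Group G] [MulAction G Ω] (a b : Ω) (S : Subgroup G)
    (m : ℕ) : Prop where
  two : Two G Ω
  ne : a ≠ b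
  ws : WS (DD G a b) S m

/-- case I: an involution swapping `a, b` centralises `G_ab` -/
structure CI (a b : Ω) (s : G) : Prop where
  ord : orderOf s = 2
  sw : s • a = b
  cen : ∀ d ∈ DD G a b, s * d = d * s

/-- case II -/
structure C2 (a b : Ω) (S : Subgroup G) (σ : G) : Prop where
  ord : orderOf σ = 2
  sw : σ • a = b
  norm : σ ∈ N[S]
  sq : Nat.card ↥(S ⊓ C1[σ]) ^ 2 = Nat.card S
  surj : ∀ w ∈ S, w * σ = σ * w → ∃ x ∈ S, x * σ * x * σ = w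
  nc : ∀ g : G, g • a = b → g • b = a → ∃ x ∈ S, g * x ≠ x * g
  one : ∀ x : G, orderOf x = 2 → x • a = b → ∃ d ∈ DD G a b, d * σ * d⁻¹ = x

end

/-- Walter's theorem with the numbers. -/
def WalStmt : Prop :=
  ∀ (G : Type u) [Group G] [Finite G] (D S : Subgroup G), IsSimpleGroup D → ¬ IsMulCommutative D →
    S ≤ D → IsPGroup 2 S → Odd (S.relIndex D) → (∀ x ∈ S, ∀ y ∈ S, x * y = y * x) →
    Nonempty (D ≃* alternatingGroup (Fin 5)) ∨ ∃ m, WS D S m ∧ Ty D m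

/-- The numbers of `L₂(q)`, `q ≡ ±3 (mod 8)`. -/
def TBStmt : Prop :=
  ∀ (G : Type u) [Group G] [Finite G] (D : Subgroup G) (F : Type) [Field F] [Fintype F],
    (Fintype.card F % 8 = 3 ∨ Fintype.card F % 8 = 5) → 11 ≤ Fintype.card F →
    Nonempty (D ≃* Matrix.ProjectiveSpecialLinearGroup (Fin 2) F) →
    (∃ k ε, TB D (Fintype.card F) k ε) ∧
      ∀ S : Subgroup G, S ≤ D → IsPGroup 2 S → Odd (S.relIndex D) → WS D S 2

/-- `L₂(q) ≤ L₂(q')` -/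
def SubStmt : Prop :=
  ∀ (G X : Type u) [Group G] [Finite G] [Group X] [Finite X] (D : Subgroup G) (L : Subgroup X)
    (q k q' k' : ℕ) (ε ε' : ℤ), TB D q k ε → TB L q' k' ε' → ∀ f : D →* X, Function.Injective f →
    (∀ d, f d ∈ L) → ∃ r : ℕ, Odd r ∧ q' = q ^ r

/-- square roots of an involution in the normaliser of `L₂(q)` -/
def PglStmt : Prop :=
  ∀ (G : Type u) [Group G] [Finite G] (D : Subgroup G) (q k : ℕ) (ε : ℤ), TB D q k ε →
    ∀ t ∈ D, orderOf t = 2 → ∀ x ∈ N[D], ∀ y : G, y * x⁻¹ ∈ D → x * x = t → y * y = t →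
      y = x ∨ y = x * t

/-- the two cases -/
def DichStmt : Prop :=
  ∀ (G : Type u) (Ω : Type v) [Group G] [Finite G] [Finite Ω] [MulAction G Ω] [FaithfulSMul G Ω]
    (a b : Ω) (S : Subgroup G) (m : ℕ), Su G a b S m → Ty (DD G a b) m →
    (∃ s : G, CI a b s) ∨ ∃ σ : G, C2 a b S σ

/-- Structure of a group `H` with a Sylow 2-subgroup inside a simple subgroup `D`. -/
def StrStmt : Prop :=
  ∀ (G : Type u) [Group G] [Finite G] (H D S : Subgroup G) (m : ℕ), D ≤ H → WS D S m →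
    Odd (S.relIndex H) → 60 < Nat.card D →
    ∃ (X : Type u) (_ : Group X) (_ : Finite X) (L S' : Subgroup X) (f : D →* X) (O : Subgroup G)
      (c y e : ℕ), Function.Injective f ∧ (∀ d, f d ∈ L) ∧ WS L S' m ∧ Ty L m ∧ H ≤ N[O] ∧
      0 < c ∧ 0 < e ∧ Odd y ∧ Nat.card O * y = c * y ^ 2 ^ m ∧ ni H = y ^ 2 ^ (m - 1) * ni L ∧
      ∀ t : D, orderOf (t : G) = 2 → Nat.card ↥(O ⊓ C1[(t : G)]) * y = c * y ^ 2 ^ (m - 1) ∧
        Nat.card ↥(H ⊓ C1[(t : G)]) = Nat.card ↥(O ⊓ C1[(t : G)]) * e * Nat.card ↥(L ⊓ C1[f t]) ∧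
        ni (H ⊓ C1[(t : G)]) - 1 = y ^ 2 ^ (m - 2) * (ni (L ⊓ C1[f t]) - 1)

/-- arithmetic of the even case, type B, case I -/
def ArBStmt : Prop :=
  ∀ (q k q' k' r h h' y i j α d d2 : ℕ) (ε ε' : ℤ), Odd k → 3 ≤ k → (ε = 1 ∨ ε = -1) →
    (ε' = 1 ∨ ε' = -1) → (q : ℤ) = 4 * k + ε → (q' : ℤ) = 4 * k' + ε' → Odd r → q' = q ^ r →
    k ∣ k' → (h : ℤ) = (4 * k + ε) * (2 * k + ε) → (h' : ℤ) = (4 * k' + ε') * (2 * k' + ε') →
    1 ≤ α → j = 2 ^ α → (d2 = 0 ∨ d2 = 1 ∨ d2 = k ∨ d2 = k + 1) → y * k' = k + d2 * j →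
    k * i = k * j + d2 * (j * (j - 1)) → (d = 1 ∨ d = h ∨ d = h + 1) → y ^ 2 * h' = h + d * i → False

/-- even degree, type B -/
def EvBStmt : Prop :=
  ∀ (G : Type u) (Ω : Type v) [Group G] [Finite G] [Finite Ω] [MulAction G Ω] [FaithfulSMul G Ω]
    (a b : Ω) (S : Subgroup G) (q k : ℕ) (ε : ℤ), Su G a b S 2 → TB (DD G a b) q k ε →
    Even (Nat.card Ω) → False

/-- even degree, `L₂(2 ^ m)` and `J₁` -/
def EvAStmt : Prop :=
  ∀ (G : Type u) (Ω : Type v) [Group G] [Finite G] [Finite Ω] [MulAction G Ω] [FaithfulSMul G Ω]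
    (a b : Ω) (S : Subgroup G) (m : ℕ), Su G a b S m →
    (TA (DD G a b) m ∨ (m = 3 ∧ TJ (DD G a b))) → Even (Nat.card Ω) → False

/-- even degree, Ree type -/
def EvRStmt : Prop :=
  ∀ (G : Type u) (Ω : Type v) [Group G] [Finite G] [Finite Ω] [MulAction G Ω] [FaithfulSMul G Ω]
    (a b : Ω) (S : Subgroup G) (q : ℕ), Su G a b S 3 → TR (DD G a b) q → Even (Nat.card Ω) → False

/-- the text of S2901 -/
def HoltStmt : Prop :=
  ∀ {K : Type u} [Group K] [Finite K] [IsSimpleGroup K], ¬ IsMulCommutative K →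
    ∀ (P : Subgroup K), P ≠ ⊤ → ∀ r : K, r ∈ P → Cfsg.IsTwoCentralInvolution r →
    Subgroup.centralizer ({r} : Set K) ≤ P →
    (∀ g : K, g * r * g⁻¹ ∈ P → ∃ h ∈ P, h * r * h⁻¹ = g * r * g⁻¹) →
    (∃ S : Sylow 2 K, P = Subgroup.normalizer ((S : Subgroup K) : Set K)) ∨
      ∃ n : ℕ, 5 ≤ n ∧ Nonempty (K ≃* alternatingGroup (Fin n)) ∧
        Nonempty (P ≃* alternatingGroup (Fin (n - 1)))

/-- without a regular normal subgroup, `G_ab` lies in a simple normal subgroup -/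
def SocStmt : Prop :=
  ∀ (G : Type u) (Ω : Type v) [Group G] [Finite G] [Finite Ω] [MulAction G Ω] [FaithfulSMul G Ω]
    (a b : Ω) (S : Subgroup G) (m : ℕ), Su G a b S m → ¬ RNS G Ω →
    ∃ T : Subgroup G, T.Normal ∧ IsSimpleGroup T ∧ ¬ IsMulCommutative T ∧ DD G a b ≤ T

/-- odd degree, case I: one class of involutions -/
def OneStmt : Prop :=
  ∀ (G : Type u) (Ω : Type v) [Group G] [Finite G] [Finite Ω] [MulAction G Ω] [FaithfulSMul G Ω]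
    (a b : Ω) (S : Subgroup G) (m : ℕ) (s : G), Su G a b S m → 60 < Nat.card (DD G a b) →
    Odd (Nat.card Ω) → ¬ RNS G Ω → CI a b s →
    ∀ x y : G, orderOf x = 2 → orderOf y = 2 → IsConj x y

/-- odd degree, case I: all subgroups of index two of `S × ⟨s⟩` fix two points -/
def GeoStmt : Prop :=
  ∀ (G : Type u) (Ω : Type v) [Group G] [Finite G] [Finite Ω] [MulAction G Ω] [FaithfulSMul G Ω]
    (a b : Ω) (S : Subgroup G) (m : ℕ) (s : G), Su G a b S m → Odd (Nat.card Ω) → CI a b s →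
    (∀ x y : G, orderOf x = 2 → orderOf y = 2 → IsConj x y) →
    ∀ A : Subgroup G, Hy A (S ⊔ zpowers s) → Big Ω A

/-- odd degree, case I: `S × ⟨s⟩` is a Sylow 2-subgroup -/
def SylEStmt : Prop :=
  ∀ (G : Type u) (Ω : Type v) [Group G] [Finite G] [Finite Ω] [MulAction G Ω] [FaithfulSMul G Ω]
    (a b : Ω) (S : Subgroup G) (m : ℕ) (s : G), Su G a b S m → Odd (Nat.card Ω) → CI a b s →
    (∀ A : Subgroup G, Hy A (S ⊔ zpowers s) → Big Ω A) → Odd (S ⊔ zpowers s).index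

/-- odd degree, case I: the end -/
def FinStmt : Prop :=
  ∀ (G : Type u) (Ω : Type v) [Group G] [Finite G] [Finite Ω] [MulAction G Ω] [FaithfulSMul G Ω]
    (a b : Ω) (S : Subgroup G) (m : ℕ) (s : G), Su G a b S m → Ty (DD G a b) m →
    Odd (Nat.card Ω) → ¬ RNS G Ω → CI a b s →
    (∀ x y : G, orderOf x = 2 → orderOf y = 2 → IsConj x y) →
    (∀ A : Subgroup G, Hy A (S ⊔ zpowers s) → Big Ω A) → Odd (S ⊔ zpowers s).index → False

/-- odd degree, case II, `L₂(2 ^ m)` -/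
def OdAStmt : Prop :=
  ∀ (G : Type u) (Ω : Type v) [Group G] [Finite G] [Finite Ω] [MulAction G Ω] [FaithfulSMul G Ω]
    (a b : Ω) (S : Subgroup G) (m : ℕ) (σ : G), Su G a b S m → TA (DD G a b) m →
    Odd (Nat.card Ω) → C2 a b S σ → False

/-- odd degree, case II, type B -/
def OdBStmt : Prop :=
  ∀ (G : Type u) (Ω : Type v) [Group G] [Finite G] [Finite Ω] [MulAction G Ω] [FaithfulSMul G Ω]
    (a b : Ω) (S : Subgroup G) (q k : ℕ) (ε : ℤ) (σ : G), Su G a b S 2 → TB (DD G a b) q k ε →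
    Odd (Nat.card Ω) → ¬ RNS G Ω → C2 a b S σ → False

end Cfsg.Agent.H56.W2
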