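import Cfsg.Agent.H56.W2OdA
import Cfsg.Agent.H63.Prod
import Cfsg.Agent.S0215

/-! S3400, the two cases. -/

set_option autoImplicit false

namespace Cfsg.Agent.H56.W2

open MulAction Subgroup Cfsg.Agent.H63 Cfsg.Agent.H56.TT Cfsg.Agent.H65.A45 Cfsg.Agent.H65

universe u v

variable {G : Type u} [Group G] {Ω : Type v} [MulAction G Ω]

/-- the stabiliser of `{a, b}` -/
def SW (G : Type u) [Group G] [MulAction G Ω] (a b : Ω) : Subgroup G where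
  carrier := {g | (g • a = a ∧ g • b = b) ∨ (g • a = b ∧ g • b = a)}
  one_mem' := Or.inl ⟨one_smul _ _, one_smul _ _⟩
  mul_mem' := by
    rintro x y (hx | hx) (hy | hy)
    · exact Or.inl ⟨by rw [mul_smul, hy.1, hx.1], by rw [mul_smul, hy.2, hx.2]⟩
    · exact Or.inr ⟨by rw [mul_smul, hy.1, hx.2], by rw [mul_smul, hy.2, hx.1]⟩
    · exact Or.inr ⟨by rw [mul_smul, hy.1, hx.1], by rw [mul_smul, hy.2, hx.2]⟩
    · exact Or.inl ⟨by rw [mul_smul, hy.1, hx.2], by rw [mul_smul, hy.2, hx.1]⟩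
  inv_mem' := by
    rintro x (hx | hx)
    · exact Or.inl ⟨inv_smul_eq_iff.2 hx.1.symm, inv_smul_eq_iff.2 hx.2.symm⟩
    · exact Or.inr ⟨inv_smul_eq_iff.2 hx.2.symm, inv_smul_eq_iff.2 hx.1.symm⟩

theorem DD_le_SW {a b : Ω} : DD G a b ≤ SW G a b := fun _ h => Or.inl (mem_DD.1 h)

theorem SW_le_N [Finite G] {a b : Ω} : SW G a b ≤ N[DD G a b] := fun g hg =>
  mem_normalizer_fintype fun x hx => hg.elim
    (fun e => (DD G a b).mul_mem ((DD G a b).mul_mem (mem_DD.2 e) hx) ((DD G a b).inv_mem (mem_DD.2 e)))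
    fun e => swap_conj_mem e.1 e.2 hx

theorem sw_conj {a b : Ω} {x d : G} (hd : d ∈ DD G a b) (hx : x • a = b) : (d * x * d⁻¹) • a = b := by
  rw [mul_smul, mul_smul, inv_smul_eq_iff.2 hd.1.symm, hx]; exact hd.2

theorem sw_sq {a b : Ω} {x : G} (h1 : x • a = b) (h2 : x • b = a) : x * x ∈ DD G a b :=
  mem_DD.2 ⟨by rw [mul_smul, h1, h2], by rw [mul_smul, h2, h1]⟩

theorem WS.syl [Finite G] {D S : Subgroup G} {m : ℕ} (w : WS D S m) : IsSyl 2 S D :=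
  H67.syl_mk w.le w.pg w.odd.not_two_dvd_nat

theorem WS.sylSW [Finite G] {a b : Ω} {S Q : Subgroup G} {m : ℕ} (w : WS (DD G a b) S m) (hS : S ≤ Q)
    (hQ : Q ≤ SW G a b) (h2 : IsPGroup 2 Q) : ∃ P, IsSyl 2 P (SW G a b) ∧ Q ≤ P ∧ P ≤ N[S] ∧
      (∀ y ∈ P, y ∈ DD G a b → y ∈ S) ∧
      ∀ x, orderOf x = 2 → x • a = b → ∃ d ∈ DD G a b, d * x * d⁻¹ ∈ P := by
  obtain ⟨P, hP, QP⟩ := H67.exists_syl_ge hQ h2
  have e : P ⊓ DD G a b = S := H67.syl_eq_of_le w.syl ((H67.syl_isPGroup hP).to_le inf_le_left)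
    (le_inf (hS.trans QP) w.le) inf_le_right
  refine ⟨P, hP, QP, e ▸ H67.le_normalizer_inf le_normalizer (hP.1.trans SW_le_N),
    fun y h1 h2 => e ▸ ⟨h1, h2⟩, fun x ox hx => ?_⟩
  have hx' := swap_of_inv ox hx
  obtain ⟨k, hk, kP⟩ := H67.exists_cj_le_syl hP (K := zpowers x) (zpowers_le.2 (Or.inr ⟨hx, hx'⟩))
    (pg_zpowers (ord2.1 ox).1)
  have := kP (H67.conj_mem_cj (mem_zpowers x))
  rcases hk with hk | hk
  · exact ⟨k, mem_DD.2 hk, this⟩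
  · exact ⟨k * x⁻¹, swap_mul_mem hx hx' hk.1 hk.2, by rwa [show k * x⁻¹ * x * (k * x⁻¹)⁻¹ = k * x * k⁻¹ by group]⟩

theorem Su.alpha [Finite G] {a b : Ω} {S : Subgroup G} {m : ℕ} (hu : Su G a b S m) {g : G}
    (h1 : g • a = b) (h2 : g • b = a) (hc : ∀ x ∈ S, g * x = x * g) : ∃ s : G, CI a b s := by
  have w := hu.ws
  set D := DD G a b with hD
  have SN : S ≤ D ⊓ N[S] := le_inf w.le le_normalizer
  have co : (Nat.card S).Coprime (S.relIndex (D ⊓ N[S])) := by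
    rw [w.card]; exact Nat.Coprime.pow_left _ (Nat.coprime_two_left.2 (w.odd_rel SN inf_le_left))
  obtain ⟨K, hK⟩ := H67.exists_isSdp_of_normal_hall ⟨SN, co⟩ ⟨SN, inf_le_right⟩
  have KN : K ≤ D ⊓ N[S] := hK.sup ▸ le_sup_right
  have gD : g ∈ N[D] := SW_le_N (Or.inr ⟨h1, h2⟩)
  have gC : g ∈ C[S] := mem_centralizer_iff.2 fun x hx => (hc x hx).symm
  obtain ⟨n, hn, hs⟩ := H4.exists_centralizer_of_fixed_mod (A := K) (N := S) hK.norm
    (hK.relIndex_left ▸ co.symm) (Or.inr (H4.isSolvable_of_isPGroup w.pg)) (k := g) fun k hk => by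
      refine w.selfc _ ?_ fun x hx => (mem_centralizer_iff.1 ?_ x hx).symm
      · rw [commutatorElement_def, mul_assoc, mul_assoc, ← mul_assoc g]
        exact D.mul_mem (KN hk).1 (H67.conj_mem_of_mem_normalizer gD (D.inv_mem (KN hk).1))
      · exact C[S].mul_mem (H67.conj_mem_of_mem_normalizer
          (H4.normalizer_le_normalizer_centralizer _ (KN hk).2) gC) (C[S].inv_mem gC)
  set s := n * g with hsd
  have s1 : s • a = b := by rw [hsd, mul_smul, h1, (w.le hn).2]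
  have s2 : s • b = a := by rw [hsd, mul_smul, h2, (w.le hn).1]
  have sS : ∀ x ∈ S, s * x = x * s := fun x hx => by
    rw [hsd, mul_assoc, hc x hx, ← mul_assoc, w.comm hn hx, mul_assoc]
  have sN : ∀ x ∈ D ⊓ N[S], x * s = s * x := fun x hx => mem_centralizer_singleton_iff.1
    ((sup_le (fun y hy => mem_centralizer_singleton_iff.2 (sS y hy).symm) fun y hy =>
      mem_centralizer_singleton_iff.2 (mem_centralizer_iff.1 hs y hy) : S ⊔ K ≤ C1[s]) (hK.sup ▸ hx))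
  have ss : s * s = 1 := by
    have k : s * s ∈ S := w.selfc _ (sw_sq s1 s2) fun x hx => by
      rw [mul_assoc, sS x hx, ← mul_assoc, sS x hx, mul_assoc]
    by_contra ne
    obtain ⟨v, hv, v1, ne'⟩ := w.ex_two k
    obtain ⟨d, hd, dn, e⟩ := w.trans _ k v hv ne v1
    rw [← mul_assoc, sN d ⟨hd, dn⟩, mul_assoc s, sN d ⟨hd, dn⟩, ← mul_assoc, mul_inv_cancel_right] at e
    exact ne' e.symm
  have os : orderOf s = 2 := ord2.2 ⟨ss, fun e => hu.ne (by rw [← s1, e, one_smul])⟩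
  have sW : s ∈ SW G a b := Or.inr ⟨s1, s2⟩
  obtain ⟨P, hP, QP, -, PD, -⟩ := w.sylSW (Q := S ⊔ zpowers s) le_sup_left
    (sup_le (w.le.trans DD_le_SW) (zpowers_le.2 sW)) (pg_of_sq (sq_sup w.sq ss fun x hx => (sS x hx).symm))
  have sP : s ∈ P := QP (mem_sup_right (mem_zpowers s))
  have iso : ∀ k ∈ D, k * s * k⁻¹ ∈ P → k * s * k⁻¹ = s := fun k hk kP => by
    set x := k * s * k⁻¹ with hx
    have x1 : x • a = b := sw_conj hk s1
    have xs : x * s⁻¹ ∈ S := PD _ (P.mul_mem kP (P.inv_mem sP))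
      (swap_mul_mem s1 s2 x1 (swap_of_inv ((ord_conj k s).trans os) x1))
    have l1 : S ≤ D ⊓ C1[x] := fun y hy => ⟨w.le hy, mem_centralizer_singleton_iff.2 (by
      rw [← inv_mul_cancel_right x s, ← mul_assoc, w.comm hy xs, mul_assoc, ← sS y hy, ← mul_assoc])⟩
    obtain ⟨c, hc, l2⟩ := w.syl_conj' l1 (w.odd_rel l1 inf_le_left) (U := cj k S) (fun y hy => by
      obtain ⟨z, hz, rfl⟩ := H67.mem_cj'.1 hy
      exact ⟨D.mul_mem (D.mul_mem hk (w.le hz)) (D.inv_mem hk), mem_centralizer_singleton_iff.2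
        (by rw [hx, conj_mul, conj_mul, sS z hz])⟩) (w.cj k).pg
    have l3 := sN (c⁻¹ * k) ⟨D.mul_mem (D.inv_mem hc.1) hk, H67.cj_eq_self_iff.1
      (eq_of_le_of_card_ge (by rw [H67.cj_mul]; exact H67.le_cj_iff_cj_inv_le.1 l2) (H67.card_cj _ _).ge)⟩
    have l4 := mem_centralizer_singleton_iff.1 hc.2
    calc x = c⁻¹ * (c * x) := by group
      _ = c⁻¹ * k * s * (c⁻¹ * k)⁻¹ := by rw [l4, hx]; group
      _ = s := by rw [l3, mul_inv_cancel_right]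
  obtain ⟨P', hP'⟩ := H67.exists_sylow_subgroupOf hP
  obtain ⟨O, hO, oO, cO⟩ := S0215.result P' ⟨s, sW⟩ (by rw [← Subgroup.orderOf_coe]; exact os)
    (hP'.ge sP) fun k hk => Subtype.ext (by
      have hk' : (k : G) * s * (k : G)⁻¹ ∈ P := hP'.le hk
      rcases k.2 with e | e
      · exact iso k (mem_DD.2 e) hk'
      · have e' : (k : G) * s * (k : G)⁻¹ = k * s⁻¹ * s * (k * s⁻¹)⁻¹ := by group
        exact e'.trans (iso _ (swap_mul_mem s1 s2 e.1 e.2) (e' ▸ hk')))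
  refine ⟨s, os, s1, fun d hd => ?_⟩
  rcases w.normal_eq (K := D ⊓ O.map (SW G a b).subtype) inf_le_left (H67.le_normalizer_inf le_normalizer
    (DD_le_SW.trans fun k hk => mem_normalizer_fintype fun y ⟨z, hz, e⟩ =>
      ⟨_, hO.conj_mem z hz ⟨k, hk⟩, e ▸ rfl⟩)) with e | e
  · have : s * d * s⁻¹ * d⁻¹ ∈ D ⊓ O.map (SW G a b).subtype :=
      ⟨D.mul_mem (swap_conj_mem s1 s2 hd) (D.inv_mem hd), _, cO ⟨d, DD_le_SW hd⟩, rfl⟩
    rwa [e, mem_bot, mul_inv_eq_one, mul_inv_eq_iff_eq_mul] at this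
  · obtain ⟨t, ht, ot⟩ := w.ex_inv
    have := H67.orderOf_dvd_card_of_mem (e.ge (w.le ht)).2
    rw [ot, Subgroup.card_map_of_injective (SW G a b).subtype_injective] at this
    exact absurd this oO.not_two_dvd_nat

theorem phi [Finite G] {S : Subgroup G} (sq : ∀ x ∈ S, x * x = 1) {τ : G} (hn : τ ∈ N[S])
    (h2 : τ * τ ∈ S) : ∃ I : Subgroup G, I ≤ S ⊓ C1[τ] ∧
      Nat.card S = Nat.card ↥(S ⊓ C1[τ]) * Nat.card I ∧ ∀ y ∈ I, ∃ x ∈ S, x * (τ * x * τ⁻¹) = y := by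
  have c : ∀ x : S, τ * x * τ⁻¹ ∈ S := fun x => H67.conj_mem_of_mem_normalizer hn x.2
  let f : S →* G := MonoidHom.mk' (fun x => x * (τ * x * τ⁻¹)) fun x y => by
    rw [Subgroup.coe_mul, ← conj_mul, mul_assoc, ← mul_assoc (y : G), comm_of_sq sq y.2 (c x)]
    simp only [mul_assoc]
  have hk : f.ker = (S ⊓ C1[τ]).subgroupOf S := by
    ext x
    rw [MonoidHom.mem_ker, mem_subgroupOf, mem_inf, mem_centralizer_singleton_iff, and_iff_right x.2]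
    change x * (τ * x * τ⁻¹) = 1 ↔ _
    rw [← sq x x.2, mul_right_inj, mul_inv_eq_iff_eq_mul, eq_comm]
  refine ⟨f.range, ?_, ?_, fun y ⟨x, e⟩ => ⟨x, x.2, e⟩⟩
  · rintro _ ⟨x, rfl⟩
    refine ⟨S.mul_mem x.2 (c x), mem_centralizer_singleton_iff.2 ?_⟩
    change x * (τ * x * τ⁻¹) * τ = τ * (x * (τ * x * τ⁻¹))
    have e : τ * (τ * x * τ⁻¹) * τ⁻¹ = x := by
      calc _ = τ * τ * x * (τ * τ)⁻¹ := by group
        _ = _ := by rw [comm_of_sq sq h2 x.2, mul_inv_cancel_right]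
    symm
    rw [← mul_inv_eq_iff_eq_mul, ← conj_mul, e, comm_of_sq sq (c x) x.2]
  · rw [← Subgroup.index_ker, hk, ← Nat.card_congr (subgroupOfEquivOfLe inf_le_left).toEquiv,
      Subgroup.card_mul_index]

theorem ncard_sharp [Finite G] (S : Subgroup G) : ((S : Set G) \ {1}).ncard = Nat.card S - 1 := by
  rw [Set.ncard_diff_singleton_of_mem S.one_mem, ← Nat.card_coe_set_eq]; rfl

theorem act [Finite G] {S M : Subgroup G} (sq : ∀ x ∈ S, x * x = 1) {τ : G} (hn : τ ∈ N[S])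
    (h2 : τ * τ ∈ S) (nc : ∃ x ∈ S, τ * x ≠ x * τ) (SM : S ≤ M) (MN : M ≤ N[S]) (τM : τ ∈ N[M])
    (tr : ∀ x ∈ S, ∀ y ∈ S, x ≠ 1 → y ≠ 1 → ∃ g ∈ M, g * x * g⁻¹ = y)
    (ce : ∀ t ∈ S, t ≠ 1 → M ⊓ C1[t] ≤ S) : Nat.card ↥(S ⊓ C1[τ]) ^ 2 = Nat.card S := by
  obtain ⟨I, hI, cI, -⟩ := phi sq hn h2
  set U := S ⊓ C1[τ] with hU
  have I1 : 1 < Nat.card I := by
    by_contra H
    obtain ⟨x, hx, ne⟩ := nc
    have : Nat.card I = 1 := le_antisymm (not_lt.1 H) Nat.card_pos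
    rw [this, mul_one] at cI
    exact ne (mem_centralizer_singleton_iff.1 ((eq_of_le_of_card_ge (inf_le_left : U ≤ S) cI.le).ge hx).2).symm
  have IU := card_le_of_le hI
  obtain ⟨⟨t, ht⟩, t1⟩ := (Subgroup.nontrivial_iff_exists_ne_one U).1
    (Finite.one_lt_card_iff_nontrivial.1 (by omega)) |>.imp (fun _ h => h) |> fun ⟨x, hx, h⟩ =>
      (⟨⟨x, hx⟩, h⟩ : ∃ x : U, (x : G) ≠ 1)
  have cS : ∀ n ∈ M, ∀ x ∈ S, n * x * n⁻¹ ∈ S := fun n hn x hx =>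
    H67.conj_mem_of_mem_normalizer (MN hn) hx
  let L : Subgroup G :=
    { carrier := {n | n ∈ M ∧ n⁻¹ * (τ * n * τ⁻¹) ∈ S}
      one_mem' := ⟨M.one_mem, by simp⟩
      mul_mem' := fun {x y} hx hy => ⟨M.mul_mem hx.1 hy.1, by
        have := S.mul_mem (cS _ (M.inv_mem hy.1) _ hx.2) hy.2
        rwa [show y⁻¹ * (x⁻¹ * (τ * x * τ⁻¹)) * y⁻¹⁻¹ * (y⁻¹ * (τ * y * τ⁻¹)) =
          (x * y)⁻¹ * (τ * (x * y) * τ⁻¹) by group] at this⟩
      inv_mem' := fun {x} hx => ⟨M.inv_mem hx.1, by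
        have := cS _ hx.1 _ (S.inv_mem hx.2)
        rwa [show x * (x⁻¹ * (τ * x * τ⁻¹))⁻¹ * x⁻¹ = x⁻¹⁻¹ * (τ * x⁻¹ * τ⁻¹) by group] at this⟩ }
  have SL : S ≤ L := fun x hx => ⟨SM hx, S.mul_mem (S.inv_mem hx) (H67.conj_mem_of_mem_normalizer hn hx)⟩
  have tτ := mem_centralizer_singleton_iff.1 ht.2
  have key : ∀ n : G, n * t * n⁻¹ * τ = τ * (n * t * n⁻¹) ↔
      n⁻¹ * (τ * n * τ⁻¹) * t = t * (n⁻¹ * (τ * n * τ⁻¹)) := fun n => by
    have e : τ⁻¹ * t = t * τ⁻¹ := by rw [inv_mul_eq_iff_eq_mul, ← mul_assoc, ← tτ, mul_inv_cancel_right]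
    rw [mul_assoc n⁻¹, mul_assoc _ τ⁻¹, e, eq_comm]
    constructor <;> intro h
    · calc _ = n⁻¹ * (τ * (n * t * n⁻¹)) * n * τ⁻¹ := by group
        _ = _ := by rw [h]; group
    · calc _ = n * (n⁻¹ * (τ * n * (t * τ⁻¹))) * τ * n⁻¹ := by group
        _ = _ := by rw [h]; group
  have cent : ∀ K : Subgroup G, S ≤ K → K ≤ M → K ⊓ C1[t] = S := fun K h1 h2 => le_antisymm
    ((inf_le_inf_right _ h2).trans (ce t ht.1 t1))
    fun x hx => ⟨h1 hx, mem_centralizer_singleton_iff.2 (comm_of_sq sq hx ht.1)⟩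
  have ne1 : ∀ n : G, n * t * n⁻¹ ≠ 1 := fun n e => t1 (by simpa using e)
  have c1 := OT.card_cls M t (S := (S : Set G) \ {1}) fun y => ⟨fun hy => tr t ht.1 y hy.1 t1 hy.2,
    fun ⟨k, hk, e⟩ => e ▸ ⟨cS k hk t ht.1, ne1 k⟩⟩
  have c2 := OT.card_cls L t (S := (U : Set G) \ {1}) fun y => ⟨fun hy => by
      obtain ⟨k, hk, rfl⟩ := tr t ht.1 y hy.1.1 t1 hy.2
      exact ⟨k, ⟨hk, ce t ht.1 t1 ⟨M.mul_mem (M.inv_mem hk) (H67.conj_mem_of_mem_normalizer τM hk),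
        mem_centralizer_singleton_iff.2 ((key k).1 (mem_centralizer_singleton_iff.1 hy.1.2))⟩⟩, rfl⟩,
    fun ⟨k, hk, e⟩ => e ▸ ⟨⟨cS k hk.1 t ht.1, mem_centralizer_singleton_iff.2
      ((key k).2 (comm_of_sq sq hk.2 ht.1))⟩, ne1 k⟩⟩
  have dv := card_dvd_of_le (fun _ h => h.1 : L ≤ M)
  rw [c1, c2, cent M SM le_rfl, cent L SL fun _ h => h.1, ncard_sharp, ncard_sharp,
    Nat.mul_dvd_mul_iff_right Nat.card_pos, cI] at dv
  obtain ⟨u, hu⟩ : ∃ u, Nat.card U = u + 1 := ⟨Nat.card U - 1, by omega⟩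
  obtain ⟨i, hi⟩ : ∃ i, Nat.card I = i + 1 := ⟨Nat.card I - 1, by omega⟩
  rw [hu, hi, Nat.add_sub_cancel, show (u + 1) * (i + 1) - 1 = u * (i + 1) + i by
    rw [add_mul u, one_mul, ← add_assoc, Nat.add_sub_cancel], Nat.dvd_add_right (Dvd.intro _ rfl)] at dv
  have := Nat.le_of_dvd (by omega) dv
  rw [cI, pow_two, le_antisymm IU (by omega)]

theorem WS.three [Finite G] {D S : Subgroup G} (w : WS D S 3) {M : Subgroup G} (DM : M ≤ N[D])
    (hy : ∀ x ∈ M, x * x ∈ D) {σ : G} (hσ : σ ∈ M) (hσ' : σ ∉ D) (hn : σ ∈ N[S])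
    (mul : ∀ x ∈ D, x ∈ M) (nc : ∀ g ∈ M, g ∉ D → ∃ x ∈ S, g * x ≠ x * g) : False := by
  have : Fact (Nat.Prime 7) := ⟨by norm_num⟩
  have SN : S ≤ D ⊓ N[S] := le_inf w.le le_normalizer
  have c8 : Nat.card S = 8 := w.card
  obtain ⟨R, hR⟩ := H67.exists_syl 7 (D ⊓ N[S])
  have pR := H67.syl_isPGroup hR
  obtain ⟨n, hn', y, hy', rfl⟩ := (H67.frattini_isMul (M := M ⊓ N[S])
    ⟨inf_le_inf_right _ mul, H67.le_normalizer_inf (inf_le_left.trans DM)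
      (inf_le_right.trans le_normalizer)⟩ hR).2.2 σ ⟨hσ, hn⟩
  have yD : y ∉ D := fun e => hσ' (D.mul_mem hn'.1 e)
  have y2 : y * y ∈ D ⊓ N[S] := ⟨hy y hy'.1.1, N[S].mul_mem hy'.1.2 hy'.1.2⟩
  obtain ⟨r, hr⟩ := w.odd_rel SN inf_le_left
  have τ2 : y ^ (2 * r + 1) * y ^ (2 * r + 1) ∈ S := by
    have : (S.subgroupOf (D ⊓ N[S])).Normal := Subgroup.normal_subgroupOf_of_le_normalizer inf_le_right
    have h1 : (y * y) ^ S.relIndex (D ⊓ N[S]) ∈ S := (S.subgroupOf (D ⊓ N[S])).pow_index_mem ⟨_, y2⟩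
    rwa [hr, ← pow_two, ← pow_mul, two_mul, pow_add] at h1
  have τD : y ^ (2 * r + 1) ∉ D := fun e => yD (by
    rwa [pow_succ, pow_mul, pow_two, D.mul_mem_cancel_left (D.pow_mem y2.1 r)] at e)
  have sr : ∀ t ∈ S, t ≠ 1 → R ⊓ C1[t] = ⊥ := fun t ht t1 => by
    by_contra ne
    obtain ⟨⟨g, hg⟩, og⟩ := exists_prime_orderOf_dvd_card' 7
      (((pR.to_le inf_le_left).card_eq_or_dvd (G := ↥(R ⊓ C1[t]))).resolve_left fun e => ne (card_eq_one.1 e))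
    rw [← Subgroup.orderOf_coe] at og
    have le : S ≤ C1[g] := by
      by_contra H
      have h1 : Nat.card ↥(S ⊓ C1[g]) < 8 := c8 ▸ H67.card_lt_of_lt (inf_lt_left.2 H)
      have h2 : 1 < Nat.card ↥(S ⊓ C1[g]) := one_lt_card_iff_ne_bot _ |>.2 fun e => t1 (mem_bot.1
        (e ▸ ⟨ht, mem_centralizer_singleton_iff.2 (mem_centralizer_singleton_iff.1 hg.2).symm⟩ :
          t ∈ (⊥ : Subgroup G)))
      have gN : g ∈ N[S ⊓ C1[g]] := (H67.le_normalizer_inf (zpowers_le.2 (hR.1 hg.1).2)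
        ((zpowers_le.2 (mem_centralizer_singleton_iff.2 rfl)).trans le_normalizer)) (mem_zpowers g)
      obtain ⟨x, hx, k⟩ := fix_conj (g := g) (p := 7) (og ▸ pow_orderOf_eq_one g)
        (T := (S : Set G) \ (S ⊓ C1[g] : Subgroup G))
        (fun x => and_congr (mem_normalizer_iff.1 (hR.1 hg.1).2 x).symm (mem_normalizer_iff.1 gN x).symm.not)
        fun e => by
          rw [Set.ncard_sdiff (fun _ h => h.1), ← Nat.card_coe_set_eq, ← Nat.card_coe_set_eq] at e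
          change 7 ∣ Nat.card S - Nat.card ↥(S ⊓ C1[g]) at e
          omega
      exact hx.2 ⟨hx.1, mem_centralizer_singleton_iff.2 k.symm⟩
    have := H67.orderOf_dvd_card_of_mem (w.selfc g (hR.1 hg.1).1 fun x hx =>
      (mem_centralizer_singleton_iff.1 (le hx)).symm)
    change orderOf g = 7 at og
    rw [c8, og] at this
    omega
  have := act w.sq (N[S].pow_mem hy'.1.2 _) τ2 (nc _ (M.pow_mem hy'.1.1 _) τD) (M := S ⊔ R) le_sup_left
    (sup_le le_normalizer (hR.1.trans inf_le_right)) (N[S ⊔ R].pow_mem (H4.le_normalizer_sup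
      (zpowers_le.2 hy'.1.2) (zpowers_le.2 hy'.2) (mem_zpowers y)) _) (fun t ht v hv t1 v1 => by
      have c1 := OT.card_cls (D ⊓ N[S]) t (S := (S : Set G) \ {1}) fun y => ⟨fun hy => by
          obtain ⟨k, h1, h2, e⟩ := w.trans t ht y hy.1 t1 hy.2
          exact ⟨k, ⟨h1, h2⟩, e⟩,
        fun ⟨k, hk, e⟩ => e ▸ ⟨H67.conj_mem_of_mem_normalizer hk.2 ht, fun e => t1 (by simpa using e)⟩⟩
      rw [ncard_sharp, c8] at c1
      have c2 := OT.card_cls R t (S := {y | ∃ k ∈ R, k * t * k⁻¹ = y}) fun _ => Iff.rfl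
      rw [sr t ht t1, card_bot, mul_one] at c2
      have c3 := Nat.le_of_dvd Nat.card_pos (pR.card_eq_or_dvd.resolve_left fun e =>
        H67.syl_ne_bot hR ⟨_, c1⟩ (card_eq_one.1 e))
      have c4 := Set.eq_of_subset_of_ncard_le (s := {y | ∃ k ∈ R, k * t * k⁻¹ = y}) (t := (S : Set G) \ {1})
        (fun y ⟨k, hk, e⟩ => e ▸ ⟨H67.conj_mem_of_mem_normalizer (hR.1 hk).2 ht,
          fun e => t1 (by simpa using e)⟩) (by rw [ncard_sharp, c8, ← c2]; exact c3)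
      obtain ⟨k, hk, e⟩ := c4.ge ⟨hv, v1⟩
      exact ⟨k, mem_sup_right hk, e⟩) fun t ht t1 g hg => by
      obtain ⟨x, hx, z, hz, rfl⟩ := (H67.isMul_sup (Or.inr (hR.1.trans inf_le_right))).2.2 g hg.1
      have : z ∈ R ⊓ C1[t] := ⟨hz, (C1[t].mul_mem_cancel_left (w.le_cent ht hx).2).1 hg.2⟩
      rw [sr t ht t1, mem_bot] at this
      rwa [this, mul_one]
  rw [c8] at this
  have h3 : Nat.card ↥(S ⊓ C1[y ^ (2 * r + 1)]) < 3 := by nlinarith
  interval_cases Nat.card ↥(S ⊓ C1[y ^ (2 * r + 1)]) <;> simp at this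

theorem dich : DichStmt.{u, v} := fun G Ω _ _ _ _ _ a b S m hu ty => by
  have w := hu.ws
  by_cases nc : ∃ g : G, g • a = b ∧ g • b = a ∧ ∀ x ∈ S, g * x = x * g
  · obtain ⟨g, h1, h2, h3⟩ := nc
    exact Or.inl (hu.alpha h1 h2 h3)
  push Not at nc
  obtain ⟨t, ht, ot⟩ := w.ex_inv
  obtain ⟨g, hg⟩ := hu.exists_sw ot
  obtain ⟨P, hP, -, PN, PD, into⟩ := w.sylSW le_rfl (w.le.trans DD_le_SW) w.pg
  obtain ⟨d, hd, σP⟩ := into _ ((ord_conj g t).trans ot) hg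
  set σ := d * (g * t * g⁻¹) * d⁻¹
  have oσ : orderOf σ = 2 := (ord_conj _ _).trans ((ord_conj g t).trans ot)
  have s1 : σ • a = b := sw_conj hd hg
  have s2 := swap_of_inv oσ s1
  have ss := (ord2.1 oσ).1
  have si : σ⁻¹ = σ := inv_eq_of_mul_eq_one_right ss
  have s3 : σ * σ ∈ S := ss ▸ S.one_mem
  obtain ⟨I, hI, cI, sI⟩ := phi w.sq (PN σP) s3
  have sq : Nat.card ↥(S ⊓ C1[σ]) ^ 2 = Nat.card S := by
    have m3 : m = 3 → False := fun e => by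
      subst e
      exact w.three SW_le_N (fun x hx => hx.elim (fun e => mul_mem (mem_DD.2 e) (mem_DD.2 e))
        fun e => sw_sq e.1 e.2) (hP.1 σP) (fun e => hu.ne (e.1.symm.trans s1)) (PN σP) DD_le_SW
        fun g hg hg' => hg.elim (fun e => absurd (mem_DD.2 e) hg') fun e => nc g e.1 e.2
    rcases ty with k | ⟨rfl, -⟩ | ⟨e, -⟩ | ⟨e, -⟩
    · exact act w.sq (PN σP) s3 (nc σ s1 s2) (M := DD G a b ⊓ N[S]) (le_inf w.le le_normalizer)
        inf_le_right (H67.le_normalizer_inf (hP.1.trans SW_le_N) (PN.trans le_normalizer) σP)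
        (fun x hx y hy x1 y1 => by
          obtain ⟨k, h1, h2, e⟩ := w.trans x hx y hy x1 y1
          exact ⟨k, ⟨h1, h2⟩, e⟩)
        fun t ht t1 => (inf_le_inf_right _ inf_le_left).trans (k.cent_eq w ht t1).le
    · obtain ⟨x, hx, ne⟩ := nc σ s1 s2
      have h1 : Nat.card ↥(S ⊓ C1[σ]) < Nat.card S := H67.card_lt_of_lt (inf_lt_left.2 fun e =>
        ne (mem_centralizer_singleton_iff.1 (e hx)).symm)
      have h2 := card_le_of_le hI
      rw [w.card] at h1 cI ⊢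
      interval_cases Nat.card ↥(S ⊓ C1[σ]) <;> omega
    · exact (m3 e).elim
    · exact (m3 e).elim
  have surj : ∀ w ∈ S, w * σ = σ * w → ∃ x ∈ S, x * σ * x * σ = w := fun y hy e => by
    rw [← sq, pow_two] at cI
    obtain ⟨x, hx, k⟩ := sI y ((eq_of_le_of_card_ge hI (Nat.eq_of_mul_eq_mul_left Nat.card_pos cI).le).ge
      ⟨hy, mem_centralizer_singleton_iff.2 e⟩)
    exact ⟨x, hx, by rw [← k, si]; simp only [mul_assoc]⟩
  refine Or.inr ⟨σ, oσ, s1, PN σP, sq, surj, nc, fun x ox hx => ?_⟩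
  obtain ⟨c, hc, yP⟩ := into x ox hx
  set y := c * x * c⁻¹ with hy
  have oy : orderOf y = 2 := (ord_conj c x).trans ox
  have y1 : y • a = b := sw_conj hc hx
  have yS : y * σ⁻¹ ∈ S := PD _ (P.mul_mem yP (P.inv_mem σP)) (swap_mul_mem s1 s2 y1 (swap_of_inv oy y1))
  rw [si] at yS
  obtain ⟨z, hz, e⟩ := surj _ yS (by
    have h1 := w.sq _ yS
    rw [mul_assoc y, ss, mul_one]
    calc y = y * (y * σ * (y * σ)) := by rw [h1, mul_one]
      _ = y * y * (σ * (y * σ)) := by group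
      _ = _ := by rw [(ord2.1 oy).1, one_mul])
  refine ⟨c⁻¹ * z, mul_mem (inv_mem hc) (w.le hz), ?_⟩
  rw [mul_left_inj] at e
  calc _ = c⁻¹ * (z * σ * z⁻¹) * c := by group
    _ = x := by rw [inv_eq_of_mul_eq_one_right (w.sq z hz), e, hy]; group

end Cfsg.Agent.H56.W2
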