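import Cfsg.Agent.H56.W2Dich

/-! S3400, odd degree, case I, the end. -/

set_option autoImplicit false

namespace Cfsg.Agent.H56.W2

open MulAction Subgroup Cfsg.Agent.H63 Cfsg.Agent.H56.TT Cfsg.Agent.H65.A45 Cfsg.Agent.H65

universe u v

variable {G : Type u} [Group G] {Ω : Type v} [MulAction G Ω]

theorem ncard_sq [Finite G] (X : Subgroup G) : {w | w ∈ X ∧ w * w = 1}.ncard = ni X + 1 := by
  rw [ni, ← Set.ncard_insert_of_notMem (a := 1) fun e => by simpa using e.2]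
  congr 1
  ext w
  refine ⟨fun h => ?_, fun h => h.elim (fun e => by rw [e]; exact ⟨X.one_mem, mul_one _⟩) fun e => ⟨e.1, (ord2.1 e.2).1⟩⟩
  by_cases e : w = 1
  · exact Or.inl e
  · exact Or.inr ⟨h.1, ord2.2 ⟨h.2, e⟩⟩

theorem ncard_ne [Finite G] {X : Subgroup G} {t : G} (ht : t ∈ X) (ot : orderOf t = 2) :
    {w | (w ∈ X ∧ orderOf w = 2) ∧ w ≠ t}.ncard + 1 = ni X :=
  Set.ncard_sdiff_singleton_add_one (s := {w | w ∈ X ∧ orderOf w = 2}) ⟨ht, ot⟩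

theorem ni_sq [Finite G] {S : Subgroup G} (h : ∀ x ∈ S, x * x = 1) : ni S + 1 = Nat.card S := by
  rw [← ncard_sq, show {w | w ∈ S ∧ w * w = 1} = (S : Set G) from
    Set.ext fun w => ⟨fun e => e.1, fun e => ⟨e, h w e⟩⟩, ← Nat.card_coe_set_eq]; rfl

theorem ncard_mul_left (s : G) {X Y : Set G} (h : ∀ x, x ∈ X ↔ ∃ w ∈ Y, x = s * w) : X.ncard = Y.ncard := by
  rw [← Set.ncard_image_of_injective Y (mul_right_injective s)]
  congr 1
  ext x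
  rw [h]
  exact exists_congr fun w => and_congr_right fun _ => eq_comm

theorem WS.hy_zp [Finite G] {D S : Subgroup G} (w : WS D S 2) {t : G} (ht : t ∈ S) (t1 : t ≠ 1) :
    Hy (zpowers t) S := ⟨zpowers_le.2 ht, by rw [w.card, Nat.card_zpowers, w.ord ht t1]; rfl⟩

theorem WS.mem4 [Finite G] {D S : Subgroup G} (w : WS D S 2) {t v x : G} (ht : t ∈ S) (hv : v ∈ S)
    (t1 : t ≠ 1) (v1 : v ≠ 1) (ne : v ≠ t) (hx : x ∈ S) : x = 1 ∨ x = t ∨ x = v ∨ x = t * v := by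
  have e := mem_zp (y := x) (w.sq t ht)
  by_cases k : x ∈ zpowers t
  · exact (e.1 k).imp_right Or.inl
  · have := (mem_zp (w.sq t ht)).1 ((w.hy_zp ht t1).mul_mem hx hv k fun k => ((mem_zp (w.sq t ht)).1 k).elim v1 ne)
    refine Or.inr (Or.inr (this.imp (fun e => ?_) fun e => ?_))
    · rw [← w.sq v hv] at e; exact mul_right_cancel e
    · rw [← e, mul_assoc, w.sq v hv, mul_one]

theorem hy_sup [Finite G] {U : Subgroup G} {x : G} (x2 : x * x = 1) (hc : ∀ y ∈ U, y * x = x * y)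
    (hx : x ∉ U) : Hy U (U ⊔ zpowers x) :=
  hy_of le_sup_left (mem_sup_right (mem_zpowers x)) hx fun _ hy hy' =>
    ((mem_sup_comm x2 hc).1 hy).resolve_left hy'

theorem Fix_two (t x : G) : {c | c ∈ fixedBy Ω t ∧ x • c = c} = Fix Ω (zpowers t ⊔ zpowers x) :=
  Set.ext fun _ => ⟨fun h => mem_Fix_sup (Fix_zpowers (Ω := Ω) t ▸ h.1) h.2, fun h =>
    ⟨h t (mem_sup_left (mem_zpowers t)), h x (mem_sup_right (mem_zpowers x))⟩⟩

theorem four_zp [Finite G] {t x : G} (ot : orderOf t = 2) (ox : orderOf x = 2) (c : x * t = t * x)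
    (ne : x ≠ t) : (∀ y ∈ zpowers t ⊔ zpowers x, y * y = 1) ∧ Nat.card ↥(zpowers t ⊔ zpowers x) = 4 := by
  have t2 := (ord2.1 ot).1
  have hc : ∀ y ∈ zpowers t, y * x = x * y := fun y hy => by
    rcases (mem_zp t2).1 hy with rfl | rfl
    · simp
    · exact c.symm
  refine ⟨sq_sup (fun y hy => ?_) (ord2.1 ox).1 hc, ?_⟩
  · rcases (mem_zp t2).1 hy with rfl | rfl
    · simp
    · exact t2
  · rw [(hy_sup (ord2.1 ox).1 hc fun e => ((mem_zp t2).1 e).elim (ord2.1 ox).2 ne).2, Nat.card_zpowers, ot]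

theorem two_le_ncard [Finite Ω] {Φ : Set Ω} {a b : Ω} (ha : a ∈ Φ) (hb : b ∈ Φ) (ne : a ≠ b) :
    2 ≤ Φ.ncard := (Set.one_lt_ncard (Set.toFinite _)).2 ⟨a, ha, b, hb, ne⟩

theorem arFin {q i j k : ℕ} (hq : 27 ≤ q) (hk : Odd k) (k3 : 3 ≤ k) {x : ℕ} (h0 : x + 1 + q = q ^ 2 + 1)
    (h1 : (q + 1) * (j - 1) = j * (j - 1) * 4) (j2 : 2 ≤ j) (i2 : 2 ≤ i)
    (h2 : x * (j * (j - 1)) = i * (i - 1) * (2 * k))
    (h3 : 2 * k * i = 2 * k * j + (2 * k + 1 + 1) * (j * (j - 1))) : False := by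
  obtain ⟨j, rfl⟩ := Nat.exists_eq_add_of_le' (by omega : 1 ≤ j)
  obtain ⟨i, rfl⟩ := Nat.exists_eq_add_of_le' (by omega : 1 ≤ i)
  rw [Nat.add_sub_cancel] at h1 h2 h3
  rw [Nat.add_sub_cancel] at h2
  have e1 : q + 1 = (j + 1) * 4 := Nat.eq_of_mul_eq_mul_right (by omega : 0 < j) (by linarith)
  have j6 : (6 : ℤ) ≤ j := by omega
  have k3' : (3 : ℤ) ≤ k := by omega
  zify at h0 h2 h3 e1
  have hx : (x : ℤ) = (4 * j + 3) * (4 * j + 2) := by rw [show (q : ℤ) = 4 * j + 3 by linarith] at h0; linarith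
  have e2 : (k : ℤ) * (i + 1) = (j + 1) * ((k + 1) * j + k) := by linarith
  have e3 : (k : ℤ) * i = j * ((k + 1) * (j + 1) + k) := by linarith
  have e4 : (k : ℤ) * ((4 * j + 3) * (2 * j + 1)) = ((k + 1) * j + k) * ((k + 1) * (j + 1) + k) := by
    have : (2 * (j + 1) * j : ℤ) ≠ 0 := by positivity
    refine mul_left_cancel₀ this ?_
    rw [hx] at h2
    linear_combination k * h2 + 2 * (k * i) * e2 + 2 * (j + 1) * ((k + 1) * j + k) * e3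
  obtain ⟨r, hr⟩ := hk
  rcases (by omega : k = 3 ∨ k = 5 ∨ 7 ≤ k) with rfl | rfl | h
  · push_cast at e4; nlinarith
  · push_cast at e4
    rcases (by omega : j ≤ 12 ∨ 13 ≤ j) with h | h
    · have : (j : ℤ) ≤ 12 := by omega
      nlinarith
    · have : (13 : ℤ) ≤ j := by omega
      nlinarith
  · have : (7 : ℤ) ≤ k := by omega
    nlinarith [mul_nonneg (sub_nonneg.2 this) (sub_nonneg.2 this), mul_nonneg (sub_nonneg.2 this) (sub_nonneg.2 j6),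
      mul_nonneg (mul_nonneg (sub_nonneg.2 this) (sub_nonneg.2 this)) (sub_nonneg.2 j6),
      mul_nonneg (mul_nonneg (sub_nonneg.2 this) (sub_nonneg.2 j6)) (sub_nonneg.2 j6),
      mul_nonneg (mul_nonneg (mul_nonneg (sub_nonneg.2 this) (sub_nonneg.2 this)) (sub_nonneg.2 j6)) (sub_nonneg.2 j6)]

theorem fin (wal : WalStmt.{u}) (soc : SocStmt.{u, v}) : FinStmt.{u, v} :=
  fun G Ω _ _ _ _ _ a b S m s hu ty hn rns h one big oE => by
  have w := hu.ws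
  obtain ⟨T, hT, sT, nT, DT⟩ := soc G Ω a b S m hu rns
  obtain ⟨t, ht, ot⟩ := w.ex_inv
  have t1 := (ord2.1 ot).2
  have inT : ∀ x : G, orderOf x = 2 → x ∈ T := fun x ox => by
    obtain ⟨g, rfl⟩ := isConj_iff.1 (one t x ot ox)
    exact hT.conj_mem _ (DT (w.le ht)) g
  have sT' := inT s h.ord
  have ET : S ⊔ zpowers s ≤ T := sup_le (w.le.trans DT) (zpowers_le.2 sT')
  have DC : DD G a b ≤ T ⊓ C1[s] := fun d hd => ⟨DT hd, mem_centralizer_singleton_iff.2 (h.cen d hd).symm⟩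
  have h60 := w.sixty ty
  rcases wal G T _ sT nT ET (pg_of_sq (h.sq_E hu)) (oE.of_dvd_nat (relIndex_dvd_index_of_le ET))
    (fun x hx y hy => comm_of_sq (h.sq_E hu) hx hy) with ⟨⟨e⟩⟩ | ⟨m', w', ty'⟩
  · have h1 := card_le_of_le DT
    rw [Nat.card_congr e.toEquiv, nat_card_alternatingGroup, Nat.card_fin] at h1
    exact absurd (h60.trans_le h1) (by decide)
  obtain rfl : m + 1 = m' := Nat.pow_right_injective le_rfl ((h.card_E hu).symm.trans w'.card)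
  have two := w.two
  rcases ty' with k | ⟨e, -⟩ | ⟨-, k⟩ | ⟨e, q, k⟩
  · rw [k.cent_eq w' (mem_sup_right (mem_zpowers s)) (ord2.1 h.ord).2] at DC
    exact w.nonab ⟨⟨fun x y => Subtype.ext (comm_of_sq (h.sq_E hu) (DC x.2) (DC y.2))⟩⟩
  · omega
  · have h1 := card_le_of_le (sup_le DC (zpowers_le.2 ⟨sT', mem_centralizer_singleton_iff.2 rfl⟩))
    rw [(hy_sup h.sq (fun y hy => (h.cen y hy).symm) (h.not_mem hu)).2, k.cent s sT' h.ord] at h1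
    omega
  obtain rfl : m = 2 := by omega
  obtain ⟨q0, k0, ε, hB⟩ : ∃ q k ε, TB (DD G a b) q k ε := by
    rcases ty with k | ⟨-, k⟩ | ⟨e, -⟩ | ⟨e, -⟩
    · exact absurd k.three (by norm_num)
    · exact k
    · omega
    · omega
  obtain ⟨v, hv, v1, vt⟩ := w.ex_two ht
  have cS : ∀ x, x * t = t * x → x * v = v * x → ∀ y ∈ S, x * y = y * x := fun x h1 h2 y hy => by
    rcases w.mem4 ht hv t1 v1 vt hy with rfl | rfl | rfl | rfl
    · simp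
    · exact h1
    · exact h2
    · rw [← mul_assoc, h1, mul_assoc, h2, mul_assoc]
  let Y : Set G := {x | orderOf x = 2 ∧ (∀ y ∈ S, x * y = y * x) ∧ x ∉ S}
  have YN : ∀ x ∈ Y, x ∈ N[S] := fun x hx =>
    centralizer_le_normalizer _ (mem_centralizer_iff.2 fun y hy => (hx.2.1 y hy).symm)
  have cY : Y.ncard = q + 1 := by
    have h1 := k.four t (inT t ot) v (inT v (w.ord hv v1)) ot (w.ord hv v1) vt.symm (w.comm ht hv)
    have h2 := ni_sq w.sq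
    have h3 := Set.ncard_sdiff_add_ncard_of_subset (s := {x | x ∈ S ∧ orderOf x = 2})
      (t := {x | x ∈ T ⊓ C1[t] ⊓ C1[v] ∧ orderOf x = 2}) fun x hx =>
        ⟨⟨⟨DT (w.le hx.1), (w.le_cent ht hx.1).2⟩, (w.le_cent hv hx.1).2⟩, hx.2⟩
    rw [show {x | x ∈ T ⊓ C1[t] ⊓ C1[v] ∧ orderOf x = 2} \ {x | x ∈ S ∧ orderOf x = 2} = Y from Set.ext fun x => ⟨fun hx => ⟨hx.1.2, cS x (mem_centralizer_singleton_iff.1 hx.1.1.1.2)
      (mem_centralizer_singleton_iff.1 hx.1.1.2), fun e => hx.2 ⟨e, hx.1.2⟩⟩, fun hx =>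
      ⟨⟨⟨⟨inT x hx.1, mem_centralizer_singleton_iff.2 (hx.2.1 t ht)⟩,
        mem_centralizer_singleton_iff.2 (hx.2.1 v hv)⟩, hx.1⟩, fun e => hx.2.2 e.1⟩⟩] at h3
    rw [w.card] at h2
    change _ + ni S = ni _ at h3
    omega
  have c1 := (countOn hu.a_mem hu.b_mem hu.ne hu.wittS (X := Y) (f := 1)
    (fun g hg x hx => ⟨(ord_conj g x).trans hx.1, fun y hy => by
        have := hx.2.1 _ (H67.conj_mem_of_mem_normalizer (N[S].inv_mem hg) hy)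
        calc _ = g * (x * (g⁻¹ * y * g⁻¹⁻¹)) * g⁻¹ := by group
          _ = _ := by rw [this]; group,
      fun e => hx.2.2 ((mem_normalizer_iff.1 hg x).2 e)⟩)
    (fun x hx c hc => Fix_norm (YN x hx) hc) fun x hx => by
      obtain ⟨c, hc, e⟩ := exists_fix1 (g := x) (fun c hc => Fix_norm (YN x hx) hc)
        (fun c _ => by rw [← mul_smul, (ord2.1 hx.1).1, one_smul]) (hu.odd_fix hn w.pg)
      refine Set.ncard_eq_one.2 ⟨c, Set.ext fun d => ⟨fun hd => by_contra fun ne => ?_, fun hd => hd ▸ ⟨hc, e⟩⟩⟩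
      have hc' : ∀ y ∈ S, y * x = x * y := fun y hy => (hx.2.1 y hy).symm
      have := hu.big_le ⟨d, c, ne, mem_Fix_sup hd.1 hd.2, mem_Fix_sup hc e⟩
        (pg_of_sq (sq_sup w.sq (ord2.1 hx.1).1 hc'))
      rw [(hy_sup (ord2.1 hx.1).1 hc' hx.2.2).2, w.card] at this
      omega).1
  rw [cY, ncard_mul_left s (X := {x | x ∈ Y ∧ x • a = b}) (Y := S) fun x => ⟨fun hx => by
      obtain ⟨y, hy, -, rfl⟩ := (h.inv_iff hu).1 ⟨hx.1.1, hx.2⟩
      refine ⟨y, w.selfc y hy fun z hz => mul_left_cancel (a := s) ?_, rfl⟩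
      rw [← mul_assoc, hx.1.2.1 z hz, ← mul_assoc, ← h.cen z (w.le hz), mul_assoc],
    fun ⟨y, hy, e⟩ => by
      have := (h.inv_iff hu).2 ⟨y, w.le hy, w.sq y hy, e⟩
      refine ⟨⟨this.1, fun z hz => ?_, fun k => hu.ne ((hu.a_mem x k).symm.trans this.2)⟩, this.2⟩
      rw [e, mul_assoc, w.comm hy hz, ← mul_assoc, h.cen z (w.le hz), mul_assoc]⟩,
    ← Nat.card_coe_set_eq (S : Set G), show Nat.card (S : Set G) = 4 from w.card] at c1
  let X : Set G := {x | (x ∈ T ⊓ C1[t] ∧ orderOf x = 2) ∧ x ≠ t}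
  have tD := w.le ht
  have hX : ∀ g ∈ C1[t], ∀ x ∈ X, g * x * g⁻¹ ∈ X := fun g hg x hx =>
    ⟨⟨⟨hT.conj_mem _ hx.1.1.1 g, C1[t].mul_mem (C1[t].mul_mem hg hx.1.1.2) (C1[t].inv_mem hg)⟩,
      (ord_conj g x).trans hx.1.2⟩, fun e => hx.2 (mul_left_cancel (a := g) (by
        rw [mem_centralizer_singleton_iff.1 hg, ← e, inv_mul_cancel_right]))⟩
  have hΦ : ∀ x ∈ X, ∀ c ∈ fixedBy Ω t, x • c ∈ fixedBy Ω t := fun x hx c hc => by
    rw [mem_fixedBy, ← mul_smul, ← mem_centralizer_singleton_iff.1 hx.1.1.2, mul_smul, hc]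
  have hf : ∀ x ∈ X, {c | c ∈ fixedBy Ω t ∧ x • c = c}.ncard = (Fix Ω S).ncard := fun x hx => by
    obtain ⟨h1, h2⟩ := four_zp ot hx.1.2 (mem_centralizer_singleton_iff.1 hx.1.1.2) hx.2
    obtain ⟨g, -, l⟩ := H67.exists_cj_le_syl w'.syl
      (sup_le (zpowers_le.2 (DT tD)) (zpowers_le.2 hx.1.1.1)) (pg_of_sq h1)
    obtain ⟨c, d, ne, hc, hd⟩ := big _ ⟨l, by rw [H67.card_cj, h2, w'.card]; rfl⟩
    obtain ⟨g', -, -, e⟩ := hu.pair_eq ne (le_DD.2 ⟨hc, hd⟩) (by rw [H67.card_cj, h2]; rfl)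
    rw [Fix_two, ← ncard_Fix_cj g, e, ncard_Fix_cj]
  have ta : a ∈ fixedBy Ω t := tD.1
  have tb : b ∈ fixedBy Ω t := tD.2
  have c2 := (countOn ta tb hu.ne (hu.wittT tD ot) hX hΦ hf).2
  have c3 := (count ta tb hu.ne (hu.wittT tD ot) hX (fun x hx => hΦ x hx a ta) hf).2
  have tC : t ∈ C1[t] := mem_centralizer_singleton_iff.2 rfl
  have n1 := ncard_ne (X := DD G a b ⊓ C1[t]) ⟨tD, tC⟩ ot
  rw [hB.nic t tD ot, add_left_inj, show {w | (w ∈ DD G a b ⊓ C1[t] ∧ orderOf w = 2) ∧ w ≠ t} =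
      {x | x ∈ X ∧ (x • a = a ∧ x • b = b)} from
    Set.ext fun x => ⟨fun hx => ⟨⟨⟨⟨DT hx.1.1.1, hx.1.1.2⟩, hx.1.2⟩, hx.2⟩, hx.1.1.1⟩,
      fun hx => ⟨⟨⟨hx.2, hx.1.1.1.2⟩, hx.1.1.2⟩, hx.1.2⟩⟩] at n1
  have sC : s ∈ C1[t] := mem_centralizer_singleton_iff.2 (h.cen t tD)
  rw [n1, ncard_mul_left s (X := {x | x ∈ X ∧ x • a = b}) (Y := {w | w ∈ DD G a b ⊓ C1[t] ∧ w * w = 1})
    fun x => ⟨fun hx => by
      obtain ⟨y, hy, y2, rfl⟩ := (h.inv_iff hu).1 ⟨hx.1.1.2, hx.2⟩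
      exact ⟨y, ⟨⟨hy, (C1[t].mul_mem_cancel_left sC).1 hx.1.1.1.2⟩, y2⟩, rfl⟩,
    fun ⟨y, hy, e⟩ => by
      have := (h.inv_iff hu).2 ⟨y, hy.1.1, hy.2, e⟩
      exact ⟨⟨⟨⟨inT x this.1, e ▸ C1[t].mul_mem sC hy.1.2⟩, this.1⟩,
        fun k => hu.ne (tD.1.symm.trans (k ▸ this.2))⟩, this.2⟩⟩, ncard_sq, hB.nic t tD ot] at c3
  rw [n1] at c2
  obtain ⟨l, hl, hq⟩ := k.pow
  exact arFin (hq ▸ Nat.pow_le_pow_right (n := 3) (i := 3) (by norm_num) (by omega)) hB.odd hB.three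
    (ncard_ne (X := T ⊓ C1[t]) ⟨DT tD, tC⟩ ot ▸ k.nic t (DT tD) ot) c1
    (two_le_ncard hu.a_mem hu.b_mem hu.ne) (two_le_ncard ta tb hu.ne) c2 c3

end Cfsg.Agent.H56.W2
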