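import Cfsg.Agent.H56.W2Kit

/-! S3400, odd degree, case I: the subgroups of index two of `S × ⟨s⟩`. -/

set_option autoImplicit false

namespace Cfsg.Agent.H56.W2

open MulAction Subgroup Cfsg.Agent.H63 Cfsg.Agent.H56.TT Cfsg.Agent.H65.A45 Cfsg.Agent.H65

universe u v

variable {G : Type u} [Group G] {Ω : Type v} [MulAction G Ω]

theorem mem_zp {s y : G} (hs : s * s = 1) : y ∈ zpowers s ↔ y = 1 ∨ y = s := by
  have := mem_sup_zpowers (B := ⊥) (x := s) (fun b hb => by simpa using hb) (by simpa using hs) (y := y)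
  rw [bot_sup_eq, mem_bot, mem_bot] at this
  rw [this, mul_eq_one_iff_eq_inv, inv_eq_of_mul_eq_one_right hs]

theorem mem_sup_comm {U : Subgroup G} {w y : G} (hw : w * w = 1) (hc : ∀ x ∈ U, x * w = w * x) :
    y ∈ U ⊔ zpowers w ↔ y ∈ U ∨ y * w ∈ U :=
  mem_sup_zpowers (fun x hx => by rwa [← hc x hx, mul_inv_cancel_right]) (hw ▸ U.one_mem)

theorem sq_sup {U : Subgroup G} {w : G} (hU : ∀ x ∈ U, x * x = 1) (hw : w * w = 1)
    (hc : ∀ x ∈ U, x * w = w * x) : ∀ x ∈ U ⊔ zpowers w, x * x = 1 := fun x hx => by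
  rcases (mem_sup_comm hw hc).1 hx with e | e
  · exact hU x e
  · have h1 := hU _ e
    have h2 := hc _ e
    rw [mul_assoc x w w, hw, mul_one] at h2
    rwa [mul_assoc, ← h2] at h1

theorem mem_Fix_sup {U : Subgroup G} {w : G} {c : Ω} (h1 : c ∈ Fix Ω U) (h2 : w • c = c) :
    c ∈ Fix Ω (U ⊔ zpowers w) := fun _ hx =>
  (sup_le (fun y hy => h1 y hy) (zpowers_le.2 h2) : U ⊔ zpowers w ≤ stabilizer G c) hx

theorem exists_sq {H : Subgroup G} {r : ℕ} {x : G} (h1 : x ^ 2 ^ r ∈ H) (h2 : x ∉ H) :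
    ∃ i : ℕ, x ^ i ∉ H ∧ x ^ i * x ^ i ∈ H := by
  induction r with
  | zero => exact absurd (by simpa using h1) h2
  | succ r ih =>
    by_cases e : x ^ 2 ^ r ∈ H
    · exact ih e
    · exact ⟨_, e, by rwa [← pow_two, ← pow_mul, ← pow_succ]⟩

theorem Hy.exists_not [Finite G] {B V : Subgroup G} (h : Hy B V) : ∃ z ∈ V, z ∉ B := by
  by_contra H
  push Not at H
  have h1 := card_le_of_le (H : V ≤ B)
  have h2 := h.2
  have : 0 < Nat.card B := Nat.card_pos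
  omega

namespace CI

variable [Finite G] {a b : Ω} {s : G} (h : CI a b s) {S : Subgroup G} {m : ℕ} (hu : Su G a b S m)
include h hu

omit [Finite G] in
theorem uniq {s' : G} (h' : CI a b s') : s' = s := by
  have := hu.ws.zc (h.mul_mem h'.sw h'.swb) fun d hd => by
    rw [mul_assoc, h'.cen d hd, ← mul_assoc, h.cen d hd, mul_assoc]
  rw [← h.inv]; exact eq_inv_of_mul_eq_one_right this

omit [Finite G] h hu in
theorem cj_E (g : G) : cj g (S ⊔ zpowers s) = cj g S ⊔ zpowers (g * s * g⁻¹) := by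
  rw [H67.cj_sup, H67.cj_zpowers]

theorem frame {x : Ω} {w : G} (hw : w * w = 1) (hx : w • x ≠ x) {U : Subgroup G} (hU : x ∈ Fix Ω U)
    (h2 : ∀ y ∈ U, y * y = 1) (hc : ∀ y ∈ U, y * w = w * y) :
    ∃ g : G, g • a = x ∧ g • b = w • x ∧ U ≤ cj g S ∧ w ∈ cj g S ⊔ zpowers (g * s * g⁻¹) := by
  obtain ⟨g, g1, g2⟩ := hu.two a b x (w • x) hu.ne hx.symm
  have h0 := h.smul g
  have u0 := hu.smul g
  rw [g1, g2] at h0 u0
  have hD : U ≤ DD G x (w • x) := le_DD.2 ⟨hU, fun y hy => by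
    rw [← mul_smul, hc y hy, mul_smul, hU y hy]⟩
  obtain ⟨z, hz, z2, e⟩ := (h0.inv_iff u0).1 ⟨ord2.2 ⟨hw, fun e => hx (by rw [e, one_smul])⟩, rfl⟩
  have hc' : ∀ y ∈ U, y * z = z * y := fun y hy => by
    have := hc y hy
    rw [e, ← mul_assoc, ← h0.cen y (hD hy), mul_assoc _ y, mul_assoc _ z] at this
    exact mul_left_cancel this
  obtain ⟨g', k1, k2, k3⟩ := hu.pair hx.symm (sup_le hD (zpowers_le.2 hz))
    (pg_of_sq (sq_sup h2 z2 hc'))
  have h1 := h.smul g'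
  rw [k1, k2] at h1
  refine ⟨g', k1, k2, le_sup_left.trans k3, ?_⟩
  rw [h0.uniq u0 h1, e]
  exact Subgroup.mul_mem _ (mem_sup_right (mem_zpowers _)) (mem_sup_left (k3 (mem_sup_right (mem_zpowers z))))

theorem hy_inf {A : Subgroup G} (hA : Hy A (S ⊔ zpowers s)) (ne : A ≠ S) : Hy (A ⊓ S) S := by
  obtain ⟨z, hz, hz'⟩ : ∃ z ∈ S, z ∉ A := by
    by_contra H
    push Not at H
    refine ne (eq_of_le_of_card_ge (H : S ≤ A) ?_).symm
    have h1 := hA.2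
    have h2 := (h.hy hu).2
    omega
  exact hy_of inf_le_right hz (fun e => hz' e.1) fun x hx hx' =>
    ⟨hA.mul_mem (mem_sup_left hx) (mem_sup_left hz) (fun e => hx' ⟨e, hx⟩) hz', S.mul_mem hx hz⟩

/-- G5 -/
theorem big_of_type {A A' : Subgroup G} (hA : Hy A (S ⊔ zpowers s)) (hA' : Hy A' (S ⊔ zpowers s))
    (ne : A ≠ S) (ne' : A' ≠ S) (ty : s ∈ A ↔ s ∈ A') (hb : Big Ω A) : Big Ω A' := by
  obtain ⟨g, hg, hn, e⟩ := hu.ws.hyp _ _ (h.hy_inf hu hA ne) (h.hy_inf hu hA' ne')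
  have gs : g * s * g⁻¹ = s := by rw [← h.cen g hg, mul_inv_cancel_right]
  have h1 := hA.cj g
  rw [cj_E, H67.cj_eq_self hn, gs] at h1
  rw [H67.cj_inf, H67.cj_eq_self hn] at e
  have ty' : s ∈ cj g A ↔ s ∈ A' := by rw [← ty, ← H67.conj_mem_cj_iff (g := g) (H := A), gs]
  have k : ∀ x ∈ S, x ∈ cj g A ↔ x ∈ A' := fun x hx =>
    ⟨fun y => (e ▸ ⟨y, hx⟩ : x ∈ A' ⊓ S).1, fun y => (e ▸ ⟨y, hx⟩ : x ∈ cj g A ⊓ S).1⟩
  refine (hb.cj g).mono fun x hx => ?_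
  rcases (h.mem_E hu.ws.le).1 (hA'.1 hx) with y | y
  · exact (k x y).2 hx
  have ex : x = x * s * s := by rw [mul_assoc, h.sq, mul_one]
  by_cases hs : s ∈ A'
  · rw [ex]; exact Subgroup.mul_mem _ ((k _ y).2 (Subgroup.mul_mem _ hx hs)) (ty'.2 hs)
  · rw [ex]
    exact h1.mul_mem (mem_sup_left y) (mem_sup_right (mem_zpowers s))
      (fun z => hs ((A'.mul_mem_cancel_left hx).1 ((k _ y).1 z))) fun z => hs (ty'.1 z)

variable [Finite Ω] (hn : Odd (Nat.card Ω))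
include hn

omit h in
theorem _root_.Cfsg.Agent.H56.W2.Su.odd_fix {U : Subgroup G} (hU : IsPGroup 2 U) :
    Odd (Fix Ω U).ncard := by
  have := hu.ne
  rw [Nat.odd_iff, par_univ hU, ← Nat.odd_iff]; exact hn

/-- G4 -/
theorem some_big [FaithfulSMul G Ω] : ∃ A, Hy A (S ⊔ zpowers s) ∧ A ≠ S ∧ Big Ω A := by
  obtain ⟨U, ⟨hU, x, hx, hx'⟩, hm⟩ := (Set.toFinite
    {U : Subgroup G | U ≤ S ∧ ∃ x ∈ Fix Ω U, x ∉ Fix Ω S}).exists_maximal ⟨⊥, bot_le, by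
      obtain ⟨t, ht, ho⟩ := hu.ws.ex_inv
      by_contra H
      push Not at H
      exact (ord2.1 ho).2 (eq_of_smul_eq_smul fun c : Ω => by
        rw [H c (fun y hy => by rw [mem_bot.1 hy, one_smul]) t ht, one_smul])⟩
  obtain ⟨w, hw, wx⟩ : ∃ w ∈ S, w • x ≠ x := by
    by_contra H
    push Not at H
    exact hx' H
  have hle : U ⊔ zpowers w ≤ S := sup_le hU (zpowers_le.2 hw)
  have hF : ∀ c ∈ Fix Ω (U ⊔ zpowers w), c ∈ Fix Ω S := fun c hc => by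
    by_contra H
    exact wx (hx w (hm (y := U ⊔ zpowers w) ⟨hle, c, hc, H⟩ le_sup_left (mem_sup_right (mem_zpowers w))))
  obtain ⟨g, g1, -, g3, g4⟩ := h.frame hu (hu.ws.sq w hw) wx hx (fun y hy => hu.ws.sq y (hU hy))
    fun y hy => hu.ws.comm (hU hy) hw
  have h' := h.smul g
  have u' := hu.smul g
  set E' := cj g S ⊔ zpowers (g * s * g⁻¹) with hE'
  have sq := h'.sq_E u'
  have hle' : U ⊔ zpowers w ≤ E' := sup_le (g3.trans le_sup_left) (zpowers_le.2 g4)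
  have pres : ∀ e ∈ E', ∀ c ∈ Fix Ω S, e • c ∈ Fix Ω S := fun e he c hc => hF _ fun y hy => by
    rw [← mul_smul, comm_of_sq sq (hle' hy) he, mul_smul, hc y (hle hy)]
  obtain ⟨c, hc, hc'⟩ := exists_fix (pg_of_sq sq) pres (hu.odd_fix hn hu.ws.pg)
  let A := E' ⊓ fixingSubgroup G (Fix Ω S)
  have hA : ∀ y, y ∈ A ↔ y ∈ E' ∧ ∀ e ∈ Fix Ω S, y • e = e := fun y =>
    and_congr_right fun _ => mem_fixingSubgroup_iff G
  have bA : Big Ω A := ⟨a, b, hu.ne, fun y hy => ((hA y).1 hy).2 a hu.a_mem,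
    fun y hy => ((hA y).1 hy).2 b hu.b_mem⟩
  have mv : ∀ y ∈ E', y ∉ A → ∃ e ∈ Fix Ω S, y • e ≠ e := fun y hy hy' => by
    by_contra H
    push Not at H
    exact hy' ((hA y).2 ⟨hy, H⟩)
  have s2 : ∀ y ∈ E', ∀ e ∈ Fix Ω S, y • y • e = e := fun y hy e _ => by
    rw [← mul_smul, sq y hy, one_smul]
  obtain ⟨z, hz, hz'⟩ : ∃ z ∈ E', z ∉ A := by
    by_contra H
    push Not at H
    exact h'.not_big u' (bA.mono H)
  have hy : Hy A E' := hy_of inf_le_left hz hz' fun y hy hy' => (hA _).2 ⟨Subgroup.mul_mem _ hy hz, fun e he => by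
    rw [mul_smul, ← h.ui hu (pres y hy) (pres z hz) (s2 y hy) (s2 z hz) (mv y hy hy') (mv z hz hz') hc
      (hc' y hy) (hc' z hz) e he, s2 y hy e he]⟩
  refine ⟨cj g⁻¹ A, ?_, fun e => ?_, bA.cj _⟩
  · have := hy.cj g⁻¹
    rwa [hE', ← cj_E, H67.cj_inv_cj] at this
  · have : w ∈ cj g S := by
      rw [← e, H67.cj_cj_inv]; exact (hA w).2 ⟨g4, fun e he => he w hw⟩
    exact wx (g1 ▸ u'.a_mem w this)

omit [Finite Ω] hn in
/-- G6 -/
theorem beta_of_alpha (hα : ∀ A, Hy A (S ⊔ zpowers s) → s ∈ A → Big Ω A) :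
    ∀ A, Hy A (S ⊔ zpowers s) → s ∉ A → Big Ω A := fun A0 hA0 s0 => by
  by_contra nb
  have bS : Big Ω S := ⟨a, b, hu.ne, hu.a_mem, hu.b_mem⟩
  have nβ : ∀ A, Hy A (S ⊔ zpowers s) → s ∉ A → A ≠ S → ¬ Big Ω A := fun A hA sA ne k =>
    nb (h.big_of_type hu hA hA0 ne (fun e => nb (e ▸ bS)) (iff_of_false sA s0) k)
  have sq := h.sq_E hu
  have sE : s ∈ S ⊔ zpowers s := mem_sup_right (mem_zpowers s)
  obtain ⟨t, ht, ho⟩ := hu.ws.ex_inv
  have tE : t ∈ S ⊔ zpowers s := mem_sup_left ht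
  obtain ⟨A, hA, sA, tA⟩ := hs sq (zpowers_le.2 sE) tE fun e => ((mem_zp h.sq).1 e).elim (ord2.1 ho).2
    fun e => h.not_mem hu (e ▸ hu.ws.le ht)
  have sA := sA (mem_zpowers s)
  have le1 : S ⊔ zpowers s ≤ A ⊔ zpowers t := fun e he => by
    by_cases k : e ∈ A
    · exact mem_sup_left k
    · have := Subgroup.mul_mem _ (mem_sup_left (hA.mul_mem he tE k tA) : e * t ∈ A ⊔ zpowers t)
        (inv_mem (mem_sup_right (mem_zpowers t)))
      simpa using this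
  obtain ⟨x, hx, tx⟩ : ∃ x ∈ Fix Ω A, t • x ≠ x := by
    by_contra H
    push Not at H
    obtain ⟨c, d, k, hc, hd⟩ := hα A hA sA
    exact h.not_big hu (Big.mono ⟨c, d, k, mem_Fix_sup hc (H c hc), mem_Fix_sup hd (H d hd)⟩ le1)
  obtain ⟨g, -, -, g3, g4⟩ := h.frame hu (ord2.1 ho).1 tx hx (fun y hy => sq y (hA.1 hy))
    fun y hy => comm_of_sq sq (hA.1 hy) tE
  have h' := h.smul g
  have u' := hu.smul g
  set s' := g * s * g⁻¹ with hs'
  have e1 : A = cj g S := eq_of_le_of_card_ge g3 (by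
    have h1 := hA.2
    have h2 := (h.hy hu).2
    rw [H67.card_cj]; omega)
  have e2 : S ⊔ zpowers s = cj g S ⊔ zpowers s' := eq_of_le_of_card_ge
    (le1.trans (sup_le (g3.trans le_sup_left) (zpowers_le.2 g4))) (by rw [h'.card_E u', h.card_E hu])
  have s'E : s' ∈ S ⊔ zpowers s := e2 ▸ mem_sup_right (mem_zpowers s')
  have s'A : s' ∉ A := fun e => h'.not_mem u' (u'.ws.le (e1 ▸ e))
  obtain ⟨w, hw, w1, ws⟩ := u'.ws.ex_two (e1 ▸ sA)
  rw [← e1] at hw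
  have wE : w * s' ∈ S ⊔ zpowers s := Subgroup.mul_mem _ (hA.1 hw) s'E
  obtain ⟨A1, hA1, k1, k2⟩ := hs sq (sup_le (zpowers_le.2 sE) (zpowers_le.2 wE)) s'E fun e => by
    rcases (mem_sup_comm (sq _ wE) fun y hy => comm_of_sq sq (zpowers_le.2 sE hy) wE).1 e with e | e
    · exact s'A (zpowers_le.2 sA e)
    · rw [comm_of_sq sq (hA.1 hw) s'E, ← mul_assoc, h'.sq, one_mul] at e
      exact ((mem_zp h.sq).1 e).elim w1 ws
  have b1 := hα A1 hA1 (k1 (mem_sup_left (mem_zpowers s)))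
  have h3 := hA1.cj g⁻¹
  rw [e2, ← cj_E, H67.cj_inv_cj] at h3
  refine nβ _ h3 (fun e => k2 (by simpa using H67.mem_cj.1 e)) (fun e => s'A ?_) (b1.cj _)
  have : A1 = A := by rw [e1, ← e, H67.cj_cj_inv]
  exact (A.mul_mem_cancel_left hw).1 (this ▸ k1 (mem_sup_right (mem_zpowers _)))

/-- G7 -/
theorem alpha_of_beta (hs2 : Big Ω (zpowers s)) (hβ : ∀ A, Hy A (S ⊔ zpowers s) → s ∉ A → Big Ω A) :
    ∀ A, Hy A (S ⊔ zpowers s) → s ∈ A → Big Ω A := fun A0 hA0 s0 => by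
  by_contra nb
  have sS : s ∉ S := fun e => h.not_mem hu (hu.ws.le e)
  have nα : ∀ A, Hy A (S ⊔ zpowers s) → s ∈ A → ¬ Big Ω A := fun A hA sA k =>
    nb (h.big_of_type hu hA hA0 (fun e => sS (e ▸ sA)) (fun e => sS (e ▸ s0)) (iff_of_true sA s0) k)
  have sq := h.sq_E hu
  have sE : s ∈ S ⊔ zpowers s := mem_sup_right (mem_zpowers s)
  obtain ⟨c, -, hc⟩ := exists_fix (Φ := (Set.univ : Set Ω)) (pg_of_sq sq) (fun _ _ _ _ => trivial)
    (by rwa [Set.ncard_univ])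
  obtain ⟨U, ⟨hU, sU, x, hx, xc⟩, hm⟩ := (Set.toFinite
    {U : Subgroup G | U ≤ S ⊔ zpowers s ∧ s ∈ U ∧ ∃ x ∈ Fix Ω U, x ≠ c}).exists_maximal
    ⟨zpowers s, le_sup_right, mem_zpowers s, by
      obtain ⟨p, q, k, hp, hq⟩ := hs2
      by_cases e : p = c
      · exact ⟨q, hq, fun e' => k (e.trans e'.symm)⟩
      · exact ⟨p, hp, e⟩⟩
  have cU : c ∈ Fix Ω U := fun y hy => hc y (hU hy)
  have bU : Big Ω U := ⟨x, c, xc, hx, cU⟩
  have k1 : ∀ e ∈ S ⊔ zpowers s, e ∉ U → ∀ p ∈ Fix Ω U, e • p = p → p = c := fun e he he' p hp ep => by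
    by_contra H
    exact he' (hm (y := U ⊔ zpowers e) ⟨sup_le hU (zpowers_le.2 he), mem_sup_left sU, p,
      mem_Fix_sup hp ep, H⟩ le_sup_left (mem_sup_right (mem_zpowers e)))
  obtain ⟨e1, he1, n1⟩ : ∃ e ∈ S ⊔ zpowers s, e ∉ U := by
    by_contra H
    push Not at H
    exact h.not_big hu (bU.mono H)
  obtain ⟨e2, he2, n2, n3⟩ : ∃ e ∈ S ⊔ zpowers s, e ∉ U ∧ e * e1 ∉ U := by
    by_contra H
    push Not at H
    exact nα U (hy_of hU he1 n1 H) sU bU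
  let X : Set G := {g | g ∈ C[U] ∧ g * g = 1 ∧ ∀ p ∈ Fix Ω U, ∀ q ∈ Fix Ω U, g • p = p → g • q = q → p = q}
  have eX : ∀ e ∈ S ⊔ zpowers s, e ∉ U → e ∈ X := fun e he he' =>
    ⟨mem_centralizer_iff.2 fun y hy => comm_of_sq sq (hU hy) he, sq e he, fun p hp q hq ep eq =>
      (k1 e he he' p hp ep).trans (k1 e he he' q hq eq).symm⟩
  have pres : ∀ g ∈ C[U], ∀ p ∈ Fix Ω U, g • p ∈ Fix Ω U := fun g hg p hp =>
    Fix_norm (centralizer_le_normalizer _ hg) hp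
  have key : ∀ y ∈ X, ∀ p ∈ Fix Ω U, y • p ≠ p → ∃ g : G, g • a = p ∧ g • b = y • p ∧
      ∀ e ∈ Fix Ω U, y • e = (g * s * g⁻¹) • e := fun y hy p hp yp => by
    have hc' : ∀ z ∈ U, z * y = y * z := fun z hz => mem_centralizer_iff.1 hy.1 z hz
    obtain ⟨g, g1, g2, g3, g4⟩ := h.frame hu hy.2.1 yp hp (fun z hz => sq z (hU hz)) hc'
    have h' := h.smul g
    have u' := hu.smul g
    refine ⟨g, g1, g2, fun e he => ?_⟩
    by_cases k : g * s * g⁻¹ ∈ U ⊔ zpowers y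
    · rcases (mem_sup_comm hy.2.1 hc').1 k with k | k
      · exact absurd (u'.ws.le (g3 k)) (h'.not_mem u')
      · have := he _ k
        rwa [mul_smul, smul_eq_iff_eq_inv_smul, h'.inv] at this
    · obtain ⟨A, hA, l1, l2⟩ := hs (h'.sq_E u') (sup_le (g3.trans le_sup_left) (zpowers_le.2 g4))
        (mem_sup_right (mem_zpowers _)) k
      have h3 := hA.cj g⁻¹
      rw [← cj_E, H67.cj_inv_cj] at h3
      have b1 := (hβ _ h3 fun e => l2 (by simpa using H67.mem_cj.1 e)).cj g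
      rw [H67.cj_cj_inv] at b1
      obtain ⟨p, q, k, hp, hq⟩ := b1.mono l1
      exact absurd (hy.2.2 p (fun z hz => hp z (mem_sup_left hz)) q (fun z hz => hq z (mem_sup_left hz))
        (hp y (mem_sup_right (mem_zpowers y))) (hq y (mem_sup_right (mem_zpowers y)))) k
  have fin := cnt1 (M := C[U]) (X := X) pres (fun p hp q hq => by
      by_cases e : p = q
      · exact ⟨1, one_mem _, by rw [one_smul, e]⟩
      obtain ⟨g, rfl, rfl⟩ := hu.two a b p q hu.ne e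
      exact ⟨_, mem_centralizer_iff.2 fun y hy => ((h.smul g).cen y ⟨hp y hy, hq y hy⟩).symm,
        (h.smul g).sw⟩)
    (fun g hg y hy => ⟨Subgroup.mul_mem _ (Subgroup.mul_mem _ hg hy.1) (inv_mem hg), by rw [conj_mul, hy.2.1]; simp,
      fun p hp q hq e e' => smul_left_cancel g⁻¹ (hy.2.2 _ (pres _ (inv_mem hg) p hp) _
        (pres _ (inv_mem hg) q hq) (by rwa [mul_smul, mul_smul, smul_eq_iff_eq_inv_smul] at e)
        (by rwa [mul_smul, mul_smul, smul_eq_iff_eq_inv_smul] at e'))⟩)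
    (fun y hy => pres y hy.1) (fun y hy => hy.2.2) (fun y hy z hz p hp yp e q hq => by
      obtain ⟨g, g1, g2, g3⟩ := key y hy p hp yp
      obtain ⟨g', g1', g2', g3'⟩ := key z hz p hp (e ▸ yp)
      have h1 := h.smul g'
      rw [g1', g2', ← e, ← g2, ← g1] at h1
      rw [g3 q hq, g3' q hq, (h.smul g).uniq (hu.smul g) h1])
    (eX e2 he2 n2) (eX e1 he1 n1) cU (hc _ he2) (hc _ he1) x hx
  exact xc (k1 _ (Subgroup.mul_mem _ he2 he1) n3 x hx (by rw [mul_smul, ← fin, ← mul_smul, sq e2 he2, one_smul]))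

end CI

theorem geo : GeoStmt.{u, v} := fun G Ω _ _ _ _ _ a b S m s hu hn h one A hA => by
  obtain ⟨A1, h1, ne, b1⟩ := h.some_big hu hn
  have sS : s ∉ S := fun e => h.not_mem hu (hu.ws.le e)
  by_cases s1 : s ∈ A1
  · have hα : ∀ A, Hy A (S ⊔ zpowers s) → s ∈ A → Big Ω A := fun A hA sA =>
      h.big_of_type hu h1 hA ne (fun e => sS (e ▸ sA)) (iff_of_true s1 sA) b1
    exact (em _).elim (hα A hA) (h.beta_of_alpha hu hα A hA)
  · have hβ : ∀ A, Hy A (S ⊔ zpowers s) → s ∉ A → Big Ω A := fun A hA sA => by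
      by_cases e : A = S
      · exact e ▸ ⟨a, b, hu.ne, hu.a_mem, hu.b_mem⟩
      · exact h.big_of_type hu h1 hA ne e (iff_of_false s1 sA) b1
    obtain ⟨t, ht, ho⟩ := hu.ws.ex_inv
    obtain ⟨g, hg⟩ := isConj_iff.1 (one t s ho h.ord)
    have hb : Big Ω (zpowers s) := by
      rw [← hg, ← H67.cj_zpowers]
      exact (Big.mono ⟨a, b, hu.ne, hu.a_mem, hu.b_mem⟩ (zpowers_le.2 ht)).cj g
    exact (em _).elim (h.alpha_of_beta hu hn hb hβ A hA) (hβ A hA)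

theorem sylE : SylEStmt.{u, v} := fun G Ω _ _ _ _ _ a b S m s hu hn h hb => by
  by_contra ne
  have sq := h.sq_E hu
  set E := S ⊔ zpowers s with hE
  obtain ⟨Q, lt, hQ, pQ⟩ := H67.exists_lt_pgroup_normalizer (M := ⊤) le_top (pg_of_sq sq) fun e =>
    ne (Nat.not_even_iff_odd.1 fun k => H67.syl_not_dvd e (by rw [relIndex_top_right]; exact k.two_dvd))
  obtain ⟨y, yQ, yE, y2⟩ : ∃ y ∈ Q, y ∉ E ∧ y * y ∈ E := by
    obtain ⟨x, hx, hx'⟩ := SetLike.exists_of_lt lt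
    obtain ⟨r, hr⟩ := pQ ⟨x, hx⟩
    obtain ⟨i, h1, h2⟩ := exists_sq (r := r) (show x ^ 2 ^ r ∈ E by
      rw [show x ^ 2 ^ r = 1 from congrArg Subtype.val hr]; exact E.one_mem) hx'
    exact ⟨_, pow_mem hx i, h1, h2⟩
  have yN : ∀ e ∈ E, y * e * y⁻¹ ∈ E := fun e he => H67.conj_mem_of_mem_normalizer (hQ yQ).2 he
  obtain ⟨A, hA, k1, k2⟩ : ∃ A, Hy A E ∧ y * y ∈ A ∧ ∀ e ∈ E, e * (y * e * y⁻¹) ∈ A := by
    by_cases hc : ∀ e ∈ E, e * y = y * e
    · obtain ⟨t, ht, ho⟩ := hu.ws.ex_inv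
      obtain ⟨w, hw, w1, wt⟩ := hu.ws.ex_two ht
      obtain ⟨z, hz, z1, zy⟩ : ∃ z ∈ S, z ≠ 1 ∧ z ≠ y * y := by
        by_cases e : t = y * y
        · exact ⟨w, hw, w1, e ▸ wt⟩
        · exact ⟨t, ht, (ord2.1 ho).2, e⟩
      obtain ⟨A, hA, l, -⟩ := hs sq (zpowers_le.2 y2) (mem_sup_left hz)
        fun e => ((mem_zp (sq _ y2)).1 e).elim z1 zy
      exact ⟨A, hA, l (mem_zpowers _), fun e he => by
        rw [← hc e he, mul_inv_cancel_right, sq e he]; exact A.one_mem⟩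
    · push Not at hc
      obtain ⟨w, hw, w1⟩ := hc
      obtain ⟨A, hA, l, -⟩ := hs (U := E ⊓ C1[y]) sq inf_le_left hw
        fun e => w1 (mem_centralizer_singleton_iff.1 e.2)
      refine ⟨A, hA, l ⟨y2, mem_centralizer_singleton_iff.2 (mul_assoc _ _ _)⟩, fun e he =>
        l ⟨mul_mem he (yN e he), mem_centralizer_singleton_iff.2 ?_⟩⟩
      have h1 := comm_of_sq sq he (yN e he)
      have h2 := comm_of_sq sq he y2
      calc e * (y * e * y⁻¹) * y = y * e * y⁻¹ * (e * (y * y)) * y⁻¹ := by rw [h1]; group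
        _ = _ := by rw [h2]; group
  obtain ⟨p, q, pq, hp, hq⟩ := hb A hA
  have cA : Nat.card A = 2 ^ m := by
    have h1 := hA.2
    rw [h.card_E hu, pow_succ'] at h1
    omega
  obtain ⟨g, -, -, e1⟩ := hu.pair_eq pq (le_DD.2 ⟨hp, hq⟩) cA
  have AQ : A ≤ Q := hA.1.trans lt.le
  have key : ∀ z ∈ Q, z ∉ A → ∃ c ∈ Fix Ω A, z • c ≠ c := fun z hz hz' => by
    by_contra H
    push Not at H
    have := hu.big_le ⟨p, q, pq, mem_Fix_sup hp (H p hp), mem_Fix_sup hq (H q hq)⟩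
      (pQ.to_le (sup_le AQ (zpowers_le.2 hz)))
    exact hz' (eq_of_le_of_card_ge (le_sup_left : A ≤ A ⊔ zpowers z) (cA ▸ this) ▸
      mem_sup_right (mem_zpowers z))
  obtain ⟨c, -, hc⟩ := exists_fix (Φ := (Set.univ : Set Ω)) pQ (fun _ _ _ _ => trivial)
    (by rwa [Set.ncard_univ])
  obtain ⟨z, hz, hz'⟩ := hA.exists_not
  have yA : y ∈ N[A] := mem_normalizer_fintype fun e he =>
    (A.mul_mem_cancel_left he).1 (k2 e (hA.1 he))
  have zA : z ∈ N[A] := centralizer_le_normalizer _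
    (mem_centralizer_iff.2 fun e he => comm_of_sq sq (hA.1 he) hz)
  have ui := @CI.ui G _ Ω _ _ _ _ _ _ (h.smul g) _ _ (hu.smul g) y z
  rw [← e1] at ui
  have := ui (fun c hc => Fix_norm yA hc) (fun c hc => Fix_norm zA hc)
    (fun c hc => by rw [← mul_smul, hc _ k1]) (fun c _ => by rw [← mul_smul, sq z hz, one_smul])
    (key y yQ fun e => yE (hA.1 e)) (key z (lt.le hz) hz') (fun e he => hc e (AQ he)) (hc y yQ)
    (hc z (lt.le hz))
  obtain ⟨d, hd, k⟩ := key (z * y) (mul_mem (lt.le hz) yQ) fun e =>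
    yE ((E.mul_mem_cancel_left hz).1 (hA.1 e))
  exact k (by rw [mul_smul, this d hd, ← mul_smul, sq z hz, one_smul])

end Cfsg.Agent.H56.W2
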