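import Cfsg.Agent.H56.W2Defs
import Cfsg.Agent.H65.A45Set
import Cfsg.Agent.H67.Hall

/-! Kit for S3400, groups. -/

set_option autoImplicit false

namespace Cfsg.Agent.H56.W2

open MulAction Subgroup Cfsg.Agent.H63 Cfsg.Agent.H56.TT Cfsg.Agent.H65.A45 Cfsg.Agent.H65

universe u v

variable {G : Type u} [Group G]

theorem Hy.rel [Finite G] {B V : Subgroup G} (h : Hy B V) : B.relIndex V = 2 := by
  have := H67.card_mul_relIndex h.1
  rw [h.2, mul_comm 2] at this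
  exact Nat.eq_of_mul_eq_mul_left Nat.card_pos this

theorem Hy.mul_mem [Finite G] {B V : Subgroup G} (h : Hy B V) {x y : G} (hx : x ∈ V) (hy : y ∈ V)
    (hx' : x ∉ B) (hy' : y ∉ B) : x * y ∈ B :=
  (Subgroup.mul_mem_iff_of_index_two (H := B.subgroupOf V) h.rel (a := ⟨x, hx⟩) (b := ⟨y, hy⟩)).2
    (iff_of_false hx' hy')

theorem Hy.cj {B V : Subgroup G} (h : Hy B V) (g : G) : Hy (cj g B) (cj g V) :=
  ⟨H67.cj_mono h.1, by rw [H67.card_cj, H67.card_cj, h.2]⟩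

/-- a subgroup whose complement in `V` is one non-empty coset -/
theorem hy_of [Finite G] {B V : Subgroup G} (hle : B ≤ V) {z : G} (hz : z ∈ V) (hz' : z ∉ B)
    (h : ∀ x ∈ V, x ∉ B → x * z ∈ B) : Hy B V := by
  refine ⟨hle, ?_⟩
  have : B.relIndex V = 2 := (Subgroup.index_eq_two_iff (H := B.subgroupOf V)).2 ⟨⟨z, hz⟩, fun x => by
    by_cases hx : (x : G) ∈ B
    · exact Or.inr ⟨hx, fun e => hz' ((B.mul_mem_cancel_left hx).1 e)⟩
    · exact Or.inl ⟨h x x.2 hx, hx⟩⟩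
  rw [← H67.card_mul_relIndex hle, this, mul_comm]

theorem comm_of_sq {V : Subgroup G} (hV : ∀ x ∈ V, x * x = 1) {x y : G} (hx : x ∈ V) (hy : y ∈ V) :
    x * y = y * x := by
  have h1 := inv_eq_of_mul_eq_one_right (hV x hx)
  have h2 := inv_eq_of_mul_eq_one_right (hV y hy)
  have h3 := inv_eq_of_mul_eq_one_right (hV _ (V.mul_mem hx hy))
  rw [← h3, mul_inv_rev, h1, h2]

theorem pg_of_sq {V : Subgroup G} (hV : ∀ x ∈ V, x * x = 1) : IsPGroup 2 V := fun x =>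
  ⟨1, Subtype.ext (by simpa [pow_two] using hV x x.2)⟩

/-- the group generated by `B` and an element normalising it with square in it -/
def adj (B : Subgroup G) (x : G) (hn : ∀ b ∈ B, x * b * x⁻¹ ∈ B) (h2 : x * x ∈ B) : Subgroup G where
  carrier := {y | y ∈ B ∨ y * x ∈ B}
  one_mem' := Or.inl B.one_mem
  mul_mem' := by
    have hn' : ∀ b ∈ B, x⁻¹ * b * x ∈ B := fun b hb => by
      have := B.mul_mem (B.mul_mem (B.inv_mem h2) (hn b hb)) h2
      rwa [show (x * x)⁻¹ * (x * b * x⁻¹) * (x * x) = x⁻¹ * b * x by group] at this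
    rintro p q (hp | hp) (hq | hq)
    · exact Or.inl (B.mul_mem hp hq)
    · exact Or.inr (by simpa [mul_assoc] using B.mul_mem hp hq)
    · exact Or.inr (by simpa [mul_assoc] using B.mul_mem hp (hn' q hq))
    · refine Or.inl ?_
      have := B.mul_mem (B.mul_mem hp (hn' _ hq)) (B.inv_mem h2)
      rwa [show p * x * (x⁻¹ * (q * x) * x) * (x * x)⁻¹ = p * q by group] at this
  inv_mem' := by
    rintro p (hp | hp)
    · exact Or.inl (B.inv_mem hp)
    · refine Or.inr ?_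
      have := B.mul_mem (hn _ (B.inv_mem hp)) h2
      rwa [show x * (p * x)⁻¹ * x⁻¹ * (x * x) = p⁻¹ * x by group] at this

theorem mem_sup_zpowers {B : Subgroup G} {x : G} (hn : ∀ b ∈ B, x * b * x⁻¹ ∈ B) (h2 : x * x ∈ B)
    {y : G} : y ∈ B ⊔ zpowers x ↔ y ∈ B ∨ y * x ∈ B := by
  refine ⟨fun hy => (sup_le (fun _ h => Or.inl h) (zpowers_le.2 (Or.inr h2)) :
    B ⊔ zpowers x ≤ adj B x hn h2) hy, fun hy => hy.elim (fun h => mem_sup_left h) fun h => ?_⟩
  have := (B ⊔ zpowers x).mul_mem (mem_sup_left h) (inv_mem (mem_sup_right (mem_zpowers x)))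
  simpa using this

/-- separation by a hyperplane -/
theorem hs [Finite G] {U V : Subgroup G} (hV : ∀ x ∈ V, x * x = 1) (hle : U ≤ V) {w : G} (hw : w ∈ V)
    (hw' : w ∉ U) : ∃ B, Hy B V ∧ U ≤ B ∧ w ∉ B := by
  obtain ⟨B, ⟨h1, h2, h3⟩, hm⟩ := (Set.toFinite {B : Subgroup G | U ≤ B ∧ B ≤ V ∧ w ∉ B}).exists_maximal
    ⟨U, le_rfl, hle, hw'⟩
  refine ⟨B, hy_of h2 hw h3 fun x hx hx' => ?_, h1, h3⟩
  have hn : ∀ b ∈ B, x * b * x⁻¹ ∈ B := fun b hb => by
    rwa [comm_of_sq hV hx (h2 hb), mul_inv_cancel_right]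
  have hxx : x * x ∈ B := by rw [hV x hx]; exact B.one_mem
  by_contra H
  refine hx' (hm (y := B ⊔ zpowers x) ⟨h1.trans le_sup_left, sup_le h2 (zpowers_le.2 hx), fun e => ?_⟩
    le_sup_left (mem_sup_right (mem_zpowers x)))
  rcases (mem_sup_zpowers hn hxx).1 e with e | e
  · exact h3 e
  · exact H (comm_of_sq hV hx hw ▸ e)

theorem mem_of_sq_odd [Finite G] {K M : Subgroup G} (hn : M ≤ N[K]) (ho : Odd (K.relIndex M)) {x : G}
    (hx : x ∈ M) (h : x * x ∈ K) : x ∈ K := by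
  have : (K.subgroupOf M).Normal := Subgroup.normal_subgroupOf_of_le_normalizer hn
  have h1 : x ^ K.relIndex M ∈ K := (K.subgroupOf M).pow_index_mem ⟨x, hx⟩
  obtain ⟨r, hr⟩ := ho
  rw [hr, pow_succ, pow_mul, pow_two] at h1
  exact (K.mul_mem_cancel_left (K.pow_mem h r)).1 h1

theorem ni_cj (g : G) (X : Subgroup G) : ni (cj g X) = ni X := by
  symm
  exact Set.ncard_congr (fun x _ => g * x * g⁻¹)
    (fun x hx => ⟨H67.conj_mem_cj hx.1, (ord_conj g x).trans hx.2⟩) (fun x y _ _ e => by simpa using e)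
    fun y hy => ⟨g⁻¹ * y * g, ⟨H67.mem_cj.1 hy.1, by
      rw [← ord_conj g, ← hy.2]; congr 1; group⟩, by group⟩

namespace WS

variable {D S : Subgroup G} {m : ℕ} (h : WS D S m)
include h

theorem comm {x y : G} (hx : x ∈ S) (hy : y ∈ S) : x * y = y * x := comm_of_sq h.sq hx hy
theorem pg : IsPGroup 2 S := pg_of_sq h.sq
theorem ord {x : G} (hx : x ∈ S) (h1 : x ≠ 1) : orderOf x = 2 := ord2.2 ⟨h.sq x hx, h1⟩

theorem cj (g : G) : WS (cj g D) (cj g S) m where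
  simple := by have := h.simple; exact (H67.cjEquiv g D).symm.isSimpleGroup
  nonab := fun e => h.nonab (H67.isMulCommutative_cj_iff.1 e)
  le := H67.cj_mono h.le
  card := by rw [H67.card_cj, h.card]
  odd := by rw [H67.relIndex_cj]; exact h.odd
  two := h.two
  sq := fun x hx => by
    obtain ⟨y, hy, rfl⟩ := H67.mem_cj'.1 hx
    rw [conj_mul, h.sq y hy]; simp
  one := fun x' hx' y' hy' ox oy => by
    obtain ⟨x, hx, rfl⟩ := H67.mem_cj'.1 hx'
    obtain ⟨y, hy, rfl⟩ := H67.mem_cj'.1 hy'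
    rw [ord_conj] at ox oy
    obtain ⟨d, hd, rfl⟩ := h.one x hx y hy ox oy
    exact ⟨g * d * g⁻¹, H67.conj_mem_cj hd, by group⟩
  selfc := fun x' hx' hc => by
    obtain ⟨x, hx, rfl⟩ := H67.mem_cj'.1 hx'
    refine H67.conj_mem_cj (h.selfc x hx fun s hs => ?_)
    have := hc _ (H67.conj_mem_cj hs)
    rw [conj_mul, conj_mul] at this
    simpa using this
  trans := fun x' hx' y' hy' x1 y1 => by
    obtain ⟨x, hx, rfl⟩ := H67.mem_cj'.1 hx'
    obtain ⟨y, hy, rfl⟩ := H67.mem_cj'.1 hy'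
    obtain ⟨d, hd, hn, rfl⟩ := h.trans x hx y hy (by simpa using x1) (by simpa using y1)
    exact ⟨g * d * g⁻¹, H67.conj_mem_cj hd, H67.cj_normalizer g S ▸ H67.conj_mem_cj hn, by group⟩
  hyp := fun B B' hB hB' => by
    have e := hB.cj g⁻¹
    have e' := hB'.cj g⁻¹
    rw [H67.cj_inv_cj] at e e'
    obtain ⟨d, hd, hn, k⟩ := h.hyp _ _ e e'
    refine ⟨g * d * g⁻¹, H67.conj_mem_cj hd, H67.cj_normalizer g S ▸ H67.conj_mem_cj hn, ?_⟩
    rw [H67.cj_mul, H67.cj_mul, k, H67.cj_cj_inv]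

theorem four_le : 4 ≤ Nat.card S := by
  rw [h.card]; exact Nat.pow_le_pow_right (n := 2) (by norm_num) h.two

theorem ex_two [Finite G] {t : G} (_ : t ∈ S) : ∃ w ∈ S, w ≠ 1 ∧ w ≠ t := by
  by_contra H
  push Not at H
  have h1 : (S : Set G) ⊆ {1, t} := fun w hw => by
    by_cases e : w = 1
    · exact Or.inl e
    · exact Or.inr (H w hw e)
  have h2 := (Set.ncard_le_ncard h1).trans (Set.ncard_insert_le _ _)
  rw [Set.ncard_singleton, ← Nat.card_coe_set_eq] at h2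
  have := h.four_le
  change Nat.card S ≤ _ at h2
  omega

theorem ex_inv [Finite G] : ∃ t ∈ S, orderOf t = 2 := by
  obtain ⟨w, hw, h1, -⟩ := h.ex_two S.one_mem
  exact ⟨w, hw, h.ord hw h1⟩

/-- Sylow's theorem inside a subgroup `M` of the ambient group in which `S` has odd index -/
theorem syl_conj' [Finite G] {M U : Subgroup G} (hM : S ≤ M) (ho : Odd (S.relIndex M)) (hU : U ≤ M)
    (h2 : IsPGroup 2 U) : ∃ d ∈ M, U ≤ H63.cj d S :=
  H67.exists_le_cj_syl (H67.syl_mk hM h.pg ho.not_two_dvd_nat) hU h2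

theorem syl_conj [Finite G] {U : Subgroup G} (hU : U ≤ D) (h2 : IsPGroup 2 U) :
    ∃ d ∈ D, U ≤ H63.cj d S := h.syl_conj' h.le h.odd hU h2

theorem odd_rel [Finite G] {M : Subgroup G} (hM : S ≤ M) (hD : M ≤ D) : Odd (S.relIndex M) :=
  h.odd.of_dvd_nat (Dvd.intro _ (relIndex_mul_relIndex S M D hM hD))

theorem card_eq [Finite G] {t : G} (ht : t ∈ D) (ho : orderOf t = 2) :
    Nat.card D = ni D * Nat.card ↥(D ⊓ C1[t]) :=
  OT.card_cls D t fun y => ⟨fun hy => h.one t ht y hy.1 ho hy.2, fun ⟨k, hk, e⟩ =>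
    e ▸ ⟨D.mul_mem (D.mul_mem hk ht) (D.inv_mem hk), (ord_conj k t).trans ho⟩⟩

theorem le_cent {t : G} (ht : t ∈ S) : S ≤ D ⊓ C1[t] := fun _ hx =>
  ⟨h.le hx, mem_centralizer_singleton_iff.2 (h.comm hx ht)⟩

theorem odd_ni [Finite G] : Odd (ni D) := by
  obtain ⟨t, ht, ho⟩ := h.ex_inv
  have h1 := h.card_eq (h.le ht) ho
  rw [← H67.card_mul_relIndex h.le, ← H67.card_mul_relIndex (h.le_cent ht), mul_left_comm] at h1
  exact h.odd.of_dvd_nat ⟨_, Nat.eq_of_mul_eq_mul_left Nat.card_pos h1⟩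

theorem normal_eq {K : Subgroup G} (hK : K ≤ D) (hn : D ≤ N[K]) : K = ⊥ ∨ K = D :=
  (h.simple.eq_bot_or_eq_top_of_normal (K.subgroupOf D)
    (Subgroup.normal_subgroupOf_of_le_normalizer hn)).imp
    (fun e => by rw [← inf_eq_left.2 hK]; exact disjoint_iff.1 (subgroupOf_eq_bot.1 e))
    fun e => le_antisymm hK (subgroupOf_eq_top.1 e)

theorem zc {x : G} (hx : x ∈ D) (hc : ∀ d ∈ D, x * d = d * x) : x = 1 := by
  rcases h.normal_eq (K := Z[D]) inf_le_left (H67.center_normalIn D).2 with e | e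
  · exact mem_bot.1 (e ▸ ⟨hx, mem_centralizer_iff.2 fun d hd => (hc d hd).symm⟩ : x ∈ (⊥ : Subgroup G))
  · exact (h.nonab (e ▸ H67.isMulCommutative_center D)).elim

theorem sixty [Finite G] (ht : Ty D m) : 60 < Nat.card D := by
  obtain ⟨t, hS, ho⟩ := h.ex_inv
  have tD := h.le hS
  rw [h.card_eq tD ho]
  rcases ht with k | ⟨-, q, k', ε, k⟩ | ⟨-, k⟩ | ⟨-, q, k⟩
  · have h1 := k.ni_eq
    have h2 : 4 ^ 3 ≤ 4 ^ m := Nat.pow_le_pow_right (by norm_num) k.three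
    have h3 : 0 < 2 ^ m := by positivity
    rw [k.cent t tD ho]
    nlinarith
  · have h1 := k.ni_eq
    have h2 := k.three
    rw [k.cent t tD ho]
    have : (55 : ℤ) ≤ ni D := by rcases k.eps with rfl | rfl <;> nlinarith
    have : 55 ≤ ni D := by exact_mod_cast this
    nlinarith
  · rw [k.cent t tD ho, k.ni_eq]; norm_num
  · obtain ⟨l, hl, hq⟩ := k.pow
    have h1 : 27 ≤ q := hq ▸ Nat.pow_le_pow_right (n := 3) (i := 3) (by norm_num) (by omega)
    have h2 := k.ni_eq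
    have h3 := k.cent t tD ho
    have h4 : 61 ≤ ni D := by nlinarith [Nat.pow_le_pow_left h1 3, Nat.mul_le_mul h1 (le_refl (q ^ 3))]
    have h5 : 0 < Nat.card ↥(D ⊓ C1[t]) := Nat.card_pos
    nlinarith

end WS

end Cfsg.Agent.H56.W2
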