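import Cfsg.Agent.H56.W2K1

/-! Kit for S3400, actions. -/

set_option autoImplicit false

namespace Cfsg.Agent.H56.W2

open MulAction Subgroup Cfsg.Agent.H63 Cfsg.Agent.H56.TT Cfsg.Agent.H65.A45 Cfsg.Agent.H65

universe u v

variable {G : Type u} [Group G] {Ω : Type v} [MulAction G Ω]

theorem mem_Fix {U : Subgroup G} {c : Ω} : c ∈ Fix Ω U ↔ ∀ x ∈ U, x • c = c := Iff.rfl

theorem mem_Fix_cj {U : Subgroup G} {c : Ω} (g : G) : g • c ∈ Fix Ω (cj g U) ↔ c ∈ Fix Ω U :=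
  ⟨fun h x hx => (conj_smul_iff g x c c).1 (h _ (H67.conj_mem_cj hx)), fun h x hx => by
    obtain ⟨y, hy, rfl⟩ := H67.mem_cj'.1 hx
    exact (conj_smul_iff g y c c).2 (h y hy)⟩

theorem Fix_norm {U : Subgroup G} {g : G} (hg : g ∈ N[U]) {c : Ω} (hc : c ∈ Fix Ω U) :
    g • c ∈ Fix Ω U := H67.cj_eq_self hg ▸ (mem_Fix_cj g).2 hc

theorem ncard_Fix_cj (g : G) (U : Subgroup G) : (Fix Ω (cj g U)).ncard = (Fix Ω U).ncard := by
  symm
  exact Set.ncard_congr (fun c _ => g • c) (fun c hc => (mem_Fix_cj g).2 hc)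
    (fun c d _ _ e => smul_left_cancel g e)
    fun d hd => ⟨g⁻¹ • d, (mem_Fix_cj g).1 (by rwa [smul_inv_smul]), smul_inv_smul g d⟩

theorem Big.cj {U : Subgroup G} (h : Big Ω U) (g : G) : Big Ω (cj g U) := by
  obtain ⟨c, d, h1, h2, h3⟩ := h
  exact ⟨g • c, g • d, fun e => h1 (smul_left_cancel g e), (mem_Fix_cj g).2 h2, (mem_Fix_cj g).2 h3⟩

theorem Big.mono {U V : Subgroup G} (h : Big Ω V) (hle : U ≤ V) : Big Ω U := by
  obtain ⟨c, d, h1, h2, h3⟩ := h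
  exact ⟨c, d, h1, fun x hx => h2 x (hle hx), fun x hx => h3 x (hle hx)⟩

theorem DD_smul (g : G) (a b : Ω) : DD G (g • a) (g • b) = cj g (DD G a b) :=
  Subgroup.ext fun _ => by rw [H67.mem_cj, conj_mem_DD']

theorem le_DD {U : Subgroup G} {c d : Ω} : U ≤ DD G c d ↔ c ∈ Fix Ω U ∧ d ∈ Fix Ω U :=
  ⟨fun h => ⟨fun _ hx => (h hx).1, fun _ hx => (h hx).2⟩, fun h x hx => ⟨h.1 x hx, h.2 x hx⟩⟩

/-- parity of the number of fixed points of a 2-group on an invariant set -/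
theorem par [Finite Ω] {U : Subgroup G} (hU : IsPGroup 2 U) {Φ : Set Ω}
    (hΦ : ∀ x ∈ U, ∀ c ∈ Φ, x • c ∈ Φ) : (Φ ∩ Fix Ω U).ncard % 2 = Φ.ncard % 2 := by
  let T : SubMulAction U Ω := ⟨Φ, fun k c hc => hΦ k k.2 c hc⟩
  have h1 := hU.card_modEq_card_fixedPoints T
  have h2 : Nat.card (fixedPoints U T) = (Φ ∩ Fix Ω U).ncard := by
    rw [← Nat.card_coe_set_eq]
    exact Nat.card_congr ⟨fun c => ⟨c.1.1, c.1.2, fun x hx => congrArg Subtype.val (c.2 ⟨x, hx⟩)⟩,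
      fun c => ⟨⟨c.1, c.2.1⟩, fun x => Subtype.ext (c.2.2 x x.2)⟩, fun _ => rfl, fun _ => rfl⟩
  rw [h2] at h1
  exact h1.symm

theorem par_univ [Finite Ω] {U : Subgroup G} (hU : IsPGroup 2 U) :
    (Fix Ω U).ncard % 2 = Nat.card Ω % 2 := by
  have := par (Ω := Ω) hU (Φ := Set.univ) fun _ _ _ _ => trivial
  rwa [Set.univ_inter, Set.ncard_univ] at this

theorem Fix_zpowers (t : G) : Fix Ω (zpowers t) = fixedBy Ω t :=
  Set.ext fun c => ⟨fun h => h t (mem_zpowers t), fun h _ hx =>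
    (zpowers_le (H := stabilizer G c)).2 h hx⟩

theorem pg_zpowers {t : G} (ht : t * t = 1) : IsPGroup 2 (zpowers t) := pg_of_sq fun x hx => by
  obtain ⟨k, rfl⟩ := mem_zpowers_iff.1 hx
  rw [← (Commute.refl t).mul_zpow, ht, one_zpow]

theorem par_inv [Finite Ω] {t : G} (ht : t * t = 1) : (fixedBy Ω t).ncard % 2 = Nat.card Ω % 2 :=
  Fix_zpowers (Ω := Ω) t ▸ par_univ (pg_zpowers ht)

theorem exists_fix [Finite Ω] {U : Subgroup G} (hU : IsPGroup 2 U) {Φ : Set Ω}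
    (hΦ : ∀ x ∈ U, ∀ c ∈ Φ, x • c ∈ Φ) (ho : Odd Φ.ncard) : ∃ c ∈ Φ, c ∈ Fix Ω U := by
  have := par hU hΦ
  rw [Nat.odd_iff.1 ho] at this
  exact Set.nonempty_of_ncard_ne_zero (s := Φ ∩ Fix Ω U) fun e => by rw [e] at this; omega

/-- an element acting as an involution on a set of odd size -/
theorem exists_fix1 [Finite Ω] {g : G} {Φ : Set Ω} (hΦ : ∀ c ∈ Φ, g • c ∈ Φ)
    (h2 : ∀ c ∈ Φ, g • g • c = c) (ho : Odd Φ.ncard) : ∃ c ∈ Φ, g • c = c := by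
  classical
  have := Fintype.ofFinite Φ
  have hi : Function.Involutive fun c : Φ => (⟨g • c.1, hΦ _ c.2⟩ : Φ) :=
    fun c => Subtype.ext (h2 _ c.2)
  obtain ⟨c, hc⟩ := Equiv.Perm.exists_fixed_point_of_prime (p := 2) (n := 1) (σ := hi.toPerm)
    (by rw [← Nat.card_eq_fintype_card, Nat.card_coe_set_eq]; exact ho.not_two_dvd_nat)
    (Equiv.ext fun c => hi c)
  exact ⟨c, c.2, congrArg Subtype.val hc⟩

theorem TwoOn.tr {K : Subgroup G} {Φ : Set Ω} {a b : Ω} (ha : a ∈ Φ) (h2 : TwoOn K Φ a b) {c : Ω}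
    (hc : c ∈ Φ) : ∃ k ∈ K, k • a = c := by
  by_cases hc' : c = a
  · exact ⟨1, K.one_mem, by rw [one_smul, hc']⟩
  · obtain ⟨k, hk, k1, -⟩ := h2 c hc a ha hc'
    exact ⟨k, hk, k1⟩

theorem TwoOn.tr' {K : Subgroup G} {Φ : Set Ω} {a b : Ω} (ha : a ∈ Φ) (h2 : TwoOn K Φ a b) :
    ∀ c ∈ Φ, ∀ d ∈ Φ, ∃ k ∈ K, k • c = d := fun c hc d hd => by
  obtain ⟨k, hk, rfl⟩ := TwoOn.tr ha h2 hc
  obtain ⟨l, hl, rfl⟩ := TwoOn.tr ha h2 hd
  exact ⟨l * k⁻¹, K.mul_mem hl (K.inv_mem hk), by rw [mul_smul, inv_smul_smul]⟩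

/-- the sizes in a doubly transitive situation -/
theorem countOn [Finite G] [Finite Ω] {K : Subgroup G} {Φ : Set Ω} {a b : Ω} (ha : a ∈ Φ) (hb : b ∈ Φ)
    (hab : a ≠ b) (h2 : TwoOn K Φ a b) {X : Set G} (hX : ∀ k ∈ K, ∀ x ∈ X, k * x * k⁻¹ ∈ X)
    (hXΦ : ∀ x ∈ X, ∀ c ∈ Φ, x • c ∈ Φ) {f : ℕ} (hf : ∀ x ∈ X, {c | c ∈ Φ ∧ x • c = c}.ncard = f) :
    X.ncard * (Φ.ncard - f) = Φ.ncard * (Φ.ncard - 1) * {x | x ∈ X ∧ x • a = b}.ncard ∧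
      X.ncard * (f * (f - 1)) =
        Φ.ncard * (Φ.ncard - 1) * {x | x ∈ X ∧ (x • a = a ∧ x • b = b)}.ncard := by
  have hφ : (Φ \ {a}).ncard = Φ.ncard - 1 := Set.ncard_sdiff_singleton_of_mem ha
  have e1 := (count ha hb hab h2 hX (fun x hx => hXΦ x hx a ha) hf).1
  have e2 : X.ncard * f = Φ.ncard * {x | x ∈ X ∧ x • a = a}.ncard := by
    refine dcount _ _ (fun x c => x • c = c) _ _ hf (fun c hc => ?_)
    obtain ⟨k, hk, k1⟩ := TwoOn.tr ha h2 hc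
    exact (ncard_conj hX hk (Q := fun x => x • c = c) fun x => by
      rw [← conj_smul_iff k x a a, k1]).symm
  have e2' : X.ncard * (Φ.ncard - f) = Φ.ncard * {x | x ∈ X ∧ ¬ x • a = a}.ncard := by
    refine dcount _ _ (fun x c => ¬ x • c = c) _ _ (fun x hx => ?_) (fun c hc => ?_)
    · rw [← hf x hx, ← Set.ncard_sdiff (fun c hc => hc.1)]
      congr 1; ext c; simp only [Set.mem_ofPred_eq, Set.mem_sdiff]; tauto
    · obtain ⟨k, hk, k1⟩ := TwoOn.tr ha h2 hc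
      exact (ncard_conj hX hk (Q := fun x => ¬ x • c = c) fun x => by
        rw [← conj_smul_iff k x a a, k1]).symm
  have e3 : {x | x ∈ X ∧ ¬ x • a = a}.ncard * 1 = (Φ.ncard - 1) * {x | x ∈ X ∧ x • a = b}.ncard := by
    rw [← hφ]
    refine dcount _ _ (fun x c => x • a = c) _ _ (fun x hx => ?_) (fun c hc => ?_)
    · rw [Set.ncard_eq_one]
      refine ⟨x • a, Set.ext fun c => ⟨fun hc => hc.2.symm, fun hc => ?_⟩⟩
      rw [Set.mem_singleton_iff] at hc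
      subst hc
      exact ⟨⟨hXΦ x hx.1 a ha, hx.2⟩, rfl⟩
    · obtain ⟨k, hk, k1, k2⟩ := h2 a ha c hc.1 (fun e => hc.2 e.symm)
      rw [ncard_conj hX hk (Q := fun x => x • a = c)]
      · congr 1; ext x; simp only [Set.mem_ofPred_eq]
        exact ⟨fun h => ⟨h.1.1, h.2⟩, fun h => ⟨⟨h.1, fun e => hc.2 (h.2.symm.trans e)⟩, h.2⟩⟩
      · intro x
        rw [← conj_smul_iff k x a b, k1, k2]
  rw [mul_one] at e3
  exact ⟨by rw [e2', e3, mul_assoc], by rw [← mul_assoc, e2, mul_assoc, e1, mul_assoc]⟩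

/-- at most one permutation with a unique fixed point at each point -/
theorem cnt1 [Finite G] [Finite Ω] {M : Subgroup G} {Ψ : Set Ω} {X : Set G}
    (hM : ∀ g ∈ M, ∀ c ∈ Ψ, g • c ∈ Ψ) (htr : ∀ c ∈ Ψ, ∀ d ∈ Ψ, ∃ g ∈ M, g • c = d)
    (hX : ∀ g ∈ M, ∀ x ∈ X, g * x * g⁻¹ ∈ X) (hXΨ : ∀ x ∈ X, ∀ c ∈ Ψ, x • c ∈ Ψ)
    (h1 : ∀ x ∈ X, ∀ c ∈ Ψ, ∀ d ∈ Ψ, x • c = c → x • d = d → c = d)
    (hu : ∀ x ∈ X, ∀ y ∈ X, ∀ c ∈ Ψ, x • c ≠ c → x • c = y • c → ∀ e ∈ Ψ, x • e = y • e)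
    {x y : G} (hx : x ∈ X) (hy : y ∈ X) {c : Ω} (hc : c ∈ Ψ) (xc : x • c = c) (yc : y • c = c) :
    ∀ e ∈ Ψ, x • e = y • e := by
  by_contra H
  push Not at H
  obtain ⟨e, he, ne⟩ := H
  choose! g g1 g2 using htr c hc
  let z : Bool → G := fun β => if β then x else y
  have zX : ∀ β, z β ∈ X := fun β => by cases β <;> simpa [z]
  have zc : ∀ β, z β • c = c := fun β => by cases β <;> simpa [z]
  have wX : ∀ p ∈ Ψ, ∀ β, g p * z β * (g p)⁻¹ ∈ X := fun p hp β => hX _ (g1 p hp) _ (zX β)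
  have wp : ∀ p ∈ Ψ, ∀ β, (g p * z β * (g p)⁻¹) • p = p := fun p hp β => by
    have := (conj_smul_iff (g p) (z β) c c).2 (zc β)
    rwa [g2 p hp] at this
  have wc : ∀ p ∈ Ψ \ {c}, ∀ β, (g p * z β * (g p)⁻¹) • c ≠ c := fun p hp β k =>
    hp.2 (h1 _ (wX p hp.1 β) p hp.1 c hc (wp p hp.1 β) k)
  have key := Set.ncard_le_ncard_of_injOn (s := (Ψ \ {c}) ×ˢ (Set.univ : Set Bool)) (t := Ψ \ {c})
    (fun q => (g q.1 * z q.2 * (g q.1)⁻¹) • c)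
    (fun q hq => ⟨hXΨ _ (wX _ hq.1.1 _) c hc, wc _ hq.1 _⟩) (fun q hq q' hq' k => by
      obtain ⟨p, β⟩ := q
      obtain ⟨p', β'⟩ := q'
      have k' := hu _ (wX p hq.1.1 β) _ (wX p' hq'.1.1 β') c hc (wc p hq.1 β) k
      obtain rfl : p = p' := h1 _ (wX p' hq'.1.1 β') p hq.1.1 p' hq'.1.1
        ((k' p hq.1.1).symm.trans (wp p hq.1.1 β)) (wp p' hq'.1.1 β')
      have k2 := k' _ (hM _ (g1 p hq.1.1) e he)
      simp only [mul_smul, inv_smul_smul, smul_left_cancel_iff] at k2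
      cases β <;> cases β'
      · rfl
      · exact absurd k2.symm ne
      · exact absurd k2 ne
      · rfl)
  rw [Set.ncard_prod, Set.ncard_univ, Nat.card_eq_fintype_card, Fintype.card_bool] at key
  have : (Ψ \ {c}).ncard ≠ 0 := Set.ncard_ne_zero_of_mem (a := e) ⟨he, fun k => ne (by
    rw [Set.mem_singleton_iff.1 k, xc, yc])⟩
  omega

end Cfsg.Agent.H56.W2
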