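import Cfsg.Agent.H56.W2K2

/-! Kit for S3400. -/

set_option autoImplicit false

namespace Cfsg.Agent.H56.W2

open MulAction Subgroup Cfsg.Agent.H63 Cfsg.Agent.H56.TT Cfsg.Agent.H65.A45 Cfsg.Agent.H65

universe u v

variable {G : Type u} [Group G] {Ω : Type v} [MulAction G Ω]

theorem pg_of_pow {x : G} {r : ℕ} (hx : x ^ 2 ^ r = 1) : IsPGroup 2 (zpowers x) := fun y =>
  ⟨r, Subtype.ext (by
    obtain ⟨k, hk⟩ := mem_zpowers_iff.1 y.2
    rw [Subgroup.coe_pow, ← hk, ← zpow_natCast, ← zpow_mul, mul_comm, zpow_mul, zpow_natCast, hx,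
      one_zpow, Subgroup.coe_one])⟩

theorem twoOn_univ (h : Two G Ω) {a b : Ω} (hab : a ≠ b) : TwoOn (⊤ : Subgroup G) Set.univ a b :=
  fun c _ d _ hcd => (h a b c d hab hcd).imp fun _ k => ⟨trivial, k⟩

namespace Su

variable {a b : Ω} {S : Subgroup G} {m : ℕ} (h : Su G a b S m)
include h

theorem smul (g : G) : Su G (g • a) (g • b) (cj g S) m :=
  ⟨h.two, fun e => h.ne (smul_left_cancel g e), DD_smul g a b ▸ h.ws.cj g⟩

theorem a_mem : a ∈ Fix Ω S := fun _ hx => (h.ws.le hx).1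
theorem b_mem : b ∈ Fix Ω S := fun _ hx => (h.ws.le hx).2

theorem pair [Finite G] {c d : Ω} (hcd : c ≠ d) {U : Subgroup G} (hU : U ≤ DD G c d)
    (h2 : IsPGroup 2 U) : ∃ g : G, g • a = c ∧ g • b = d ∧ U ≤ cj g S := by
  obtain ⟨g, rfl, rfl⟩ := h.two a b c d h.ne hcd
  obtain ⟨e, he, k⟩ := (h.smul g).ws.syl_conj hU h2
  exact ⟨e * g, by rw [mul_smul, he.1], by rw [mul_smul, he.2], by rwa [H67.cj_mul]⟩

theorem big_le [Finite G] {U : Subgroup G} (hb : Big Ω U) (h2 : IsPGroup 2 U) :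
    Nat.card U ≤ 2 ^ m := by
  obtain ⟨c, d, hcd, hc, hd⟩ := hb
  obtain ⟨g, -, -, k⟩ := h.pair hcd (le_DD.2 ⟨hc, hd⟩) h2
  rw [← h.ws.card, ← H67.card_cj g S]
  exact card_le_of_le k

theorem big_sq [Finite G] {U : Subgroup G} (hb : Big Ω U) (h2 : IsPGroup 2 U) :
    ∀ x ∈ U, x * x = 1 := by
  obtain ⟨c, d, hcd, hc, hd⟩ := hb
  obtain ⟨g, -, -, k⟩ := h.pair hcd (le_DD.2 ⟨hc, hd⟩) h2
  exact fun x hx => (h.smul g).ws.sq x (k hx)

/-- a 2-subgroup of order `2 ^ m` fixing two points is a conjugate of `S` -/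
theorem pair_eq [Finite G] {c d : Ω} (hcd : c ≠ d) {U : Subgroup G} (hU : U ≤ DD G c d)
    (hc : Nat.card U = 2 ^ m) : ∃ g : G, g • a = c ∧ g • b = d ∧ U = cj g S := by
  obtain ⟨g, g1, g2, k⟩ := h.pair hcd hU (IsPGroup.of_card hc)
  exact ⟨g, g1, g2, eq_of_le_of_card_ge k (by rw [H67.card_cj, h.ws.card, hc])⟩

/-- a 2-element fixing two points has order at most two -/
theorem sq_of_fix [Finite G] {x : G} {r : ℕ} (hx : x ^ 2 ^ r = 1) {c d : Ω} (hcd : c ≠ d)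
    (hc : x • c = c) (hd : x • d = d) : x * x = 1 :=
  h.big_sq ⟨c, d, hcd, Fix_zpowers (Ω := Ω) x ▸ hc, Fix_zpowers (Ω := Ω) x ▸ hd⟩ (pg_of_pow hx) x
    (mem_zpowers x)

theorem isConj_of_fix {t : G} (ht : t ∈ DD G a b) (ho : orderOf t = 2) {x : G} (hx : orderOf x = 2)
    {c d : Ω} (hcd : c ≠ d) (hc : x • c = c) (hd : x • d = d) : IsConj t x := by
  obtain ⟨g, rfl, rfl⟩ := h.two a b c d h.ne hcd
  obtain ⟨e, -, he⟩ := (h.smul g).ws.one _ ((conj_mem_DD g).2 ht) x ⟨hc, hd⟩ ((ord_conj g t).trans ho) hx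
  exact isConj_iff.2 ⟨e * g, by rw [← he]; group⟩

theorem wittT {t : G} (ht : t ∈ DD G a b) (ho : orderOf t = 2) : TwoOn C1[t] (fixedBy Ω t) a b :=
  fun c hc d hd hcd => by
    obtain ⟨g, rfl, rfl⟩ := h.two a b c d h.ne hcd
    obtain ⟨e, he, ee⟩ := (h.smul g).ws.one _ ((conj_mem_DD g).2 ht) t ⟨hc, hd⟩
      ((ord_conj g t).trans ho) ho
    refine ⟨e * g, ?_, by rw [mul_smul, he.1], by rw [mul_smul, he.2]⟩
    rw [mem_centralizer_singleton_iff, ← mul_inv_eq_iff_eq_mul]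
    exact Eq.trans (by group) ee

theorem wittS [Finite G] : TwoOn N[S] (Fix Ω S) a b := fun _ hc _ hd hcd => by
  obtain ⟨g, g1, g2, k⟩ := h.pair_eq hcd (le_DD.2 ⟨hc, hd⟩) h.ws.card
  exact ⟨g, H67.cj_eq_self_iff.1 k.symm, g1, g2⟩

theorem wittTS [Finite G] {t : G} (ht : t ∈ S) : TwoOn (C1[t] ⊓ N[S]) (Fix Ω S) a b :=
  fun c hc d hd hcd => by
    obtain ⟨g, hg, rfl, rfl⟩ := h.wittS c hc d hd hcd
    by_cases t1 : t = 1
    · exact ⟨g, ⟨mem_centralizer_singleton_iff.2 (by simp [t1]), hg⟩, rfl, rfl⟩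
    obtain ⟨e, he, en, ee⟩ := h.ws.trans t ht _ (H67.conj_mem_of_mem_normalizer' hg ht) t1
      (fun k => t1 (by rw [← mul_inv_cancel_left g t, ← mul_inv_cancel_right (g⁻¹ * t) g, k]; simp))
    refine ⟨g * e, ⟨mem_centralizer_singleton_iff.2 ?_, mul_mem hg en⟩, by rw [mul_smul, he.1],
      by rw [mul_smul, he.2]⟩
    rw [← mul_inv_eq_iff_eq_mul]
    calc _ = g * (e * t * e⁻¹) * g⁻¹ := by group
      _ = t := by rw [ee]; group

/-- every involution is conjugate to one mapping `a` to `b` -/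
theorem exists_sw [FaithfulSMul G Ω] {x : G} (hx : orderOf x = 2) :
    ∃ g : G, (g * x * g⁻¹) • a = b := by
  obtain ⟨c, hc⟩ : ∃ c : Ω, x • c ≠ c := by
    by_contra H
    push Not at H
    exact (ord2.1 hx).2 (eq_of_smul_eq_smul fun c : Ω => by rw [H, one_smul])
  obtain ⟨g, g1, g2⟩ := h.two c (x • c) a b hc.symm h.ne
  exact ⟨g, by rw [← g1, ← g2]; exact (conj_smul_iff g x _ _).2 rfl⟩

theorem card_stab [Finite G] [Finite Ω] :
    Nat.card (stabilizer G a) = (Nat.card Ω - 1) * Nat.card (DD G a b) := by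
  have := (card_twoOn (Set.mem_univ a) (Set.mem_univ b) h.ne (twoOn_univ h.two h.ne) fun _ _ _ _ => trivial).2
  rwa [top_inf_eq, top_inf_eq, Set.ncard_univ] at this

/-- even degree: `S` is a Sylow subgroup of `G_a` -/
theorem odd_stab [Finite G] [Finite Ω] (hn : Even (Nat.card Ω)) :
    Odd (S.relIndex (stabilizer G a)) := by
  have h1 := h.card_stab
  have hD : DD G a b ≤ stabilizer G a := inf_le_left
  rw [← H67.card_mul_relIndex hD, mul_comm] at h1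
  rw [← relIndex_mul_relIndex S _ _ h.ws.le hD, Nat.eq_of_mul_eq_mul_right Nat.card_pos h1]
  exact h.ws.odd.mul (Nat.Even.sub_odd (by have := two_le_card h.ne; omega) hn odd_one)

theorem cls_DD {t : G} (ht : t ∈ DD G a b) (ho : orderOf t = 2) :
    {x | IsConj t x ∧ (x • a = a ∧ x • b = b)}.ncard = ni (DD G a b) := by
  congr 1; ext x
  refine ⟨fun hx => ⟨hx.2, ?_⟩, fun hx => ⟨h.isConj_of_fix ht ho hx.2 h.ne hx.1.1 hx.1.2, hx.1⟩⟩
  obtain ⟨g, rfl⟩ := isConj_iff.1 hx.1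
  exact (ord_conj g t).trans ho

/-- the first count -/
theorem first [Finite G] [Finite Ω] [FaithfulSMul G Ω] {t : G} (ht : t ∈ DD G a b)
    (ho : orderOf t = 2) : 0 < {x | IsConj t x ∧ x • a = b}.ncard ∧
      {x | IsConj t x ∧ x • a = a}.ncard =
        ni (DD G a b) + {x | IsConj t x ∧ x • a = b}.ncard * (fixedBy Ω t).ncard := by
  refine ⟨?_, ?_⟩
  · obtain ⟨g, hg⟩ := h.exists_sw ho
    exact (Set.ncard_pos (Set.toFinite _)).2 ⟨_, isConj_iff.2 ⟨g, rfl⟩, hg⟩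
  obtain ⟨e1, e2⟩ := H65.A45.count (X := {x | IsConj t x}) (f := (fixedBy Ω t).ncard)
    (Set.mem_univ a) (Set.mem_univ b) h.ne
    (twoOn_univ h.two h.ne) (fun k _ x hx => isConj_cj k hx) (fun _ _ => trivial) fun x hx => by
      obtain ⟨g, rfl⟩ := isConj_iff.1 hx
      rw [← Fix_zpowers, ← ncard_Fix_cj g, H67.cj_zpowers, Fix_zpowers]
      congr 1; ext c; simp
  have e3 := h.cls_DD ht ho
  simp only [Set.mem_ofPred_eq] at e1 e2
  rw [e3, Set.ncard_univ] at e1 e2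
  have h2 : 1 < (fixedBy Ω t).ncard := (Set.one_lt_ncard (Set.toFinite _)).2 ⟨a, ht.1, b, ht.2, h.ne⟩
  obtain ⟨i, hi⟩ : ∃ i, (fixedBy Ω t).ncard = i + 1 := ⟨_, (Nat.succ_pred_eq_of_pos (by omega)).symm⟩
  obtain ⟨n, hn⟩ : ∃ n, Nat.card Ω = n + 1 :=
    ⟨_, (Nat.succ_pred_eq_of_pos (by have := two_le_card h.ne; omega)).symm⟩
  rw [hi] at e1 e2 h2 ⊢
  rw [hn] at e1 e2
  simp only [Nat.add_sub_cancel] at e1 e2
  exact Nat.eq_of_mul_eq_mul_right (show 0 < i by omega) (by rw [e1]; nlinarith)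

theorem isConj_even [Finite Ω] (hn : Even (Nat.card Ω)) {t : G} (ht : t ∈ DD G a b)
    (ho : orderOf t = 2) {x : G} (hx : orderOf x = 2) {c : Ω} (hc : x • c = c) : IsConj t x := by
  have h1 := par_inv (Ω := Ω) (ord2.1 hx).1
  rw [Nat.even_iff.1 hn] at h1
  have h2 : (fixedBy Ω x).ncard ≠ 0 := Set.ncard_ne_zero_of_mem (a := c) hc
  obtain ⟨p, hp, q, hq, k⟩ := (Set.one_lt_ncard (s := fixedBy Ω x)).1 (by omega)
  exact h.isConj_of_fix ht ho hx k hp hq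

/-- the first count in even degree -/
theorem first_even [Finite G] [Finite Ω] [FaithfulSMul G Ω] (hn : Even (Nat.card Ω)) {t : G}
    (ht : t ∈ DD G a b) (ho : orderOf t = 2) : ni (stabilizer G a) =
      ni (DD G a b) + {x | IsConj t x ∧ x • a = b}.ncard * (fixedBy Ω t).ncard := by
  rw [← (h.first ht ho).2, ni]
  congr 1; ext x
  refine ⟨fun hx => ⟨h.isConj_even hn ht ho hx.2 hx.1, hx.1⟩, fun hx => ⟨hx.2, ?_⟩⟩
  obtain ⟨g, rfl⟩ := isConj_iff.1 hx.1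
  exact (ord_conj g t).trans ho

theorem card_cent [Finite G] [Finite Ω] {t : G} (ht : t ∈ DD G a b) (ho : orderOf t = 2) :
    Nat.card ↥(stabilizer G a ⊓ C1[t]) =
      ((fixedBy Ω t).ncard - 1) * Nat.card ↥(DD G a b ⊓ C1[t]) := by
  have := (card_twoOn (Φ := fixedBy Ω t) ht.1 ht.2 h.ne (h.wittT ht ho) fun k hk c hc => by
    rw [mem_fixedBy, ← mul_smul, ← mem_centralizer_singleton_iff.1 hk, mul_smul, mem_fixedBy.1 hc]).2
  rwa [inf_comm, inf_comm C1[t]] at this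

end Su

namespace CI

variable {a b : Ω} {s : G} (h : CI a b s)
include h

theorem sq : s * s = 1 := (ord2.1 h.ord).1
theorem inv : s⁻¹ = s := inv_eq_of_mul_eq_one_right h.sq
theorem swb : s • b = a := swap_of_inv h.ord h.sw

theorem smul (g : G) : CI (g • a) (g • b) (g * s * g⁻¹) :=
  ⟨(ord_conj g s).trans h.ord, (conj_smul_iff g s a b).2 h.sw, fun d hd => by
    have := h.cen _ ((conj_mem_DD' g).2 hd)
    calc _ = g * (s * (g⁻¹ * d * g)) * g⁻¹ := by group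
      _ = _ := by rw [this]; group⟩

theorem mul_mem {g : G} (ha : g • a = b) (hb : g • b = a) : s * g ∈ DD G a b :=
  mem_DD.2 ⟨by rw [mul_smul, ha, h.swb], by rw [mul_smul, hb, h.sw]⟩

theorem mem_E {S : Subgroup G} (hS : S ≤ DD G a b) {x : G} :
    x ∈ S ⊔ zpowers s ↔ x ∈ S ∨ x * s ∈ S :=
  mem_sup_zpowers (fun y hy => by rwa [h.cen y (hS hy), mul_inv_cancel_right])
    (by rw [h.sq]; exact S.one_mem)

variable {S : Subgroup G} {m : ℕ} (hu : Su G a b S m)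
include hu

theorem not_mem : s ∉ DD G a b := fun e => hu.ne (e.1.symm.trans h.sw)

theorem sq_E : ∀ x ∈ S ⊔ zpowers s, x * x = 1 := fun x hx => by
  rcases (h.mem_E hu.ws.le).1 hx with e | e
  · exact hu.ws.sq x e
  · have h1 := hu.ws.sq _ e
    have h2 := h.cen _ (hu.ws.le e)
    rw [mul_assoc x s s, h.sq, mul_one] at h2
    rwa [mul_assoc, h2] at h1

theorem hy [Finite G] : Hy S (S ⊔ zpowers s) :=
  hy_of le_sup_left (mem_sup_right (mem_zpowers s)) (fun e => h.not_mem hu (hu.ws.le e))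
    fun _ hx hx' => ((h.mem_E hu.ws.le).1 hx).resolve_left hx'

theorem card_E [Finite G] : Nat.card ↥(S ⊔ zpowers s) = 2 ^ (m + 1) := by
  rw [(h.hy hu).2, hu.ws.card, pow_succ']

theorem not_big [Finite G] : ¬ Big Ω (S ⊔ zpowers s) := fun e => by
  have := hu.big_le e (pg_of_sq (h.sq_E hu))
  rw [h.card_E hu, pow_succ] at this
  have : 0 < 2 ^ m := by positivity
  omega

/-- the involutions mapping `a` to `b` -/
theorem inv_iff {x : G} : (orderOf x = 2 ∧ x • a = b) ↔ ∃ w ∈ DD G a b, w * w = 1 ∧ x = s * w := by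
  constructor
  · rintro ⟨h1, h2⟩
    have hw := h.mul_mem h2 (swap_of_inv h1 h2)
    refine ⟨s * x, hw, ?_, by rw [← mul_assoc, h.sq, one_mul]⟩
    have := h.cen _ hw
    rw [← mul_assoc, h.sq, one_mul] at this
    rw [← mul_assoc, ← this, (ord2.1 h1).1]
  · rintro ⟨w, hw, h1, rfl⟩
    have h2 : (s * w) • a = b := by rw [mul_smul, hw.1, h.sw]
    refine ⟨ord2.2 ⟨?_, fun e => hu.ne (by rw [← h2, e, one_smul])⟩, h2⟩
    rw [mul_assoc, ← mul_assoc w, ← h.cen w hw, mul_assoc, h1, mul_one, h.sq]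

theorem conj_sw {w w' : G} (hw : w ∈ DD G a b) (hw' : w' ∈ DD G a b) (o : orderOf w = 2)
    (o' : orderOf w' = 2) : IsConj (s * w) (s * w') := by
  obtain ⟨g, hg, rfl⟩ := hu.ws.one w hw w' hw' o o'
  exact isConj_iff.2 ⟨g, by rw [← mul_assoc, ← h.cen g hg]; group⟩

theorem d [Finite G] {t : G} (ht : t ∈ DD G a b) (ho : orderOf t = 2) :
    {x | IsConj t x ∧ x • a = b}.ncard = 0 ∨ {x | IsConj t x ∧ x • a = b}.ncard = 1 ∨
      {x | IsConj t x ∧ x • a = b}.ncard = ni (DD G a b) ∨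
      ({x | IsConj t x ∧ x • a = b}.ncard = ni (DD G a b) + 1 ∧
        ∀ x : G, orderOf x = 2 → x • a = b → IsConj t x) := by
  set Y : Set G := (fun w => s * w) '' {x : G | x ∈ DD G a b ∧ orderOf x = 2} with hY
  have cY : Y.ncard = ni (DD G a b) := Set.ncard_image_of_injective _ (mul_right_injective s)
  have sY : s ∉ Y := fun ⟨w, hw, e⟩ => (ord2.1 hw.2).2 (by simpa using e)
  have k1 : ∀ x, orderOf x = 2 → x • a = b → x = s ∨ x ∈ Y := fun x h1 h2 => by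
    obtain ⟨w, hw, h3, rfl⟩ := (h.inv_iff hu).1 ⟨h1, h2⟩
    by_cases e : w = 1
    · exact Or.inl (by simp [e])
    · exact Or.inr ⟨w, ⟨hw, ord2.2 ⟨h3, e⟩⟩, rfl⟩
  have k0 : ∀ x, IsConj t x → orderOf x = 2 := fun x hx => by
    obtain ⟨g, rfl⟩ := isConj_iff.1 hx
    exact (ord_conj g t).trans ho
  have k2 : ∀ x ∈ Y, x • a = b ∧ IsConj (s * t) x := by
    rintro _ ⟨w, hw, rfl⟩
    exact ⟨by rw [mul_smul, hw.1.1, h.sw], h.conj_sw hu ht hw.1 ho hw.2⟩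
  by_cases e1 : IsConj t s <;> by_cases e2 : IsConj t (s * t)
  · refine Or.inr (Or.inr (Or.inr ⟨?_, fun x h1 h2 => (k1 x h1 h2).elim (fun e => e ▸ e1)
      fun e => e2.trans (k2 x e).2⟩))
    rw [← cY, ← Set.ncard_insert_of_notMem sY]
    congr 1; ext x
    exact ⟨fun hx => k1 x (k0 x hx.1) hx.2, fun hx => hx.elim (fun e => e ▸ ⟨e1, h.sw⟩)
      fun e => ⟨e2.trans (k2 x e).2, (k2 x e).1⟩⟩
  · refine Or.inr (Or.inl (Set.ncard_eq_one.2 ⟨s, Set.ext fun x => ⟨fun hx => ?_, fun hx => ?_⟩⟩))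
    · exact (k1 x (k0 x hx.1) hx.2).resolve_right fun e => e2 (hx.1.trans (k2 x e).2.symm)
    · exact Set.mem_singleton_iff.1 hx ▸ ⟨e1, h.sw⟩
  · refine Or.inr (Or.inr (Or.inl ?_))
    rw [← cY]
    congr 1; ext x
    exact ⟨fun hx => (k1 x (k0 x hx.1) hx.2).resolve_left fun e => e1 (e ▸ hx.1),
      fun e => ⟨e2.trans (k2 x e).2, (k2 x e).1⟩⟩
  · refine Or.inl ((Set.ncard_eq_zero).2 (Set.eq_empty_of_forall_notMem fun x hx => ?_))
    exact (k1 x (k0 x hx.1) hx.2).elim (fun e => e1 (e ▸ hx.1)) fun e => e2 (hx.1.trans (k2 x e).2.symm)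

end CI

/-- an element preserving `Fix S`, fixing two of its points, whose square fixes all, fixes all -/
theorem Su.triv [Finite G] [Finite Ω] {a b : Ω} {S : Subgroup G} {m : ℕ} (h : Su G a b S m) {x : G}
    (hx : ∀ c ∈ Fix Ω S, x • c ∈ Fix Ω S) (x2 : ∀ c ∈ Fix Ω S, x • x • c = c) {c d : Ω}
    (hc : c ∈ Fix Ω S) (hd : d ∈ Fix Ω S) (hcd : c ≠ d) (xc : x • c = c) (xd : x • d = d) :
    ∀ e ∈ Fix Ω S, x • e = e := by
  let K : Subgroup G := fixingSubgroup G (Fix Ω S)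
  have hK : ∀ y, y ∈ K ↔ ∀ e ∈ Fix Ω S, y • e = e := fun y => mem_fixingSubgroup_iff G
  have hS : S ≤ K := fun y hy => (hK y).2 fun e he => he y hy
  have hn : x ∈ N[K] := mem_normalizer_fintype fun y hy => (hK _).2 fun e he => by
    have : x⁻¹ • e = x • e := by rw [inv_smul_eq_iff, x2 e he]
    rw [mul_smul, mul_smul, this, (hK y).1 hy _ (hx e he), x2 e he]
  obtain ⟨g, hg, rfl, rfl⟩ := h.wittS c hc d hd hcd
  have w := (h.smul g).ws
  rw [H67.cj_eq_self hg] at w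
  have hM : K ≤ DD G (g • a) (g • b) ⊓ N[K] := fun y hy =>
    ⟨⟨(hK y).1 hy _ hc, (hK y).1 hy _ hd⟩, le_normalizer hy⟩
  exact (hK x).1 (mem_of_sq_odd (M := DD G (g • a) (g • b) ⊓ N[K]) inf_le_right
    ((w.odd_rel (hS.trans hM) inf_le_left).of_dvd_nat
      (Dvd.intro_left _ (relIndex_mul_relIndex S K _ hS hM))) ⟨⟨xc, xd⟩, hn⟩
    ((hK _).2 fun e he => by rw [mul_smul, x2 e he]))

/-- UI: at most one involution of the group induced on `Fix S` at each point -/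
theorem CI.ui [Finite G] [Finite Ω] {a b : Ω} {s : G} (h : CI a b s) {S : Subgroup G} {m : ℕ}
    (hu : Su G a b S m) {x y : G} (hx : ∀ c ∈ Fix Ω S, x • c ∈ Fix Ω S)
    (hy : ∀ c ∈ Fix Ω S, y • c ∈ Fix Ω S) (x2 : ∀ c ∈ Fix Ω S, x • x • c = c)
    (y2 : ∀ c ∈ Fix Ω S, y • y • c = c) (x1 : ∃ c ∈ Fix Ω S, x • c ≠ c) (y1 : ∃ c ∈ Fix Ω S, y • c ≠ c)
    {c : Ω} (hc : c ∈ Fix Ω S) (xc : x • c = c) (yc : y • c = c) :
    ∀ e ∈ Fix Ω S, x • e = y • e := by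
  let X : Set G := {x | (∀ c ∈ Fix Ω S, x • c ∈ Fix Ω S) ∧ (∀ c ∈ Fix Ω S, x • x • c = c) ∧
    ∃ c ∈ Fix Ω S, x • c ≠ c}
  have key : ∀ x ∈ X, ∀ g ∈ N[S], x • g • a = g • b →
      ∀ e ∈ Fix Ω S, x • e = (g * s * g⁻¹) • e := fun x hx g hg k e he => by
    have h' := h.smul g
    have u' := hu.smul g
    rw [H67.cj_eq_self hg] at u'
    set s' := g * s * g⁻¹
    have k' : x • g • b = g • a := by rw [← k, hx.2.1 _ u'.a_mem]
    have sF : ∀ c ∈ Fix Ω S, s' • c ∈ Fix Ω S := fun c hc y hy => by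
      rw [← mul_smul, ← h'.cen y (u'.ws.le hy), mul_smul, hc y hy]
    have hw := h'.mul_mem k k'
    have e1 := h'.cen _ hw
    rw [← mul_assoc, h'.sq, one_mul] at e1
    have := u'.triv (x := s' * x) (fun c hc => by rw [mul_smul]; exact sF _ (hx.1 c hc))
      (fun c hc => by rw [← mul_smul, ← mul_assoc, ← e1, mul_smul, hx.2.1 c hc])
      u'.a_mem u'.b_mem u'.ne hw.1 hw.2 e he
    rw [mul_smul, smul_eq_iff_eq_inv_smul, h'.inv] at this
    exact this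
  refine cnt1 (M := N[S]) (X := X) (fun g hg c hc => Fix_norm hg hc) (TwoOn.tr' hu.a_mem hu.wittS)
    (fun g hg x hx => ⟨fun c hc => ?_, fun c hc => ?_, ?_⟩) (fun x hx => hx.1)
    (fun x hx c hc d hd xc xd => ?_) (fun x hx y hy c hc k1 k2 e he => ?_) ⟨hx, x2, x1⟩ ⟨hy, y2, y1⟩
    hc xc yc
  · rw [mul_smul, mul_smul]
    exact Fix_norm hg (hx.1 _ (Fix_norm (inv_mem hg) hc))
  · simp only [mul_smul, inv_smul_smul]
    rw [hx.2.1 _ (Fix_norm (inv_mem hg) hc), smul_inv_smul]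
  · obtain ⟨c, hc, k⟩ := hx.2.2
    exact ⟨g • c, Fix_norm hg hc, fun e => k ((conj_smul_iff g x c c).1 e)⟩
  · by_contra k
    obtain ⟨e, he, k'⟩ := hx.2.2
    exact k' (hu.triv hx.1 hx.2.1 hc hd k xc xd e he)
  · obtain ⟨g, hg, g1, g2⟩ := hu.wittS c hc _ (hx.1 c hc) k1.symm
    rw [key x hx g hg (by rw [g1, g2]) e he, key y hy g hg (by rw [g1, g2, k2]) e he]

namespace C2

variable {a b : Ω} {S : Subgroup G} {σ : G} (h : C2 a b S σ)
include h

theorem smul (g : G) : C2 (g • a) (g • b) (cj g S) (g * σ * g⁻¹) where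
  ord := (ord_conj g σ).trans h.ord
  sw := (conj_smul_iff g σ a b).2 h.sw
  norm := H67.cj_normalizer g S ▸ H67.conj_mem_cj h.norm
  sq := by rw [← H67.cj_centralizer_singleton, ← H67.cj_inf, H67.card_cj, H67.card_cj, h.sq]
  surj := fun w' hw' e => by
    obtain ⟨w, hw, rfl⟩ := H67.mem_cj'.1 hw'
    rw [conj_mul, conj_mul] at e
    obtain ⟨x, hx, rfl⟩ := h.surj w hw (by simpa using e)
    exact ⟨g * x * g⁻¹, H67.conj_mem_cj hx, by group⟩
  nc := fun y ya yb => by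
    obtain ⟨x, hx, k⟩ := h.nc (g⁻¹ * y * g) (by rw [mul_smul, mul_smul, ya, inv_smul_smul])
      (by rw [mul_smul, mul_smul, yb, inv_smul_smul])
    refine ⟨g * x * g⁻¹, H67.conj_mem_cj hx, fun e => k ?_⟩
    calc _ = g⁻¹ * (y * (g * x * g⁻¹)) * g := by group
      _ = _ := by rw [e]; group
  one := fun x ox xa => by
    obtain ⟨d, hd, k⟩ := h.one (g⁻¹ * x * g) (by rw [← ord_conj g, ← ox]; congr 1; group)
      (by rw [mul_smul, mul_smul, xa, inv_smul_smul])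
    refine ⟨g * d * g⁻¹, (conj_mem_DD g).2 hd, ?_⟩
    calc _ = g * (d * σ * d⁻¹) * g⁻¹ := by group
      _ = x := by rw [k]; group

variable {m : ℕ} (hu : Su G a b S m)
include hu

theorem even : Even m := by
  have h1 := h.sq
  rw [hu.ws.card] at h1
  obtain ⟨r, -, hr⟩ := (Nat.dvd_prime_pow Nat.prime_two).1 (h1 ▸ dvd_pow_self _ two_ne_zero :
    Nat.card ↥(S ⊓ C1[σ]) ∣ 2 ^ m)
  rw [hr, ← pow_mul] at h1
  exact ⟨r, by have := Nat.pow_right_injective le_rfl h1; omega⟩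

theorem isConj [FaithfulSMul G Ω] {x : G} (hx : orderOf x = 2) : IsConj σ x := by
  obtain ⟨g, hg⟩ := hu.exists_sw hx
  obtain ⟨d, -, k⟩ := h.one _ ((ord_conj g x).trans hx) hg
  exact (isConj_iff.2 ⟨d, k⟩).trans (isConj_iff.2 ⟨g, rfl⟩).symm

theorem one_class [Finite G] [FaithfulSMul G Ω] :
    ∀ x y : G, orderOf x = 2 → orderOf y = 2 → IsConj x y :=
  fun _ _ hx hy => (h.isConj hu hx).symm.trans (h.isConj hu hy)

theorem d [Finite G] [FaithfulSMul G Ω] {t : G} (ho : orderOf t = 2) :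
    {x | IsConj t x ∧ x • a = b}.ncard * Nat.card ↥(DD G a b ⊓ C1[σ]) = Nat.card (DD G a b) := by
  refine (OT.card_cls _ σ fun y => ⟨fun hy => h.one y ?_ hy.2, fun ⟨k, hk, e⟩ => e ▸
    ⟨h.one_class hu _ _ ho ((ord_conj k σ).trans h.ord), ?_⟩⟩).symm
  · obtain ⟨g, rfl⟩ := isConj_iff.1 hy.1
    exact (ord_conj g t).trans ho
  · have := (conj_smul_iff k σ a b).2 h.sw
    rwa [hk.1, hk.2] at this

/-- `S` is a Sylow subgroup of its centraliser -/
theorem cent_mem [Finite G] {y : G} {r : ℕ} (hy : y ^ 2 ^ r = 1) (hc : ∀ x ∈ S, y * x = x * y) :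
    y ∈ S := by
  induction r generalizing y with
  | zero => rw [pow_zero, pow_one] at hy; exact hy ▸ S.one_mem
  | succ r ih =>
    have h2 : y * y ∈ S := ih (by rw [← pow_two, ← pow_mul, ← pow_succ', hy]) fun x hx => by
      rw [mul_assoc, hc x hx, ← mul_assoc, hc x hx, mul_assoc]
    by_contra H
    obtain ⟨c, hc', k⟩ : ∃ c ∈ Fix Ω S, y • c ≠ c := by
      by_contra K
      push Not at K
      exact H (hu.ws.selfc y ⟨K a hu.a_mem, K b hu.b_mem⟩ hc)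
    have yc : y • c ∈ Fix Ω S := fun x hx => by rw [← mul_smul, ← hc x hx, mul_smul, hc' x hx]
    obtain ⟨g, hg, g1, g2⟩ := hu.wittS c hc' _ yc k.symm
    obtain ⟨x, hx, k'⟩ := (h.smul g).nc y (by rw [g1, g2]) (by rw [g1, g2, ← mul_smul, hc' _ h2])
    rw [H67.cj_eq_self hg] at hx
    exact k' (hc x hx)

end C2

end Cfsg.Agent.H56.W2
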