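import Cfsg.Agent.H56.W2Geo
import Cfsg.Agent.H4.CoprimeAction

/-! S3400, odd degree, case II, `L₂(2 ^ m)`. -/

set_option autoImplicit false

namespace Cfsg.Agent.H56.W2

open MulAction Subgroup Cfsg.Agent.H63 Cfsg.Agent.H56.TT Cfsg.Agent.H65.A45 Cfsg.Agent.H65

universe u v

variable {G : Type u} [Group G] {Ω : Type v} [MulAction G Ω]

theorem fix_conj [Finite G] {g : G} {p : ℕ} [Fact p.Prime] (hg : g ^ p = 1) {T : Set G}
    (hT : ∀ x, g * x * g⁻¹ ∈ T ↔ x ∈ T) (hp : ¬ p ∣ T.ncard) : ∃ x ∈ T, g * x = x * g := by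
  classical
  have := Fintype.ofFinite T
  let φ : G →* Equiv.Perm G := (MulAut.toPerm G).comp MulAut.conj
  have hT' : ∀ x, φ g x ∈ T ↔ x ∈ T := hT
  obtain ⟨c, hc⟩ := Equiv.Perm.exists_fixed_point_of_prime (p := p) (n := 1)
    (σ := Equiv.Perm.subtypePerm (p := fun x => x ∈ T) (φ g) hT')
    (by rwa [← Nat.card_eq_fintype_card, Nat.card_coe_set_eq])
    (by rw [pow_one, Equiv.Perm.subtypePerm_pow]; simp only [← map_pow, hg, map_one]; rfl)
  exact ⟨c, c.2, mul_inv_eq_iff_eq_mul.1 (congrArg Subtype.val hc)⟩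

theorem syl_le [Finite G] {P M : Subgroup G} (h : IsSyl 2 P ⊤) (hM : P ≤ M) : IsSyl 2 P M :=
  H67.syl_of_maximal hM (H67.syl_isPGroup h) fun _ _ h2 h3 => H67.syl_eq_of_le h h2 h3 le_top

theorem TA.cent_eq [Finite G] {D S : Subgroup G} {m : ℕ} (h : TA D m) (w : WS D S m) {t : G}
    (ht : t ∈ S) (t1 : t ≠ 1) : D ⊓ C1[t] = S :=
  (eq_of_le_of_card_ge (w.le_cent ht) (by rw [h.cent t (w.le ht) (w.ord ht t1), w.card])).symm

/-- A2 -/
theorem TA.mem_of_norm [Finite G] {D S B : Subgroup G} {m : ℕ} (h : TA D m) (w : WS D S m)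
    (hB : Hy B S) : D ⊓ N[S] ⊓ N[B] ≤ S := by
  have hS : S ≤ D ⊓ N[S] ⊓ N[B] := fun x hx => ⟨⟨w.le hx, le_normalizer hx⟩,
    centralizer_le_normalizer _ (mem_centralizer_iff.2 fun y hy => w.comm (hB.1 hy) hx)⟩
  rw [← relIndex_eq_one]
  by_contra ne
  obtain ⟨p, hp, dv⟩ := Nat.exists_prime_and_dvd ne
  have : Fact p.Prime := ⟨hp⟩
  have p2 : ¬ p ∣ 2 ^ m := fun e => (w.odd_rel hS (inf_le_left.trans inf_le_left)).not_two_dvd_nat
    ((Nat.prime_dvd_prime_iff_eq hp Nat.prime_two).1 (hp.dvd_of_dvd_pow e) ▸ dv)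
  obtain ⟨⟨g, hg⟩, og⟩ := exists_prime_orderOf_dvd_card' p
    (dv.trans (Dvd.intro_left _ (H67.card_mul_relIndex hS)))
  rw [← Subgroup.orderOf_coe] at og
  obtain ⟨x, hx, k⟩ := fix_conj (g := g) (p := p) (og ▸ pow_orderOf_eq_one g) (T := (S : Set G) \ B)
    (fun x => and_congr (mem_normalizer_iff.1 hg.1.2 x).symm (mem_normalizer_iff.1 hg.2 x).symm.not)
    fun e => p2 (by
      rw [Set.ncard_sdiff hB.1, ← Nat.card_coe_set_eq, ← Nat.card_coe_set_eq] at e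
      change p ∣ Nat.card S - Nat.card B at e
      rw [hB.2, two_mul, Nat.add_sub_cancel] at e
      rw [← w.card, hB.2]; exact e.mul_left 2)
  have : g ∈ S := h.cent_eq w hx.1 (fun e => hx.2 (e ▸ B.one_mem)) ▸
    ⟨hg.1.1, mem_centralizer_singleton_iff.2 k⟩
  exact p2 (w.card ▸ og ▸ H67.orderOf_dvd_card_of_mem this)

/-- the 2-group `P` over `S⟨σ⟩` -/
structure Fr (P S : Subgroup G) (σ : G) : Prop where
  sq : ∀ x ∈ S, x * x = 1
  ss : σ * σ = 1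
  le : S ≤ P
  mem : σ ∈ P
  nmem : σ ∉ S
  norm : P ≤ N[S]
  star : ∀ y ∈ P, y * y = 1 → y ∈ S ∨ y * σ ∈ S
  lt : 2 * Nat.card ↥(S ⊓ C1[σ]) < Nat.card S

namespace Fr

variable {P S : Subgroup G} {σ : G} (h : Fr P S σ)
include h

theorem cU : ∀ x ∈ S ⊓ C1[σ], x * σ = σ * x := fun _ hx => by
  have := h.ss; exact mem_centralizer_singleton_iff.1 hx.2

theorem memE {y : G} : y ∈ S ⊓ C1[σ] ⊔ zpowers σ ↔ y ∈ S ⊓ C1[σ] ∨ y * σ ∈ S ⊓ C1[σ] :=
  mem_sup_comm h.ss h.cU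

theorem sqE : ∀ y ∈ S ⊓ C1[σ] ⊔ zpowers σ, y * y = 1 := sq_sup (fun x hx => h.sq x hx.1) h.ss h.cU

theorem leE : S ⊓ C1[σ] ⊔ zpowers σ ≤ P := sup_le (inf_le_left.trans h.le) (zpowers_le.2 h.mem)

theorem inv {y : G} (hy : y ∈ P) (y2 : y * y = 1) : y ∈ S ∨ y * σ ∈ S ⊓ C1[σ] :=
  (h.star y hy y2).imp_right fun e => ⟨e, mem_centralizer_singleton_iff.2 (by
    have h1 := h.sq _ e
    rw [mul_assoc, h.ss, mul_one]
    calc y = y * (y * σ * (y * σ)) := by rw [h1, mul_one]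
      _ = y * y * (σ * (y * σ)) := by group
      _ = _ := by rw [y2, one_mul])⟩

theorem cen {y x : G} (hy : y ∈ P) (y2 : y * y = 1) (hx : x ∈ S ⊓ C1[σ]) : y * x = x * y :=
  (h.inv hy y2).elim (fun e => comm_of_sq h.sq e hx.1) fun e =>
    comm_of_sq h.sqE (h.memE.2 (Or.inr e)) (mem_sup_left hx)

theorem le_E {A : Subgroup G} (hA : A ≤ P) (h2 : ∀ x ∈ A, x * x = 1) (hn : ¬ A ≤ S) :
    A ≤ S ⊓ C1[σ] ⊔ zpowers σ := fun y hy => by
  obtain ⟨z, hz, hz'⟩ := SetLike.not_le_iff_exists.1 hn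
  have e := (h.inv (hA hz) (h2 z hz)).resolve_left hz'
  refine h.memE.2 ((h.inv (hA hy) (h2 y hy)).imp_left fun k => ⟨k, mem_centralizer_singleton_iff.2 ?_⟩)
  have h1 := comm_of_sq h.sq k e.1
  rw [← mul_assoc, comm_of_sq h2 hy hz, mul_assoc, mul_assoc] at h1
  exact mul_left_cancel h1

variable [Finite G]

theorem hyE : Hy (S ⊓ C1[σ]) (S ⊓ C1[σ] ⊔ zpowers σ) :=
  hy_of le_sup_left (mem_sup_right (mem_zpowers σ)) (fun e => h.nmem e.1)
    fun _ hx hx' => (h.memE.1 hx).resolve_left hx'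

theorem eq_S {g : G} (hA : cj g S ≤ P) : cj g S = S := by
  refine eq_of_le_of_card_ge (by_contra fun H => ?_) (H67.card_cj g S).ge
  have := card_le_of_le (h.le_E hA (fun x hx => by
    obtain ⟨y, hy, rfl⟩ := H67.mem_cj'.1 hx
    rw [conj_mul, h.sq y hy]; simp) H)
  rw [h.hyE.2, H67.card_cj] at this
  exact absurd h.lt (by omega)

theorem eq_E {g : G} (hA : cj g (S ⊓ C1[σ] ⊔ zpowers σ) ≤ P) (hn : ¬ cj g (S ⊓ C1[σ] ⊔ zpowers σ) ≤ S) :
    g ∈ N[S ⊓ C1[σ] ⊔ zpowers σ] :=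
  H67.cj_eq_self_iff.1 (eq_of_le_of_card_ge (h.le_E hA (fun x hx => by
    obtain ⟨y, hy, rfl⟩ := H67.mem_cj'.1 hx
    rw [conj_mul, h.sqE y hy]; simp) hn) (H67.card_cj g _).ge)

theorem normE : P ≤ N[S ⊓ C1[σ] ⊔ zpowers σ] := fun g hg =>
  h.eq_E (H67.cj_le_of_mem hg h.leE) fun e => h.nmem ((mem_normalizer_iff.1 (h.norm hg) σ).2
    (e (H67.conj_mem_cj (mem_sup_right (mem_zpowers σ)))))

omit [Finite G] in
theorem infE : (S ⊓ C1[σ] ⊔ zpowers σ) ⊓ S = S ⊓ C1[σ] :=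
  le_antisymm (fun _ hx => (h.memE.1 hx.1).elim id fun e =>
    absurd ((S.mul_mem_cancel_left hx.2).1 e.1) h.nmem) (le_inf le_sup_left inf_le_left)

theorem normU : P ≤ N[S ⊓ C1[σ]] := h.infE ▸ H67.le_normalizer_inf h.normE h.norm

theorem false (hP : IsSyl 2 P ⊤) {g : G} (hg : σ ∈ cj g S)
    (surj : ∀ w ∈ S, w * σ = σ * w → ∃ x ∈ S, x * σ * x * σ = w) (h3 : 2 < Nat.card ↥(S ⊓ C1[σ])) :
    False := by
  set U := S ⊓ C1[σ] with hU
  set E := U ⊔ zpowers σ with hE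
  have sqc : ∀ g : G, ∀ x ∈ cj g S, x * x = 1 := fun g x hx => by
    obtain ⟨y, hy, rfl⟩ := H67.mem_cj'.1 hx
    rw [conj_mul, h.sq y hy]; simp
  have σE : σ ∈ E := mem_sup_right (mem_zpowers σ)
  obtain ⟨Q, hQ, EQ⟩ := H67.exists_syl_ge (p := 2) (M := C1[σ])
    (fun x hx => mem_centralizer_singleton_iff.2 (comm_of_sq h.sqE hx σE)) (pg_of_sq h.sqE)
  obtain ⟨d, hd, dQ⟩ := H67.exists_cj_le_syl hQ
    (fun x hx => mem_centralizer_singleton_iff.2 (comm_of_sq (sqc g) hx hg)) (pg_of_sq (sqc g))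
  obtain ⟨x, -, Qx⟩ := H67.exists_le_cj_syl hP le_top (H67.syl_isPGroup hQ)
  have e1 : cj d (cj g S) = cj x S := by
    have := h.eq_S (g := x⁻¹ * (d * g))
      (by rw [H67.cj_mul, H67.cj_mul]; exact H67.le_cj_iff_cj_inv_le.1 (dQ.trans Qx))
    rw [H67.cj_mul, H67.cj_mul] at this
    exact H67.eq_cj_iff_cj_inv_eq.2 this
  have σx : σ ∈ cj x S := by
    have := H67.conj_mem_cj (g := d) hg
    rwa [e1, mem_centralizer_singleton_iff.1 hd, mul_inv_cancel_right] at this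
  have xN : x ∈ N[E] := (Subgroup.inv_mem_iff _).1 (h.eq_E (H67.le_cj_iff_cj_inv_le.1 (EQ.trans Qx))
    fun e => by
      have e' := H67.le_cj_iff_cj_inv_le.2 e
      obtain ⟨k, hk, kP⟩ := H67.exists_cj_le_syl (syl_le hP h.normE) (K := cj x S)
        (fun y hy => centralizer_le_normalizer _
          (mem_centralizer_iff.2 fun z hz => comm_of_sq (sqc x) (e' hz) hy)) (pg_of_sq (sqc x))
      rw [← H67.cj_mul] at kP
      have e2 := H67.cj_mono (g := k) e'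
      rw [H67.cj_eq_self hk, ← H67.cj_mul, h.eq_S kP] at e2
      exact h.nmem (e2 σE))
  have hU' : Hy (cj x U) E := H67.cj_eq_self xN ▸ h.hyE.cj x
  have U'S : cj x U ≤ cj x S := H67.cj_mono inf_le_left
  have σU' : σ ∈ cj x U := by
    rw [hU, ← h.infE, H67.cj_inf, H67.cj_eq_self xN]; exact ⟨σE, σx⟩
  set σ' := x * σ * x⁻¹ with hσ'
  have σ'E : σ' ∈ E := H67.conj_mem_of_mem_normalizer xN σE
  have σ'U : σ' ∉ cj x U := fun e => h.nmem (H67.conj_mem_cj_iff.1 e).1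
  obtain ⟨e0, he0, ne0⟩ : ∃ e ∈ U, e ∉ cj x U := by
    by_contra H
    push Not at H
    exact h.nmem (eq_of_le_of_card_ge (H : U ≤ cj x U) (H67.card_cj x U).le ▸ σU' : σ ∈ U).1
  obtain ⟨w, wU, wU', w1⟩ : ∃ w ∈ U, w ∈ cj x U ∧ w ≠ 1 := by
    by_contra H
    push Not at H
    have h1 : (U : Set G) ⊆ {1, e0} := fun y hy => by
      by_cases k : y ∈ cj x U
      · exact Or.inl (H y hy k)
      · have := H _ (U.mul_mem hy he0) (hU'.mul_mem (mem_sup_left hy) (mem_sup_left he0) k ne0)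
        exact Or.inr (mul_right_cancel (this.trans (h.sq e0 he0.1).symm))
    have h2 := (Set.ncard_le_ncard h1).trans (Set.ncard_insert_le _ _)
    rw [Set.ncard_singleton, ← Nat.card_coe_set_eq] at h2
    change Nat.card U ≤ _ at h2
    omega
  obtain ⟨w0, hw0, rfl⟩ := H67.mem_cj'.1 wU'
  obtain ⟨y0, hy0, ey⟩ := surj w0 hw0.1 (h.cU w0 hw0)
  set w := x * w0 * x⁻¹ with hw
  set y := x * y0 * x⁻¹ with hy
  have yS : y ∈ cj x S := H67.conj_mem_cj hy0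
  have yi : y⁻¹ = y := inv_eq_of_mul_eq_one_right (sqc x y yS)
  have k1 : y * σ' * y⁻¹ = w * σ' := by
    have : y * σ' * y * σ' = w := by rw [hw, ← ey, hy, hσ']; group
    rw [yi, ← this, mul_assoc (y * σ' * y), h.sqE σ' σ'E, mul_one]
  have k2 : ∀ e ∈ cj x U, y * e * y⁻¹ = e := fun e he => by
    rw [comm_of_sq (sqc x) yS (U'S he), mul_inv_cancel_right]
  have k3 : ∀ e ∈ E, e ∉ cj x U → y * e * y⁻¹ = e * w := fun e he he' => by
    have h1 := k2 _ (hU'.mul_mem he σ'E he' σ'U)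
    rw [← conj_mul, k1, ← mul_assoc, mul_left_inj] at h1
    calc _ = y * e * y⁻¹ * (w * w) := by rw [h.sq w wU.1, mul_one]
      _ = _ := by rw [← mul_assoc, h1]
  have k4 : ∀ V : Subgroup G, U ≤ V → V ≤ E → y ∈ N[V] := fun V h1 h2 =>
    mem_normalizer_fintype fun e he => by
      by_cases k : e ∈ cj x U
      · rwa [k2 e k]
      · rw [k3 e (h2 he) k]; exact V.mul_mem he (h1 wU)
  obtain ⟨k, hk, kP⟩ := H67.exists_cj_le_syl (syl_le hP (le_inf h.normE h.normU))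
    (zpowers_le.2 ⟨k4 E le_sup_left le_rfl, k4 U le_rfl le_sup_left⟩) (pg_zpowers (sqc x y yS))
  have h5 := h.cen (kP (H67.conj_mem_cj (mem_zpowers y))) (by rw [conj_mul, sqc x y yS]; simp)
    (H67.conj_mem_of_mem_normalizer hk.2 he0)
  rw [conj_mul, conj_mul, mul_left_inj, mul_right_inj] at h5
  have h6 := k3 e0 (mem_sup_left he0) ne0
  rw [h5, mul_inv_cancel_right] at h6
  exact w1 (by simpa using h6)

end Fr

theorem odA : OdAStmt.{u, v} := fun G Ω _ _ _ _ _ a b S m σ hu hA hn h => by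
  have w := hu.ws
  have ss := (ord2.1 h.ord).1
  have σS : σ ∉ S := fun e => hu.ne ((hu.a_mem σ e).symm.trans h.sw)
  have h3 : 2 < Nat.card ↥(S ⊓ C1[σ]) := by
    have h1 := h.sq
    have h2 : 2 ^ 3 ≤ 2 ^ m := Nat.pow_le_pow_right (by norm_num) hA.three
    rw [w.card] at h1
    by_contra H
    have := Nat.pow_le_pow_left (not_lt.1 H) 2
    omega
  obtain ⟨P, hP, SP⟩ := H67.exists_syl_ge (p := 2) (M := N[S])
    (sup_le le_normalizer (zpowers_le.2 h.norm))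
    (IsPGroup.to_sup_of_normal_left' w.pg (pg_zpowers ss) (zpowers_le.2 h.norm))
  have pP := H67.syl_isPGroup hP
  obtain ⟨B, hB, PB⟩ : ∃ B, Hy B S ∧ P ≤ N[B] := by
    obtain ⟨t, ht, ho⟩ := w.ex_inv
    have lt := H4.commutator_lt_of_isPGroup pP w.pg hP.1 fun e => (ord2.1 ho).2 (mem_bot.1 (e ▸ ht))
    obtain ⟨z, hz, hz'⟩ := SetLike.exists_of_lt lt
    obtain ⟨B, hB, l, -⟩ := hs w.sq lt.le hz hz'
    refine ⟨B, hB, fun g hg => mem_normalizer_fintype fun y hy => ?_⟩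
    have := B.mul_mem (B.inv_mem (l (commutator_mem_commutator (hB.1 hy) hg))) hy
    rwa [commutatorElement_def, show (y * g * y⁻¹ * g⁻¹)⁻¹ * y = g * y * g⁻¹ by group] at this
  have A2 : ∀ g ∈ N[S] ⊓ N[B], ∀ c ∈ Fix Ω S, ∀ d ∈ Fix Ω S, c ≠ d → g • c = c → g • d = d → g ∈ S :=
    fun g hg c hc d hd cd gc gd => by
      obtain ⟨k, hk, rfl, rfl⟩ := hu.wittS c hc d hd cd
      have hB' := hB.cj k⁻¹
      rw [H67.cj_eq_self (inv_mem hk)] at hB'
      refine (mem_normalizer_iff.1 (inv_mem hk) g).2 (hA.mem_of_norm w hB' ⟨⟨?_, ?_⟩, ?_⟩)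
      · rw [inv_inv]; exact (conj_mem_DD' k).2 ⟨gc, gd⟩
      · exact N[S].mul_mem (N[S].mul_mem (N[S].inv_mem hk) hg.1) (N[S].inv_mem (N[S].inv_mem hk))
      · exact H67.cj_normalizer k⁻¹ B ▸ H67.conj_mem_cj hg.2
  obtain ⟨c, hc, cP⟩ := exists_fix pP (fun g hg c hc => Fix_norm (hP.1 hg) hc) (hu.odd_fix hn w.pg)
  have σP : σ ∈ P := SP (mem_sup_right (mem_zpowers σ))
  have fr : Fr P S σ := ⟨w.sq, ss, le_sup_left.trans SP, σP, σS, hP.1, fun y hy y2 => ?_, ?_⟩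
  · have hP' : IsSyl 2 P ⊤ := H67.syl_of_normalizer_le hP le_top fun g hg =>
      H67.cj_eq_self_iff.1 (fr.eq_S (H67.cj_le_of_mem_normalizer hg.2 fr.le))
    obtain ⟨t, ht, ho⟩ := w.ex_inv
    obtain ⟨g, hg⟩ := isConj_iff.1 (h.isConj hu ho).symm
    exact fr.false hP' (hg ▸ H67.conj_mem_cj ht) h.surj h3
  · by_contra H
    push Not at H
    let X : Set G := {g | g ∈ N[S] ⊓ N[B] ∧ g * g = 1 ∧ g ∉ S}
    have := cnt1 (M := N[S] ⊓ N[B]) (X := X) (fun g hg c hc => Fix_norm hg.1 hc) (fun p hp q hq => by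
        by_cases e : p = q
        · exact ⟨1, one_mem _, by rw [one_smul, e]⟩
        obtain ⟨k, hk, rfl, rfl⟩ := hu.wittS p hp q hq e
        have u' := (hu.smul k).ws
        have h' := h.smul k
        rw [H67.cj_eq_self hk] at u' h'
        have hB' := hB.cj (k * σ * k⁻¹)⁻¹
        rw [H67.cj_eq_self (inv_mem h'.norm)] at hB'
        obtain ⟨d, hd, dn, e⟩ := u'.hyp _ _ hB hB'
        refine ⟨k * σ * k⁻¹ * d, ⟨mul_mem h'.norm dn, H67.cj_eq_self_iff.1 ?_⟩, ?_⟩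
        · rw [H67.cj_mul, e, H67.cj_cj_inv]
        · rw [mul_smul, hd.1, h'.sw])
      (fun g hg x hx => ⟨mul_mem (mul_mem hg hx.1) (inv_mem hg), by rw [conj_mul, hx.2.1]; simp,
        fun e => hx.2.2 ((mem_normalizer_iff.1 hg.1 x).2 e)⟩)
      (fun x hx c hc => Fix_norm hx.1.1 hc)
      (fun x hx p hp q hq xp xq => by_contra fun e => hx.2.2 (A2 x hx.1 p hp q hq e xp xq))
      (fun x hx z hz p hp xp e q hq => by
        have := A2 (z * x) (mul_mem hz.1 hx.1) p hp _ (Fix_norm hx.1.1 hp) xp.symm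
          (by rw [mul_smul, e, ← mul_smul, hz.2.1, one_smul])
          (by rw [mul_smul, ← mul_smul x, hx.2.1, one_smul, e])
        have := hq _ this
        rwa [mul_smul, smul_eq_iff_eq_inv_smul, inv_eq_of_mul_eq_one_right hz.2.1] at this)
      ⟨⟨hP.1 hy, PB hy⟩, y2, H.1⟩ ⟨⟨h.norm, PB σP⟩, ss, σS⟩ hc (cP y hy) (cP σ σP)
    have k : ∀ e ∈ Fix Ω S, (y * σ) • e = e := fun e he => by
      rw [mul_smul, ← this e he, ← mul_smul, y2, one_smul]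
    exact H.2 (A2 _ ⟨hP.1 (mul_mem hy σP), PB (mul_mem hy σP)⟩ a hu.a_mem b hu.b_mem hu.ne
      (k a hu.a_mem) (k b hu.b_mem))
  · rw [← h.sq, pow_two]
    exact Nat.mul_lt_mul_of_pos_right h3 (by omega)

end Cfsg.Agent.H56.W2
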