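import Cfsg.Agent.H56.W2Fin
import Cfsg.Agent.H18.AbDec
import Cfsg.Agent.H60.OddInv
import Cfsg.Agent.H52.Balance
import Cfsg.Agent.H31.MinIdx

/-! S3400, groups with a Sylow 2-subgroup inside a simple subgroup. -/

set_option autoImplicit false

namespace Cfsg.Agent.H56.W2

open MulAction Subgroup Cfsg.Agent.H63 Cfsg.Agent.H56.TT Cfsg.Agent.H65.A45 Cfsg.Agent.H65

universe u v

variable {G : Type u} [Group G]

theorem exists_L [Finite G] (P : Sylow 2 G) (hab : (P : Subgroup G) ≤ H18.Cz P) (hO : pPrimeCore 2 G = ⊥)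
    (hns : ¬ Group.IsSolvable G) (one : ∀ x y : G, orderOf x = 2 → orderOf y = 2 → IsConj x y) :
    ∃ L : Subgroup G, L.Normal ∧ IsSimpleGroup L ∧ ¬ IsMulCommutative L ∧ ∀ x, orderOf x = 2 → x ∈ L := by
  obtain ⟨L, hL⟩ := H18.exists_comp P hab hO hns
  have hZ : ∀ x ∈ L, x ∈ C[L] → x = 1 := fun x h1 h2 =>
    mem_bot.1 (H18.comp_inf_Cz P hab hO hL ▸ ⟨h1, h2⟩ : x ∈ (⊥ : Subgroup G))
  obtain ⟨⟨x, hx⟩, ox⟩ := exists_prime_orderOf_dvd_card' 2 (((P.2.to_le inf_le_left).card_eq_or_dvd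
    (G := ↥((P : Subgroup G) ⊓ L))).resolve_left fun e => H18.comp_inf_ne_bot P hL (card_eq_one.1 e))
  rw [← Subgroup.orderOf_coe] at ox
  change orderOf x = 2 at ox
  have alt : ∀ g : G, g ∈ N[L] ∨ g * x * g⁻¹ ∈ C[L] := fun g =>
    (H52.IsComponent.mem_normalizer_or_commutator_conj_eq_bot hL g).imp_right
      fun h1 => H52.commutator_eq_bot_iff_le_centralizer'.1 h1 (mem_map_of_mem (MulAut.conj g).toMonoidHom hx.2)
  have hN : L.Normal := normalizer_eq_top_iff.1 (eq_top_iff.2 fun g _ => (alt g).resolve_right fun h => by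
    have o' := ord2.1 ((ord_conj g x).trans ox)
    have c := mem_centralizer_iff.1 h x hx.2
    set y := g * x * g⁻¹
    obtain ⟨k, e⟩ := isConj_iff.1 (one x (x * y) ox (ord2.2 ⟨by
      rw [mul_assoc, ← mul_assoc y, ← c, mul_assoc, o'.1, mul_one, (ord2.1 ox).1], fun e => o'.2 (hZ y (by
        rw [eq_inv_of_mul_eq_one_right e]; exact L.inv_mem hx.2) h)⟩))
    rcases alt k with h1 | h1
    · exact o'.2 (hZ y ((L.mul_mem_cancel_left hx.2).1 (e ▸ H67.conj_mem_of_mem_normalizer h1 hx.2)) h)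
    · exact (ord2.1 ox).2 (hZ x hx.2 ((C[L].mul_mem_cancel_right h).1 (e ▸ h1))))
  refine ⟨L, hN, H18.comp_simple P hab hO hL, H52.IsQuasisimple.not_isMulCommutative hL.2, fun y oy => ?_⟩
  obtain ⟨g, rfl⟩ := isConj_iff.1 (one x y ox oy)
  exact hN.conj_mem x hx.2 g

theorem card_cj_cent {O U : Subgroup G} {g : G} (hg : g ∈ N[O]) :
    Nat.card ↥(O ⊓ C[cj g U]) = Nat.card ↥(O ⊓ C[U]) := by
  rw [← H67.cj_centralizer, ← H67.card_cj g (O ⊓ C[U]), H67.cj_inf, H67.cj_eq_self hg]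

theorem cent_sup (U : Subgroup G) (a : G) : C[U ⊔ zpowers a] = C[U] ⊓ C1[a] := by
  rw [H67.centralizer_sup, H67.centralizer_zpowers]

theorem WS.bw [Finite G] {D S O : Subgroup G} {m : ℕ} (w : WS D S m) (ho : Odd (Nat.card O))
    (hn : D ≤ N[O]) : ∃ c y : ℕ, 0 < c ∧ Odd y ∧ ∀ r, ∀ U ≤ S, Nat.card S = 2 ^ r * Nat.card U →
      Nat.card ↥(O ⊓ C[U]) * y = c * y ^ 2 ^ r := by
  obtain ⟨t, ht, ot⟩ := w.ex_inv
  obtain ⟨B, hB, -, -⟩ := hs w.sq bot_le ht (by simpa using (ord2.1 ot).2)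
  obtain ⟨y, hy⟩ := card_dvd_of_le (inf_le_inf_left O (centralizer_le (SetLike.coe_subset_coe.2 hB.1)))
  have oy : Odd y := (ho.of_dvd_nat (card_dvd_of_le inf_le_left)).of_dvd_nat (Dvd.intro_left _ hy.symm)
  have c0 : 0 < Nat.card ↥(O ⊓ C[S]) := Nat.card_pos
  refine ⟨_, y, c0, oy, fun r => ?_⟩
  induction r using Nat.twoStepInduction with
  | zero => intro U hU e; rw [eq_of_le_of_card_ge hU (by omega), pow_zero, pow_one]
  | one =>
    intro U hU e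
    obtain ⟨g, hg, -, rfl⟩ := w.hyp B U hB ⟨hU, e⟩
    rw [card_cj_cent (hn hg), hy]; ring
  | more r h0 h1 =>
    intro U hU e
    have step : ∀ V ≤ S, ∀ x ∈ S, x ∉ V → V ⊔ zpowers x ≤ S ∧ Nat.card ↥(V ⊔ zpowers x) = 2 * Nat.card V :=
      fun V hV x hx hx' => ⟨sup_le hV (zpowers_le.2 hx),
        (hy_sup (w.sq x hx) (fun z hz => w.comm (hV hz) hx) hx').2⟩
    have ex : ∀ V ≤ S, Nat.card V < Nat.card S → ∃ x ∈ S, x ∉ V := fun V hV lt =>
      SetLike.not_le_iff_exists.1 fun k => absurd (card_le_of_le k) (not_le.2 lt)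
    have u0 : 0 < Nat.card U := Nat.card_pos
    have p0 : 0 < 2 ^ r := by positivity
    obtain ⟨a, ha, ha'⟩ := ex U hU (by rw [e]; nlinarith [pow_succ 2 r, pow_succ 2 (r + 1)])
    obtain ⟨a1, a2⟩ := step U hU a ha ha'
    obtain ⟨b, hb, hb'⟩ := ex _ a1 (by rw [e, a2]; nlinarith [pow_succ 2 r, pow_succ 2 (r + 1)])
    have k1 : ∀ x ∈ S, x ∉ U → Nat.card ↥(O ⊓ C[U] ⊓ C1[x]) * y = Nat.card ↥(O ⊓ C[S]) * y ^ 2 ^ (r + 1) :=
      fun x hx hx' => by
        rw [inf_assoc, ← cent_sup]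
        exact h1 _ (step U hU x hx hx').1 (by rw [(step U hU x hx hx').2, e]; ring)
    have k2 := h0 _ (step _ a1 b hb hb').1 (by rw [(step _ a1 b hb hb').2, a2, e]; ring)
    have nr : ∀ x ∈ S, ∀ h ∈ O ⊓ C[U], x * h * x ∈ O ⊓ C[U] := fun x hx h hh => by
      have xC : x ∈ C[U] := mem_centralizer_iff.2 fun z hz => w.comm (hU hz) hx
      refine ⟨?_, C[U].mul_mem (C[U].mul_mem xC hh.2) xC⟩
      have := H67.conj_mem_of_mem_normalizer (hn (w.le hx)) hh.1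
      rwa [inv_eq_of_mul_eq_one_right (w.sq x hx)] at this
    have bw := H60.brauer_wielandt (H := O ⊓ C[U]) (ho.of_dvd_nat (card_dvd_of_le inf_le_left))
      (w.sq a ha) (w.sq b hb) (w.comm ha hb) (nr a ha) (nr b hb)
    rw [show centralizer ({a, b} : Set G) = C1[a] ⊓ C1[b] by ext x; simp [mem_centralizer_iff],
      inf_assoc, ← inf_assoc C[U], ← cent_sup, ← cent_sup] at bw
    have e1 := k1 a ha ha'
    have e2 := k1 b hb fun k => hb' (mem_sup_left k)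
    have e3 := k1 _ (S.mul_mem ha hb) fun k => hb' (((U ⊔ zpowers a).mul_mem_cancel_left
      (mem_sup_right (mem_zpowers a))).1 (mem_sup_left k))
    have y0 : 0 < y := oy.pos
    refine Nat.eq_of_mul_eq_mul_right (m := (Nat.card ↥(O ⊓ C[S]) * y ^ 2 ^ r) ^ 2) (by positivity) ?_
    calc _ = Nat.card ↥(O ⊓ C[U]) * Nat.card ↥(O ⊓ C[U ⊔ zpowers a ⊔ zpowers b]) ^ 2 * y ^ 3 := by
          rw [← k2]; ring
      _ = Nat.card ↥(O ⊓ C[U] ⊓ C1[a]) * y * (Nat.card ↥(O ⊓ C[U] ⊓ C1[b]) * y) *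
          (Nat.card ↥(O ⊓ C[U] ⊓ C1[a * b]) * y) := by rw [bw]; ring
      _ = _ := by rw [e1, e2, e3, pow_succ 2 (r + 1), pow_succ 2 r]; ring

theorem card_sub {H : Subgroup G} (K : Subgroup H) (t : H) :
    Nat.card ↥(K ⊓ C1[t]) = Nat.card ↥(K.map H.subtype ⊓ C1[(t : G)]) := by
  rw [← Subgroup.card_map_of_injective H.subtype_injective]
  congr 2
  ext x
  exact ⟨fun ⟨z, hz, e⟩ => ⟨⟨z, hz.1, e⟩, e ▸ mem_centralizer_singleton_iff.2
      (congrArg Subtype.val (mem_centralizer_singleton_iff.1 hz.2))⟩,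
    fun ⟨⟨z, hz, e⟩, k⟩ => ⟨z, ⟨hz, mem_centralizer_singleton_iff.2
      (Subtype.ext (by subst e; exact mem_centralizer_singleton_iff.1 k))⟩, e⟩⟩

theorem card_one [Finite G] {H : Subgroup G} {t : G} (ht : t ∈ H) (ot : orderOf t = 2)
    (one : ∀ x ∈ H, orderOf x = 2 → ∃ k ∈ H, k * t * k⁻¹ = x) : Nat.card H = ni H * Nat.card ↥(H ⊓ C1[t]) :=
  OT.card_cls H t fun y => ⟨fun hy => one y hy.1 hy.2, fun ⟨k, hk, e⟩ =>
    e ▸ ⟨H.mul_mem (H.mul_mem hk ht) (H.inv_mem hk), (ord_conj k t).trans ot⟩⟩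

theorem str (wal : WalStmt.{u}) : StrStmt.{u} := fun G _ _ H D S m DH w ho h60 => by
  let O' := pPrimeCore 2 H
  let π := QuotientGroup.mk' O'
  have πs : Function.Surjective π := QuotientGroup.mk'_surjective O'
  have πk : π.ker = O' := QuotientGroup.ker_mk' O'
  have co : (Nat.card O').Coprime 2 := H3.pPrimeCore_coprime 2 H
  let O := O'.map H.subtype
  have cO : Nat.card O = Nat.card O' := Subgroup.card_map_of_injective H.subtype_injective
  have oO : Odd (Nat.card O) := cO ▸ Nat.coprime_two_right.1 co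
  have mO : ∀ x : H, π x = 1 ↔ (x : G) ∈ O := fun x => by
    rw [← MonoidHom.mem_ker, πk]
    exact ⟨fun h => ⟨x, h, rfl⟩, fun ⟨z, hz, e⟩ => (Subtype.ext e : z = x) ▸ hz⟩
  have HN : H ≤ N[O] := fun k hk => mem_normalizer_fintype fun y ⟨z, hz, e⟩ =>
    ⟨_, (inferInstance : O'.Normal).conj_mem z hz ⟨k, hk⟩, e ▸ rfl⟩
  have ord : ∀ x : H, orderOf (x : G) = 2 → orderOf (π x) = 2 := fun x ox => ord2.2
    ⟨by rw [← map_mul, show x * x = 1 from Subtype.ext (ord2.1 ox).1, map_one], fun e =>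
      oO.not_two_dvd_nat (ox ▸ H67.orderOf_dvd_card_of_mem ((mO x).1 e))⟩
  let f : D →* H ⧸ O' := π.comp (inclusion DH)
  obtain ⟨t0, ht0, ot0⟩ := w.ex_inv
  have := w.simple
  have fi : Function.Injective f := (MonoidHom.ker_eq_bot_iff f).1
    ((Subgroup.Normal.eq_bot_or_eq_top inferInstance).resolve_right fun e =>
      (ord2.1 (ord ⟨t0, DH (w.le ht0)⟩ ot0)).2 (e.ge (mem_top (⟨t0, w.le ht0⟩ : D))))
  have SH := w.le.trans DH
  let P := (S.subgroupOf D).map f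
  have cP : Nat.card P = 2 ^ m := by
    rw [Subgroup.card_map_of_injective fi, Nat.card_congr (subgroupOfEquivOfLe w.le).toEquiv, w.card]
  have sqP : ∀ x ∈ P, x * x = 1 := fun _ ⟨z, hz, e⟩ => by
    rw [← e, ← map_mul, show z * z = 1 from Subtype.ext (w.sq z hz), map_one]
  have oP : Odd P.index := ho.of_dvd_nat ((index_dvd_of_le (H := (S.subgroupOf H).map π) (K := P)
    fun _ ⟨z, hz, e⟩ => ⟨⟨z, w.le hz⟩, hz, e⟩).trans (index_map_dvd _ πs))
  have sP : IsSyl 2 P ⊤ := H67.syl_mk le_top (pg_of_sq sqP) (by rw [relIndex_top_right]; exact oP.not_two_dvd_nat)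
  have one' : ∀ t : D, orderOf (t : G) = 2 → ∀ x, orderOf x = 2 → IsConj (f t) x := fun t ot x ox => by
    obtain ⟨g, -, l⟩ := H67.exists_cj_le_syl sP (K := zpowers x) le_top (pg_zpowers (ord2.1 ox).1)
    obtain ⟨z, hz, e⟩ := l (H67.conj_mem_cj (mem_zpowers x))
    obtain ⟨d, hd, k⟩ := w.one t t.2 z z.2 ot (w.ord hz fun k => (ord2.1 ((ord_conj g x).trans ox)).2
      (by rw [← e, show z = 1 from Subtype.ext k, map_one]))
    exact (f.map_isConj (isConj_iff.2 ⟨⟨d, hd⟩, Subtype.ext k⟩)).trans (e ▸ (isConj_iff.2 ⟨g, rfl⟩).symm)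
  obtain ⟨P', hP'⟩ := H67.exists_sylow_top sP
  obtain ⟨L, nL, sL, aL, iL⟩ := exists_L P' (by
      rw [hP']; exact fun x hx => mem_centralizer_iff.2 fun y hy => comm_of_sq sqP hy hx)
    (H3.pPrimeCore_quotient_pPrimeCore 2 H) (fun _ => by
      have := Group.isSolvable_of_isSolvable_injective fi
      exact w.nonab ⟨⟨IsSimpleGroup.comm_iff_isSolvable.2 this⟩⟩)
    fun x y ox oy => (one' ⟨t0, w.le ht0⟩ ot0 x ox).symm.trans (one' _ ot0 y oy)
  have fL : ∀ d, f d ∈ L := fun d => ((Subgroup.Normal.eq_bot_or_eq_top (nL.comap f)).resolve_left fun e =>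
    (ord2.1 ot0).2 (congrArg Subtype.val (mem_bot.1 (e.le
      (iL _ (ord ⟨t0, DH (w.le ht0)⟩ ot0) : (⟨t0, w.le ht0⟩ : D) ∈ L.comap f))))).ge (mem_top d)
  have PL : P ≤ L := fun _ ⟨z, _, e⟩ => e ▸ fL z
  rcases wal _ L P sL aL PL (pg_of_sq sqP) (oP.of_dvd_nat (relIndex_dvd_index_of_le PL))
    (fun x hx y hy => comm_of_sq sqP hx hy) with ⟨⟨e⟩⟩ | ⟨m', w', ty⟩
  · have h1 := Nat.card_le_card_of_injective (f.codRestrict L fL) fun x y e => fi (congrArg Subtype.val e)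
    rw [Nat.card_congr e.toEquiv, nat_card_alternatingGroup, Nat.card_fin] at h1
    exact absurd (h60.trans_le h1) (by decide)
  obtain rfl : m = m' := Nat.pow_right_injective le_rfl (cP.symm.trans w'.card)
  obtain ⟨c, y, c0, oy, bw⟩ := w.bw oO (DH.trans HN)
  have y0 := oy.pos
  have b0 : Nat.card O * y = c * y ^ 2 ^ m := by
    have := bw m ⊥ bot_le (by rw [card_bot, w.card, mul_one])
    rwa [show C[(⊥ : Subgroup G)] = ⊤ by simp, inf_top_eq] at this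
  obtain ⟨n, rfl⟩ := Nat.exists_eq_add_of_le' w.two
  have bw' : ∀ r, ∀ U ≤ H, IsPGroup 2 U → 2 ^ (n + 2) = 2 ^ r * Nat.card U →
      Nat.card ↥(O ⊓ C[U]) * y = c * y ^ 2 ^ r := fun r U hU pU e => by
    obtain ⟨d, hd, l⟩ := w.syl_conj' SH ho hU pU
    rw [← card_cj_cent (HN (H.inv_mem hd))]
    exact bw r _ (H67.le_cj_iff_cj_inv_le.1 l) (by rw [H67.card_cj, w.card, e])
  have b1 : ∀ t : D, orderOf (t : G) = 2 → Nat.card ↥(O ⊓ C1[(t : G)]) * y = c * y ^ 2 ^ (n + 1) :=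
    fun t ot => by
      rw [← H67.centralizer_zpowers]
      exact bw' _ _ (zpowers_le.2 (DH t.2)) (pg_zpowers (ord2.1 ot).1) (by rw [Nat.card_zpowers, ot]; ring)
  have mc : ∀ t : D, orderOf (t : G) = 2 → C1[inclusion DH t].map π = C1[f t] := fun t ot =>
    H52.map_centralizer_singleton πs (by rwa [πk]) (pg_zpowers (Subtype.ext (ord2.1 ot).1))
  have niL : ni (⊤ : Subgroup (H ⧸ O')) = ni L := by
    unfold ni; congr 1; ext x; exact ⟨fun h => ⟨iL x h.2, h.2⟩, fun h => ⟨trivial, h.2⟩⟩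
  have b2 : ∀ t : D, orderOf (t : G) = 2 → Nat.card ↥(H ⊓ C1[(t : G)]) =
      Nat.card ↥(O ⊓ C1[(t : G)]) * L.index * Nat.card ↥(L ⊓ C1[f t]) := fun t ot => by
    have c1 := H31.card_eq_card_map_mul π C1[inclusion DH t]
    have c2 := card_sub ⊤ (inclusion DH t)
    rw [top_inf_eq, ← MonoidHom.range_eq_map, H.range_subtype, c1, mc t ot, πk, inf_comm, card_sub] at c2
    have c3 := card_one (H := ⊤) (t := f t) trivial (ord (inclusion DH t) ot) fun x _ ox =>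
      (isConj_iff.1 (one' t ot x ox)).imp fun _ e => ⟨trivial, e⟩
    rw [top_inf_eq, niL, card_top, ← L.card_mul_index, w'.card_eq (fL t) (ord (inclusion DH t) ot),
      mul_assoc] at c3
    refine c2.symm.trans ?_
    rw [← Nat.eq_of_mul_eq_mul_left w'.odd_ni.pos c3]
    exact (mul_comm _ _).trans (by rw [mul_assoc, mul_comm L.index]; rfl)
  refine ⟨_, inferInstance, inferInstance, L, P, f, O, c, y, L.index, fi, fL, w', ty, HN, c0,
    Nat.pos_of_ne_zero index_ne_zero_of_finite, oy, b0, ?_, fun t ot => ⟨b1 t ot, b2 t ot, ?_⟩⟩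
  · have c1 := card_one (SH ht0) ot0 fun x hx ox => by
      obtain ⟨d, hd, l⟩ := w.syl_conj' SH ho (zpowers_le.2 hx) (pg_zpowers (ord2.1 ox).1)
      obtain ⟨z, hz, rfl⟩ := H67.mem_cj'.1 (l (mem_zpowers x))
      obtain ⟨k, hk, rfl⟩ := w.one t0 (w.le ht0) z (w.le hz) ot0 ((ord_conj d z).symm.trans ox)
      exact ⟨d * k, H.mul_mem hd (DH hk), by group⟩
    have c2 := b1 ⟨t0, w.le ht0⟩ ot0
    rw [b2 ⟨t0, w.le ht0⟩ ot0, card_eq_card_quotient_mul_card_subgroup O', ← L.card_mul_index,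
      w'.card_eq (fL ⟨t0, w.le ht0⟩) (ord ⟨t0, SH ht0⟩ ot0), ← cO] at c1
    have i0 : 0 < L.index := Nat.pos_of_ne_zero index_ne_zero_of_finite
    have l0 : 0 < Nat.card ↥(L ⊓ C1[f ⟨t0, w.le ht0⟩]) := Nat.card_pos
    refine Nat.eq_of_mul_eq_mul_right
      (m := c * y ^ 2 ^ (n + 1) * L.index * Nat.card ↥(L ⊓ C1[f ⟨t0, w.le ht0⟩])) (by positivity) ?_
    calc _ = ni H * (Nat.card ↥(O ⊓ C1[t0]) * L.index * Nat.card ↥(L ⊓ C1[f ⟨t0, w.le ht0⟩])) * y := by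
          rw [← c2]; ring
      _ = ni L * Nat.card ↥(L ⊓ C1[f ⟨t0, w.le ht0⟩]) * L.index * (Nat.card O * y) := by rw [← c1]; ring
      _ = _ := by rw [b0, show n + 2 - 1 = n + 1 from rfl, pow_succ 2 (n + 1)]; ring
  · have tH := DH t.2
    have oft : orderOf (f t) = 2 := ord (inclusion DH t) ot
    rw [← ncard_ne (X := H ⊓ C1[(t : G)]) ⟨tH, mem_centralizer_singleton_iff.2 rfl⟩ ot,
      ← ncard_ne (X := L ⊓ C1[f t]) ⟨fL t, mem_centralizer_singleton_iff.2 rfl⟩ oft,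
      Nat.add_sub_cancel, Nat.add_sub_cancel, mul_comm, ← mul_one (Set.ncard _)]
    have oK : Odd (Nat.card ↥(O ⊓ C1[(t : G)])) := oO.of_dvd_nat (card_dvd_of_le inf_le_left)
    have im : ∀ x : H, (x : G) ∈ C1[(t : G)] → orderOf (x : G) = 2 → (x : G) ≠ t →
        π x ∈ C1[f t] ∧ π x ≠ f t := fun x hx ox ne => by
      have cx := mem_centralizer_singleton_iff.1 hx
      refine ⟨mc t ot ▸ mem_map_of_mem π (mem_centralizer_singleton_iff.2 (Subtype.ext cx)), fun e => ?_⟩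
      refine (ord2.1 (ord (x * inclusion DH t) (ord2.2 ⟨?_, fun k => ne ?_⟩))).2 ?_
      · change (x : G) * t * (x * t) = 1
        rw [mul_assoc, ← mul_assoc (t : G), ← cx, mul_assoc, (ord2.1 ot).1, mul_one, (ord2.1 ox).1]
      · exact mul_right_cancel (k.trans (ord2.1 ot).1.symm)
      · rw [map_mul, e]; exact (ord2.1 oft).1
    refine dcount _ _ (fun x z => ∃ h : x ∈ H, π ⟨x, h⟩ = z) _ _ (fun x hx => ?_) fun z hz => ?_
    · refine Set.ncard_eq_one.2 ⟨π ⟨x, hx.1.1.1⟩, Set.ext fun z => ⟨fun ⟨_, _, e⟩ => e.symm, fun e => ?_⟩⟩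
      obtain ⟨h1, h2⟩ := im ⟨x, hx.1.1.1⟩ hx.1.1.2 hx.1.2 hx.2
      have h3 := ord ⟨x, hx.1.1.1⟩ hx.1.2
      exact e ▸ ⟨⟨⟨⟨iL _ h3, h1⟩, h3⟩, h2⟩, _, rfl⟩
    · obtain ⟨k, hk, rfl⟩ := (mc t ot).ge hz.1.1.2
      have z2 := ord2.1 hz.1.2
      obtain ⟨r, hr⟩ := oO
      set v := k ^ Nat.card O with hv
      have πv : π v = π k := by rw [hv, map_pow, hr, pow_succ, pow_mul, pow_two, z2.1, one_pow, one_mul]
      have v2 : (v : G) * v = 1 := by
        rw [hv, Subgroup.coe_pow, ← pow_add, ← two_mul, pow_mul, pow_two]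
        exact H60.pow_card_eq_one_of_mem ((mO (k * k)).1 (by rw [map_mul, z2.1]))
      have vC : (v : G) ∈ C1[(t : G)] := mem_centralizer_singleton_iff.2
        (congrArg Subtype.val (mem_centralizer_singleton_iff.1 (pow_mem hk _)))
      have ov : orderOf (v : G) = 2 := ord2.2 ⟨v2, fun e => z2.2 (by
        rw [← πv, show v = 1 from Subtype.ext e, map_one])⟩
      have vt : (v : G) ≠ t := fun e => hz.2 (by rw [← πv, show v = inclusion DH t from Subtype.ext e]; rfl)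
      have c1 := H60.card_involutions_mul oK v2 fun h hh => ⟨by
        have := H67.conj_mem_of_mem_normalizer (HN v.2) hh.1
        rwa [inv_eq_of_mul_eq_one_right v2] at this, mul_mem (mul_mem vC hh.2) vC⟩
      obtain ⟨q1, q2⟩ := four_zp ot ov (mem_centralizer_singleton_iff.1 vC) vt
      have c2 := bw' n _ (sup_le (zpowers_le.2 tH) (zpowers_le.2 v.2)) (pg_of_sq q1) (by rw [q2]; ring)
      rw [cent_sup, H67.centralizer_zpowers, ← inf_assoc] at c2
      have c3 := b1 t ot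
      rw [← c1, mul_assoc, c2, pow_succ 2 n, pow_mul, pow_two, ← mul_assoc c, mul_comm] at c3
      rw [← Nat.eq_of_mul_eq_mul_left (by positivity) c3]
      congr 1
      ext x
      refine ⟨fun ⟨hx, h, e⟩ => ⟨⟨(mO (⟨x, h⟩ * v)).1 (by rw [map_mul, e, πv, z2.1]), mul_mem hx.1.1.2 vC⟩,
        (ord2.1 hx.1.2).1⟩, fun hx => ?_⟩
      have xH : x ∈ H := (H.mul_mem_cancel_right v.2).1 (map_subtype_le O' hx.1.1)
      have e : π ⟨x, xH⟩ = π k := by
        have := (mO (⟨x, xH⟩ * v)).2 hx.1.1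
        rw [map_mul, πv, ← z2.1] at this
        exact mul_right_cancel this
      exact ⟨⟨⟨⟨xH, (C1[(t : G)].mul_mem_cancel_right vC).1 hx.1.2⟩, ord2.2 ⟨hx.2, fun k => z2.2 (by
        rw [← e, show (⟨x, xH⟩ : H) = 1 from Subtype.ext k, map_one])⟩⟩, fun k => hz.2 (by
          rw [← e, show (⟨x, xH⟩ : H) = inclusion DH t from Subtype.ext k]; rfl)⟩, xH, e⟩

end Cfsg.Agent.H56.W2
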