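import Cfsg.Agent.H56.ZCBk
import Cfsg.Agent.H56.ZCCl
import Cfsg.Agent.S0723

/-!
Assembly: the case `r = 2`, and the reduction for primitive groups.
-/

set_option autoImplicit false

namespace Cfsg.Agent.H56.ZC

open Subgroup Cfsg.Agent.H56.FS Cfsg.Agent.H91.FsInd
open scoped commutatorElement

universe u v

theorem noFx (se : SeStmt.{u}) (cp : CpStmt.{u}) (c2 : C2Stmt.{u}) (c1b : C1bStmt.{u})
    (ub : UbStmt.{u}) (ec : EcStmt.{u}) {G : Type u} [Group G] [Finite G] {p : ℕ}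
    {D : Set (Subgroup G)} (h : Fx p D) : False := by
  by_cases hg : ∃ ζ, Gz D ζ
  swap
  · refine h.nsol (ec G p 2 D h.toMc.toCn.toCl2 h.gen fun A hA B hB e he => ?_)
    by_contra h1
    exact hg ⟨e, gz_of_Z (h.mz _ (h.toMc.sv_pair hA hB) A hA le_sup_left e he.1
      (cj_of_cent he.2)) h1⟩
  obtain ⟨ζ, hζ⟩ := hg
  by_cases h2 : Two D
  swap
  · exact ub G p D h h2 ζ hζ
  obtain ⟨ce, st⟩ := se G p D h h2
  obtain ⟨d, hd, Y, hY, h3, h4⟩ := cp G p D h ce ζ hζ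
  obtain ⟨a, ha, a1, -⟩ := h.toMc.toCn.toCl2.toBs2.exists_gen hY
  by_cases hb : Big D d
  · exact c2 G p D h ce st d hd hb Y hY h3 a ha a1 (h4 a ha)
  · exact c1b G p D h d hd hb Y hY h3 a ha a1 (h4 a ha)

theorem cn_sub {H G : Type*} [Group H] [Group G] {p : ℕ} {f : H →* G} (hf : Function.Injective f)
    {D : Set (Subgroup G)} (h : Cn p D) : Cn p {B : Subgroup H | B.map f ∈ D} := by
  refine { cl_sub2 hf h.toCl2 with na := fun A hA B hB ne hc => ?_, an := ?_, eps := ?_ }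
  · refine h.na _ hA _ hB (fun e => ne (map_injective hf e)) ?_
    rw [← Subgroup.map_sup, ← map_commutator]
    infer_instance
  · intro A hA B hB u hu h1 h2
    refine h.an _ hA _ hB (f u) ?_ (fun e => h1 (map_injective hf (by rw [map_cj, e]))) ?_
    · rw [← Subgroup.map_sup, ← RR_sub hf]
      exact mem_map_of_mem f hu
    · rw [← map_mul, h2, map_one]
  · intro A hA g hg
    refine cen_of_map hf (h.eps _ hA (cj_eq_iff.1 ?_))
    rw [← map_cj, cj_eq_iff.2 hg]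

theorem na (k1 : Kt1Stmt.{u}) (k2 : Kt2Stmt.{u}) (k3 : Kt3Stmt.{u}) (k4 : Kt4Stmt.{u})
    (rad : RadStmt.{u}) (n1g : N1gStmt.{u}) (se : SeStmt.{u}) (cp : CpStmt.{u}) (c2 : C2Stmt.{u})
    (c1b : C1bStmt.{u}) (ub : UbStmt.{u}) (ec : EcStmt.{u}) : NaStmt.{u} := by
  intro G _ _ p D
  induction hn : Nat.card G using Nat.strong_induction_on generalizing G with
  | _ n ih =>
  intro h hg
  subst hn
  by_contra hs
  have a1 := k1 G p D h
  have a2 := k2 G p D h a1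
  refine noFx se cp c2 c1b ub ec (n1g G p D (rad G p D
    { h, a1, a2, k3 G p D h a1 a2, k4 G p D h a1 with
      gen := hg, nsol := hs, sol := fun X hX => ?_ }))
  refine ih _ ?_ (LL D X) _ rfl (cn_sub (LL D X).subtype_injective h) ?_
  · rw [← (LL D X).index_mul_card]
    exact lt_mul_of_one_lt_left Nat.card_pos (one_lt_index_of_ne_top fun e =>
      hX (top_le_iff.1 (e.ge.trans (LL_le X))))
  · have e := LL_sub (LL D X).subtype_injective (D := D) ⊤
    rw [← MonoidHom.range_eq_map, range_subtype, LL_LL] at e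
    refine top_le_iff.1 fun x _ => ?_
    obtain ⟨y, hy, e'⟩ := e.ge x.2
    obtain rfl : y = x := Subtype.ext e'
    exact LL_le_of (Y := sSup _) (fun _ hB _ => le_sSup hB) hy

theorem zc1 (a : Zc1aStmt.{u, v}) (b : Zc1bStmt.{u, v}) : Zc1Stmt.{u, v} := by
  intro H _ _ Γ _ _ _ h2 x N R hN hc h3 h4 h5 h6
  obtain ⟨p, W, k1, k2, k3, k4, k5, k6, k7⟩ := a H Γ h2 x N R hN hc h3 h4 h5 h6
  exact b H Γ h2 x N hN hc p W k1 k2 k3 k4 k5 k6 k7

theorem main (pa : PaStmt.{u, v}) (cd : CdStmt.{u, v}) (sd : SdStmt.{u, v}) (hs : HsStmt.{u, v})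
    {G : Type u} {Ω : Type v} [Group G] [Finite G] [MulAction G Ω] [Finite Ω] {α β : Ω}
    (h : Pm G Ω α β) :
    (∃ T : Subgroup G, T.Normal ∧ IsSimpleGroup ↥T ∧ ¬ IsMulCommutative ↥T ∧
      Subgroup.centralizer (T : Set G) = ⊥) ∨
    (∃ N : Subgroup G, N.Normal ∧ N ≠ ⊥ ∧ (∀ M : Subgroup G, M.Normal → M ≠ ⊥ → N ≤ M) ∧
      MulAction.IsPretransitive ↥N Ω ∧ ∀ ω : Ω, MulAction.stabilizer ↥N ω = ⊥) := by
  have := h.fa
  have := h.prim
  have : Nontrivial Ω := ⟨β, α, h.ne⟩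
  have hG : Nontrivial G := by
    obtain ⟨g, hg⟩ := MulAction.exists_smul_eq G α β
    exact ⟨g, 1, fun e => h.ne (by rw [← hg, e, one_smul])⟩
  obtain ⟨N, hN, N1, hmin⟩ := H3.exists_minimal_normal G
  have mN : MinN N := ⟨hN, N1, hmin⟩
  have uniq : ∀ M : Subgroup G, M.Normal → M ≠ ⊥ → N ≤ M := fun M hM M1 => by
    obtain ⟨K, hK, K1, KM, hKm⟩ := H3.exists_minimal_normal_le M M1
    exact hs G Ω α β h N K mN ⟨hK, K1, hKm⟩ ▸ KM
  set K := MulAction.stabilizer G α with hKdef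
  have hK : IsCoatom K := MulAction.IsPreprimitive.isCoatom_stabilizer_of_isPreprimitive G α
  have core : ∀ M : Subgroup G, M.Normal → M ≤ K → M = ⊥ := fun M hM hle => by
    refine eq_bot_iff.2 fun n hn => mem_bot.2 (FaithfulSMul.eq_of_smul_eq_smul (α := Ω) fun b => ?_)
    obtain ⟨g, rfl⟩ := MulAction.exists_smul_eq G α b
    have h1 : (g⁻¹ * n * g⁻¹⁻¹) • α = α := hle (hM.conj_mem n hn g⁻¹)
    rw [inv_inv, mul_smul, mul_smul, inv_smul_eq_iff] at h1
    rw [h1, one_smul]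
  have hNK : ¬ N ≤ K := fun e => N1 (core N hN e)
  have top : N ⊔ K = ⊤ := hK.2 _ (lt_of_le_of_ne le_sup_right fun e => hNK (e ▸ le_sup_left))
  have mv : ∀ ω : Ω, ∃ n ∈ N, n • α = ω := fun ω => by
    obtain ⟨g, rfl⟩ := MulAction.exists_smul_eq G α ω
    obtain ⟨n, hn, k, hk, rfl⟩ := mem_sup_of_norm (R := N) (A := K)
      (by rw [normalizer_eq_top]; exact le_top) (top.ge (mem_top g))
    exact ⟨n, hn, by rw [mul_smul, show k • α = α from hk]⟩
  by_cases hreg : N ⊓ K = ⊥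
  · refine Or.inr ⟨N, hN, N1, uniq, ⟨fun x y => ?_⟩, fun ω => eq_bot_iff.2 fun n hn => ?_⟩
    · obtain ⟨a, ha, rfl⟩ := mv x
      obtain ⟨b, hb, rfl⟩ := mv y
      exact ⟨⟨b * a⁻¹, mul_mem hb (inv_mem ha)⟩, by
        change (b * a⁻¹) • a • α = b • α
        rw [mul_smul, inv_smul_smul]⟩
    · obtain ⟨a, ha, rfl⟩ := mv ω
      have h1 : (n : G) • a • α = a • α := hn
      have h2 : a⁻¹ * n * a ∈ N ⊓ K := mem_inf.2 ⟨mul_mem (mul_mem (inv_mem ha) n.2) ha, by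
        change (a⁻¹ * n * a) • α = α
        rw [mul_smul, mul_smul, h1, inv_smul_smul]⟩
      rw [hreg, mem_bot] at h2
      refine mem_bot.2 (Subtype.ext ?_)
      calc (n : G) = a * (a⁻¹ * n * a) * a⁻¹ := by group
        _ = 1 := by rw [h2]; group
  have hnab : ¬ IsMulCommutative N := fun hc => hreg (core _ ?_ inf_le_right)
  swap
  · rw [← normalizer_eq_top_iff, eq_top_iff, ← top]
    refine sup_le (fun n hn => centralizer_le_normalizer _ fun x hx => ?_)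
      (H4.le_normalizer_inf (by rw [normalizer_eq_top]; exact le_top) le_normalizer)
    exact congrArg Subtype.val (hc.is_comm.comm (⟨x, hx.1⟩ : N) ⟨n, hn⟩)
  obtain ⟨T, iT, m, hT, hm, ⟨e⟩⟩ := Cfsg.Agent.S0721.result N N1 hmin
  have hTc : ¬ IsMulCommutative T := fun k => hnab ⟨⟨fun x y => e.injective (by
    rw [map_mul, map_mul]; funext i; exact k.is_comm.comm _ _)⟩⟩
  by_cases m1 : m = 1
  · subst m1
    have e' : N ≃* T := e.trans (MulEquiv.piUnique fun _ : Fin 1 => T)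
    refine Or.inl ⟨N, hN, e'.isSimpleGroup, hnab, ?_⟩
    by_contra hc
    have := uniq _ inferInstance hc
    exact hnab ⟨⟨fun x y => Subtype.ext (this y.2 x x.2)⟩⟩
  exfalso
  obtain ⟨e', ⟨K', -, hK'⟩ | ⟨k, c, -, -, hc⟩⟩ := S0723.core K N hmin hK hNK (fun X h1 h2 h3 => by
    by_cases hX : X ≤ K
    · exact Or.inl (le_antisymm (le_inf hX h1) h2)
    · have t : X ⊔ K = ⊤ := hK.2 _ (lt_of_le_of_ne le_sup_right fun e => hX (e ▸ le_sup_left))
      refine Or.inr (le_antisymm h1 fun n hn => ?_)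
      obtain ⟨x, hx, y, hy, rfl⟩ := mem_sup_of_norm h3 (t.ge (mem_top n))
      exact mul_mem hx (h2 ⟨hy, (mul_mem_cancel_left (h1 hx)).1 hn⟩)) hTc hm e
  · exact pa G Ω α β h N mN hreg T hTc m (by omega) e' K' hK'
  · by_cases h2 : ∃ i j, c i ≠ c j
    · exact cd G Ω α β h N mN T hTc m e' c h2 hc
    · push Not at h2
      exact sd G Ω α β h N mN T hTc m e' fun n => by
        rw [hc]
        exact ⟨fun k i j => k i j (h2 i j), fun k i j _ => k i j⟩

end Cfsg.Agent.H56.ZC
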