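import Cfsg.Agent.H56.ZCKit

/-!
Good elements and their blocks.
-/

set_option autoImplicit false

namespace Cfsg.Agent.H56.ZC

open Subgroup Cfsg.Agent.H56.FS
open scoped commutatorElement

variable {G : Type*} [Group G] {p : ℕ} {D : Set (Subgroup G)}

theorem Ce_mul_center {x z : G} (hz : z ∈ center G) : Ce (x * z) = Ce x := by
  ext y
  rw [mem_Ce, mem_Ce, ← mul_assoc, mul_assoc x z y, ← mem_center_iff.1 hz y, ← mul_assoc,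
    mul_left_inj]

theorem Ce_ne_top {g : G} (hg : g ∉ center G) : Ce g ≠ ⊤ := fun e =>
  hg (mem_center_iff.2 fun x => mem_Ce.1 (e ▸ mem_top x))

theorem conj_mem_center {g x : G} : g * x * g⁻¹ ∈ center G ↔ x ∈ center G := by
  refine ⟨fun h => ?_, fun h => by rw [mem_center_iff.1 h g, mul_inv_cancel_right]; exact h⟩
  have := mem_center_iff.1 h g⁻¹
  rw [show x = g * x * g⁻¹ by
    calc x = g⁻¹ * (g * x * g⁻¹) * g := by group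
      _ = _ := by rw [this]; group]
  exact h

theorem comm_symm_center {g x : G} (h : ⁅g, x⁆ ∈ center G) : ⁅x, g⁆ ∈ center G := by
  rw [← commutatorElement_inv]; exact inv_mem h

theorem cj_Ce_of_cz {g x : G} (h : ⁅g, x⁆ ∈ center G) : cj g (Ce x) = Ce x := by
  rw [cj_Ce, show g * x * g⁻¹ = x * ⁅g, x⁆ by
    rw [mem_center_iff.1 h x, commutatorElement_def]; group, Ce_mul_center h]

theorem ZZ_congr {X Y : Subgroup G} (h : LL D X = LL D Y) : ZZ D X = ZZ D Y := by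
  unfold ZZ; rw [RR_congr h, h]

theorem ZZ_le_LL (X : Subgroup G) : ZZ D X ≤ LL D X := (ZZ_le_RR X).trans (RR_le X)

theorem mem_E0 {ζ : G} (hζ : Gz D ζ) : ζ ∈ Ez D ζ := ⟨hζ.2, le_Ce_iff.1 (LL_le _)⟩

theorem mem_Bk {ζ : G} (hζ : Gz D ζ) : ζ ∈ Bk D ζ := RR_le _ hζ.2

theorem exists_pt {ζ : G} (hζ : Gz D ζ) : ∃ A ∈ D, A ≤ Ce ζ :=
  exists_pt_of_RR fun e => hζ.1 (by rw [mem_bot.1 (e.le hζ.2)]; exact one_mem _)

theorem gz_of_Z {X : Subgroup G} {e : G} (he : e ∈ ZZ D X) (h1 : e ∉ center G) : Gz D e :=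
  ⟨h1, RR_le_RR (LL_le_Ce_of_Z he) he.1⟩

theorem Ez_comm {ζ e x : G} (he : e ∈ Ez D ζ) (hx : x ∈ Bk D ζ) : x * e = e * x := ZZ_comm he hx

theorem conj_mem_ZZ {X : Subgroup G} {g e : G} (hg : g ∈ normalizer (LL D X : Set G))
    (he : e ∈ ZZ D X) : g * e * g⁻¹ ∈ ZZ D X := (mem_normalizer_iff.1 (norm_ZZ X hg) e).1 he

theorem conj_mem_RR {X : Subgroup G} {g e : G} (hg : g ∈ normalizer (LL D X : Set G))
    (he : e ∈ RR D X) : g * e * g⁻¹ ∈ RR D X := (mem_normalizer_iff.1 (norm_RR X hg) e).1 he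

theorem comm_mem_ZZ {X : Subgroup G} {g e : G} (hg : g ∈ normalizer (LL D X : Set G))
    (he : e ∈ ZZ D X) : ⁅g, e⁆ ∈ ZZ D X := mul_mem (conj_mem_ZZ hg he) (inv_mem he)

/-- if `d = u h` with `h` centralising `u` and `a` then `[d, d^a] = [u, u^a]` -/
theorem comm_eq_of_cen {d u a : G} (h1 : Commute u (u⁻¹ * d)) (h2 : Commute a (u⁻¹ * d)) :
    ⁅d, a * d * a⁻¹⁆ = ⁅u, a * u * a⁻¹⁆ := by
  obtain ⟨k, rfl⟩ : ∃ k, d = u * k := ⟨u⁻¹ * d, by group⟩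
  rw [inv_mul_cancel_left] at h1 h2
  have h3 : Commute (a * u * a⁻¹) k := (h2.mul_left h1).mul_left h2.inv_left
  have e : a * (u * k) * a⁻¹ = a * u * a⁻¹ * k := by
    rw [mul_assoc (a * u), h2.inv_left.eq]; group
  rw [e, commutatorElement_def, commutatorElement_def]
  calc u * k * (a * u * a⁻¹ * k) * (u * k)⁻¹ * (a * u * a⁻¹ * k)⁻¹
      = u * (k * (a * u * a⁻¹)) * u⁻¹ * k⁻¹ * (a * u * a⁻¹)⁻¹ := by group
    _ = u * (a * u * a⁻¹) * (k * u⁻¹) * k⁻¹ * (a * u * a⁻¹)⁻¹ := by rw [← h3.eq]; group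
    _ = _ := by rw [← h1.inv_left.eq]; group

section Inv

variable (hinv : ∀ A ∈ D, ∀ g : G, cj g A ∈ D)
include hinv

theorem Bk_cj (g ζ : G) : Bk D (g * ζ * g⁻¹) = cj g (Bk D ζ) := by
  rw [Bk, ← cj_Ce, cj_LL hinv]

theorem RR_cj (g ζ : G) : RR D (Ce (g * ζ * g⁻¹)) = cj g (RR D (Ce ζ)) := by
  rw [← cj_Ce, cj_RR hinv]

theorem gz_cj (g : G) {ζ : G} (hζ : Gz D ζ) : Gz D (g * ζ * g⁻¹) :=
  ⟨fun e => hζ.1 (conj_mem_center.1 e), by rw [RR_cj hinv]; exact conj_mem_cj hζ.2⟩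

theorem Ez_cj (g : G) {ζ e : G} (he : e ∈ Ez D ζ) : g * e * g⁻¹ ∈ Ez D (g * ζ * g⁻¹) := by
  refine ⟨by rw [SetLike.mem_coe, RR_cj hinv]; exact conj_mem_cj he.1, fun x hx => ?_⟩
  have h1 : x ∈ cj g (Bk D ζ) := Bk_cj hinv g ζ ▸ hx
  have h2 := Ez_comm he (mem_cj.1 h1)
  calc x * (g * e * g⁻¹) = g * (g⁻¹ * x * g * e) * g⁻¹ := by group
    _ = _ := by rw [h2]; group

theorem Ez_cj' (g : G) {ζ e : G} (he : e ∈ Ez D (g * ζ * g⁻¹)) : g⁻¹ * e * g ∈ Ez D ζ := by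
  have := Ez_cj hinv g⁻¹ he
  rwa [show g⁻¹ * (g * ζ * g⁻¹) * g⁻¹⁻¹ = ζ by group, inv_inv] at this

theorem big_cj (g : G) {ζ : G} : Big D (g * ζ * g⁻¹) ↔ Big D ζ := by
  have k : ∀ g ζ : G, Big D ζ → Big D (g * ζ * g⁻¹) := by
    rintro g ζ ⟨e, he, h1, h2⟩
    refine ⟨_, Ez_cj hinv g he, fun h => h1 (conj_mem_center.1 h), fun h => h2 ?_⟩
    rw [show g * ζ * g⁻¹ * (g * e * g⁻¹) = g * (ζ * e) * g⁻¹ by group] at h
    exact conj_mem_center.1 h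
  refine ⟨fun h => ?_, k g ζ⟩
  have := k g⁻¹ _ h
  rwa [show g⁻¹ * (g * ζ * g⁻¹) * g⁻¹⁻¹ = ζ by group] at this

theorem norm_of_cz {g x : G} (h : ⁅g, x⁆ ∈ center G) : g ∈ normalizer (Bk D x : Set G) :=
  norm_LL hinv _ (cj_eq_iff.1 (cj_Ce_of_cz h))

theorem norm_of_commute {g x : G} (h : Commute g x) : g ∈ normalizer (Bk D x : Set G) :=
  norm_of_cz hinv (by rw [commutatorElement_eq_one_iff_commute.2 h]; exact one_mem _)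

end Inv

theorem Cn.le_Ce_iff_fix (h : Cn p D) {A : Subgroup G} (hA : A ∈ D) {g : G} :
    A ≤ Ce g ↔ cj g A = A :=
  ⟨fun e => cj_of_cent (le_Ce_iff.1 e), fun e => le_Ce_iff.2 (h.eps A hA (cj_eq_iff.1 e))⟩

namespace Mc

variable [Finite G] (h : Mc p D)
include h

theorem le_Ce_iff_fix {A : Subgroup G} (hA : A ∈ D) {g : G} : A ≤ Ce g ↔ cj g A = A :=
  h.toCn.le_Ce_iff_fix hA

theorem sv_Ce {g : G} (hg : g ∉ center G) : Sv D (Ce g) := h.sol _ (Ce_ne_top hg)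

theorem sv_pair {A B : Subgroup G} (hA : A ∈ D) (hB : B ∈ D) : Sv D (A ⊔ B) :=
  h.toCn.toCl2.sol_pair hA hB

theorem exists_out {g : G} (hg : g ∉ center G) : ∃ Y ∈ D, ¬ Y ≤ Ce g := by
  by_contra hc
  push Not at hc
  exact Ce_ne_top hg (top_le_iff.1 (h.gen.ge.trans (sSup_le hc)))

theorem gz_sq {ζ : G} (hζ : Gz D ζ) : ζ * ζ = 1 := h.e2 _ (h.sv_Ce hζ.1) _ (mem_E0 hζ)

theorem Ez_sq {ζ e : G} (hζ : Gz D ζ) (he : e ∈ Ez D ζ) : e * e = 1 := h.e2 _ (h.sv_Ce hζ.1) _ he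

theorem blk2 {ζ : G} (hζ : Gz D ζ) {X : Subgroup G} (hX : Sv D X) (hle : Bk D ζ ≤ X) :
    LL D X ≤ Ce ζ := by
  obtain ⟨A, hA, hAζ⟩ := exists_pt hζ
  exact LL_le_Ce_of_Z (h.mz X hX A hA ((le_LL hA hAζ).trans hle) ζ (RR_le_RR hle hζ.2)
    (cj_of_cent (le_Ce_iff.1 hAζ)))

theorem blk_eq {ζ g : G} (hζ : Gz D ζ) (hg : g ∉ center G) (hle : Bk D ζ ≤ Ce g) :
    Bk D g = Bk D ζ :=
  le_antisymm (LL_le_LL (h.blk2 hζ (h.sv_Ce hg) hle)) (LL_le_LL hle)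

theorem blk3 {ζ e : G} (hζ : Gz D ζ) (he : e ∈ Ez D ζ) (h1 : e ∉ center G) : Bk D e = Bk D ζ :=
  h.blk_eq hζ h1 (LL_le_Ce_of_Z he)

theorem Ez_eq {ζ e : G} (hζ : Gz D ζ) (he : e ∈ Ez D ζ) (h1 : e ∉ center G) : Ez D e = Ez D ζ :=
  ZZ_congr (h.blk3 hζ he h1)

theorem le_Ce_of_E {ζ e : G} (hζ : Gz D ζ) (he : e ∈ Ez D ζ) (h1 : e ∉ center G) {A : Subgroup G}
    (hA : A ∈ D) : A ≤ Ce e ↔ A ≤ Ce ζ :=
  ⟨fun k => ((le_LL hA k).trans (h.blk3 hζ he h1).le).trans (LL_le _),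
    fun k => ((le_LL hA k).trans (h.blk3 hζ he h1).ge).trans (LL_le _)⟩

/-- `ZZ` of a smaller subgroup containing a point -/
theorem ZZ_mono {X Y A : Subgroup G} (hY : Sv D Y) (hA : A ∈ D) (hAX : A ≤ X) (hle : LL D X ≤ Y) :
    ZZ D X ≤ ZZ D Y := fun e he =>
  h.mz Y hY A hA ((le_LL hA hAX).trans hle) e (RR_le_RR hle he.1)
    (cj_of_cent fun a ha => ZZ_comm he (le_LL hA hAX ha))

theorem exists_cz {ζ t : G} (hζ : Gz D ζ) (ht : t * t ∈ center G)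
    (hn : t ∈ normalizer (Bk D ζ : Set G)) : ∃ e ∈ Ez D ζ, e ∉ center G ∧ ⁅t, e⁆ ∈ center G := by
  by_cases hc : ⁅t, ζ⁆ ∈ center G
  · exact ⟨ζ, mem_E0 hζ, hζ.1, hc⟩
  have h1 := conj_mem_ZZ hn (mem_E0 hζ)
  refine ⟨_, comm_mem_ZZ hn (mem_E0 hζ), hc, ?_⟩
  have e1 : ζ⁻¹ = ζ := inv_eq_of_mul_eq_one_right (h.gz_sq hζ)
  have e2 : t * t * ζ = ζ * (t * t) := (mem_center_iff.1 ht ζ).symm
  have e3 : ζ * (t * ζ * t⁻¹) = (t * ζ * t⁻¹) * ζ := Ez_comm h1 (mem_Bk hζ)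
  have : t * ⁅t, ζ⁆ * t⁻¹ = ⁅t, ζ⁆ := by
    rw [commutatorElement_def, e1]
    calc t * (t * ζ * t⁻¹ * ζ) * t⁻¹ = (t * t * ζ) * t⁻¹ * t⁻¹ * (t * ζ * t⁻¹) := by group
      _ = ζ * (t * ζ * t⁻¹) := by rw [e2]; group
      _ = _ := e3
  rw [commutatorElement_def t ⁅t, ζ⁆, this, mul_inv_cancel]
  exact one_mem _

theorem split {X A : Subgroup G} (hX : Sv D X) (hA : A ∈ D) (hAX : A ≤ X) {g : G}
    (hn : g ∈ normalizer (LL D X : Set G)) : ∃ ρ ∈ RR D X, A ≤ Ce (ρ⁻¹ * g) ∧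
      ρ⁻¹ * g ∈ normalizer (LL D X : Set G) ∧ (T2 g → T2 (ρ⁻¹ * g)) := by
  obtain ⟨ρ, hρ, e⟩ := h.toCn.toCl2.conj_pt hX hA hAX (h.inv A hA g)
    ((cj_le_of_norm hn (le_LL hA hAX)).trans (LL_le X))
  refine ⟨ρ, hρ, (h.le_Ce_iff_fix hA).2 (by rw [← cj_cj, e, cj_inv_cj]),
    mul_mem (inv_mem (le_normalizer (RR_le X hρ))) hn, ?_⟩
  rintro ⟨k, hk⟩
  have : Fact (Nat.Prime 2) := ⟨Nat.prime_two⟩
  have h1 : IsPGroup 2 (zpowers g) := by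
    rintro ⟨_, i, rfl⟩
    exact ⟨k, Subtype.ext (by
      change (g ^ i) ^ 2 ^ k = 1
      rw [← zpow_natCast, ← zpow_mul, mul_comm, zpow_mul, zpow_natCast, hk, one_zpow])⟩
  have h2 := h1.to_sup_of_normal_right' (h.pg X hX) (zpowers_le.2 (norm_RR X hn))
  obtain ⟨j, hj⟩ := h2 ⟨ρ⁻¹ * g, mul_mem (mem_sup_right (inv_mem hρ)) (mem_sup_left (mem_zpowers g))⟩
  exact ⟨j, congrArg Subtype.val hj⟩

omit [Finite G] h in
theorem small_mem {ζ e : G} (hb : ¬ Big D ζ) (he : e ∈ Ez D ζ) :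
    e ∈ center G ∨ ζ * e ∈ center G := by
  by_contra hc
  push Not at hc
  exact hb ⟨e, he, hc.1, hc.2⟩

omit [Finite G] h in
theorem small {ζ g e : G} (hb : ¬ Big D ζ) (hn : g ∈ normalizer (Bk D ζ : Set G))
    (he : e ∈ Ez D ζ) : ⁅g, e⁆ ∈ center G := by
  by_cases h1 : e ∈ center G
  · rw [commutatorElement_def, mem_center_iff.1 h1 g]
    simp
  have h2 := (small_mem hb he).resolve_left h1
  have h3 := (small_mem hb (conj_mem_ZZ hn he)).resolve_left fun k => h1 (conj_mem_center.1 k)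
  have h4 := mul_mem h3 (inv_mem h2)
  rw [show ζ * (g * e * g⁻¹) * (ζ * e)⁻¹ = ζ * ⁅g, e⁆ * ζ⁻¹ by
    rw [commutatorElement_def]; group] at h4
  exact conj_mem_center.1 h4

/-- the decomposition `d = u h` on the line through `Y` and `Y^d` -/
theorem dd {d : G} (hd : d * d ∈ center G) {Y : Subgroup G} (hY : Y ∈ D) (hn : ¬ Y ≤ Ce d) :
    ∃ u ∈ RR D (Y ⊔ cj d Y), u ∉ ZZ D (Y ⊔ cj d Y) ∧
      u⁻¹ * d ∈ centralizer ((Y ⊔ cj d Y : Subgroup G) : Set G) ∧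
      (∀ w ∈ RR D (Y ⊔ cj d Y), Commute w (u⁻¹ * d)) ∧ d * d = u * u * ((u⁻¹ * d) * (u⁻¹ * d)) ∧
      ∀ a ∈ Y, ⁅d, a * d * a⁻¹⁆ = ⁅u, a * u * a⁻¹⁆ := by
  obtain ⟨u, hu, h1, h2⟩ := h.tr d hd Y hY fun e => hn ((h.le_Ce_iff_fix hY).2 e)
  have h3 : ∀ w ∈ RR D (Y ⊔ cj d Y), Commute w (u⁻¹ * d) := fun w hw =>
    h2 w (LL_le _ (RR_le _ hw))
  refine ⟨u, hu, h1, h2, h3, ?_, fun a ha => comm_eq_of_cen (h3 u hu) (h2 a (mem_sup_left ha))⟩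
  calc d * d = u * ((u⁻¹ * d) * u) * (u⁻¹ * d) := by group
    _ = _ := by rw [← (h3 u hu).eq]; group

theorem dd_ne {d : G} (hd : d * d ∈ center G) {Y : Subgroup G} (hY : Y ∈ D) (hn : ¬ Y ≤ Ce d)
    {a : G} (ha : a ∈ Y) (a1 : a ≠ 1) : ⁅d, a * d * a⁻¹⁆ ≠ 1 := by
  obtain ⟨u, hu, h1, -, -, -, h2⟩ := h.dd hd hY hn
  rw [h2 a ha]
  exact h.nc _ (h.sv_pair hY (h.inv Y hY d)) Y hY le_sup_left a ha a1 u hu h1

end Mc

namespace Fx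

variable [Finite G] (h : Fx p D)
include h

/-- a good element fixing a point of a block and normalising it belongs to the block -/
theorem mem_E {ζ ζ' : G} (hζ : Gz D ζ) (hζ' : Gz D ζ') {A : Subgroup G} (hA : A ∈ D)
    (h1 : A ≤ Ce ζ) (h2 : A ≤ Ce ζ') (hn : ζ' ∈ normalizer (Bk D ζ : Set G)) :
    ζ' ∈ Ez D ζ ∧ Bk D ζ' = Bk D ζ := by
  have e := h.toMc.blk_eq hζ hζ'.1 (h.n1 ζ' hζ' _ (Ce_ne_top hζ.1) A hA h1 h2 hn)
  exact ⟨(ZZ_congr e).le (mem_E0 hζ'), e⟩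

theorem fix_le {ζ t : G} (hζ : Gz D ζ) {A : Subgroup G} (hA : A ∈ D) (h1 : A ≤ Ce ζ)
    (t1 : t ∉ center G) (ht : t * t ∈ center G) (h2 : A ≤ Ce t)
    (hn : t ∈ normalizer (Bk D ζ : Set G)) : LL D (Ce t) ≤ Bk D ζ := by
  obtain ⟨e, he, e1, hc⟩ := h.toMc.exists_cz hζ ht hn
  rw [← h.toMc.blk3 hζ he e1]
  exact LL_le_LL (h.n1 e (gz_of_Z he e1) _ (Ce_ne_top t1) A hA h2
    ((h.toMc.le_Ce_of_E hζ he e1 hA).2 h1) (norm_of_cz h.inv (comm_symm_center hc)))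

/-- a good element which commutes with `ζ` only modulo the centre fixes no point of its block -/
theorem no_fix {ζ d : G} (hζ : Gz D ζ) (hd : Gz D d) (hc : ⁅d, ζ⁆ ∈ center G) (h1 : ⁅d, ζ⁆ ≠ 1)
    {A : Subgroup G} (hA : A ∈ D) (h2 : A ≤ Ce ζ) : ¬ A ≤ Ce d := fun k =>
  h1 (commutatorElement_eq_one_iff_commute.2 (Ez_comm
    (h.mem_E hζ hd hA h2 k (norm_of_cz h.inv hc)).1 (mem_Bk hζ)).symm)

end Fx

end Cfsg.Agent.H56.ZC
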