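import Cfsg.Agent.H56.FSN1
import Mathlib.GroupTheory.GroupAction.MultipleTransitivity
import Mathlib.GroupTheory.GroupAction.Primitive

/-!
Primitive groups with a doubly transitive subconstituent: definitions and statements of the steps.
`cj Ce LL RR ZZ Gd Sh` are those of `Cfsg.Agent.H56.FS`.
-/

set_option autoImplicit false

namespace Cfsg.Agent.H56.ZC

open Subgroup Cfsg.Agent.H56.FS
open scoped commutatorElement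

universe u v

section Defs

variable {G : Type*} [Group G]

/-- data common to all classes (`r = 2` allowed) -/
structure Bs2 (p r : ℕ) (D : Set (Subgroup G)) : Prop where
  pp : p.Prime
  p2 : p ≠ 2
  pr : r.Prime
  rp : r ≠ p
  card : ∀ A ∈ D, Nat.card A = p
  inv : ∀ A ∈ D, ∀ g : G, cj g A ∈ D
  line : ∀ A ∈ D, ∀ B ∈ D, ∀ C ∈ D, ∀ E ∈ D, C ≤ A ⊔ B → E ≤ A ⊔ B → C ≠ E → C ⊔ E = A ⊔ B

structure Pr2 (p r : ℕ) (D : Set (Subgroup G)) : Prop extends Bs2 p r D where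
  ppg : ∀ A ∈ D, ∀ B ∈ D, IsPGroup r ↥⁅A ⊔ B, A ⊔ B⁆
  psup : ∀ A ∈ D, ∀ B ∈ D, A ⊔ B = ⁅A ⊔ B, A ⊔ B⁆ ⊔ A
  pflag : (∀ A ∈ D, ∀ B ∈ D, IsMulCommutative ↥⁅A ⊔ B, A ⊔ B⁆) ∨
    (∀ A ∈ D, ∀ B ∈ D, A ≠ B → ¬ IsMulCommutative ↥⁅A ⊔ B, A ⊔ B⁆)

structure Cl2 (p r : ℕ) (D : Set (Subgroup G)) : Prop extends Bs2 p r D, Sh p r D where
  pair : ∀ A ∈ D, ∀ B ∈ D, Group.IsSolvable ↥(A ⊔ B)
  cen : ∀ X : Subgroup G, Group.IsSolvable ↥(LL D X) → ∀ A ∈ D, A ≤ X →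
    RR D X ⊓ centralizer (A : Set G) ≤ centralizer (LL D X : Set G)
  flag : (∀ X : Subgroup G, Group.IsSolvable ↥(LL D X) → ∀ A ∈ D, A ≤ X →
      RR D X ⊓ centralizer (A : Set G) = ⊥) ∨
    (∀ X : Subgroup G, Group.IsSolvable ↥(LL D X) →
      ⁅RR D X, RR D X⁆ ≤ centralizer (LL D X : Set G))

structure Mn2 (p r : ℕ) (D : Set (Subgroup G)) : Prop extends Cl2 p r D where
  gen : sSup D = ⊤
  sol : ∀ X : Subgroup G, X ≠ ⊤ → Group.IsSolvable ↥(LL D X)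
  nsn : ∀ N : Subgroup G, N.Normal → Group.IsSolvable ↥N → N = ⊥
  nsol : ¬ Group.IsSolvable G

/-- `r = 2`, all lines non-abelian and anisotropic, `N(A) = C(A)` -/
structure Cn (p : ℕ) (D : Set (Subgroup G)) : Prop extends Cl2 p 2 D where
  na : ∀ A ∈ D, ∀ B ∈ D, A ≠ B → ¬ IsMulCommutative ↥⁅A ⊔ B, A ⊔ B⁆
  an : ∀ A ∈ D, ∀ B ∈ D, ∀ u ∈ RR D (A ⊔ B), cj u A ≠ A → u * u ≠ 1
  eps : ∀ A ∈ D, normalizer (A : Set G) ≤ centralizer (A : Set G)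

/-- `LL D X` is solvable -/
abbrev Sv (D : Set (Subgroup G)) (X : Subgroup G) : Prop := Group.IsSolvable ↥(LL D X)

/-- `t` is a 2-element -/
def T2 (t : G) : Prop := ∃ k : ℕ, t ^ 2 ^ k = 1

/-- local facts which follow from `Cn`, first part -/
structure Kt1 (D : Set (Subgroup G)) : Prop where
  sq : ∀ X, Sv D X → ∀ u ∈ RR D X, u * u ∈ ZZ D X
  e2 : ∀ X, Sv D X → ∀ e ∈ ZZ D X, e * e = 1
  cm : ∀ X, Sv D X → ∀ u ∈ RR D X, ∀ w ∈ RR D X, ⁅u, w⁆ ∈ ZZ D X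
  mz : ∀ X, Sv D X → ∀ A ∈ D, A ≤ X → ∀ u ∈ RR D X, cj u A = A → u ∈ ZZ D X
  an' : ∀ X, Sv D X → ∀ u ∈ RR D X, u ∉ ZZ D X → u * u ≠ 1
  nc : ∀ X, Sv D X → ∀ A ∈ D, A ≤ X → ∀ a ∈ A, a ≠ 1 → ∀ u ∈ RR D X, u ∉ ZZ D X →
    ⁅u, a * u * a⁻¹⁆ ≠ 1
  ncp : ∀ A ∈ D, ∀ B ∈ D, B ≤ centralizer (A : Set G) → B = A
  fz : ∀ A ∈ D, ∀ g : G, (∀ a ∈ A, ⁅g, a⁆ ∈ center G) → A ≤ Ce g

structure Kt2 (D : Set (Subgroup G)) : Prop where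
  sq2 : ∀ X, Sv D X → ∀ A ∈ D, A ≤ X → ∀ u ∈ RR D X, u * u ∈ ZZ D (A ⊔ cj u A)
  uc : ∀ X, Sv D X → ∀ A ∈ D, A ≤ X → ∀ u ∈ RR D X,
    ZZ D (A ⊔ cj u A) ≤ closure {e | ∃ a ∈ A, e = ⁅u, a * u * a⁻¹⁆}
  uu : ∀ A ∈ D, ∀ B ∈ D, ∀ u ∈ RR D (A ⊔ B), u ∉ ZZ D (A ⊔ B) →
    ZZ D (A ⊔ B) ≤ closure {e | ∃ w ∈ RR D (A ⊔ B), Commute w u ∧ e = w * w}

structure Kt3 (D : Set (Subgroup G)) : Prop where
  tr : ∀ d : G, d * d ∈ center G → ∀ Y ∈ D, cj d Y ≠ Y → ∃ u ∈ RR D (Y ⊔ cj d Y),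
    u ∉ ZZ D (Y ⊔ cj d Y) ∧ u⁻¹ * d ∈ centralizer ((Y ⊔ cj d Y : Subgroup G) : Set G)
  fpf : ∀ A ∈ D, ∀ B ∈ D, ∀ u ∈ RR D (A ⊔ B), ∀ Y ∈ D, cj u Y = Y → u ∈ ZZ D (A ⊔ B)

structure Kt4 (D : Set (Subgroup G)) : Prop where
  t0 : ∀ X, Sv D X → ∀ A ∈ D, A ≤ X → ∀ t : G, T2 t → A ≤ Ce t →
    t ∈ normalizer (LL D X : Set G) → ZZ D X ≤ Ce t → LL D X ≤ Ce t
  t1 : ∀ X, Sv D X → ∀ t ∈ normalizer (LL D X : Set G), ∀ x ∈ RR D X, ∀ y ∈ RR D X,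
    ⁅t, y⁆ ∈ ZZ D X → ⁅x⁻¹ * (t * x * t⁻¹), y⁆ = ⁅t, ⁅x, y⁆⁆
  t2 : ∀ X, Sv D X → ∀ A ∈ D, A ≤ X → ∀ t : G, A ≤ Ce t → t ∈ normalizer (LL D X : Set G) →
    (LL D X ≤ Ce t ↔ ∀ x ∈ RR D X, x⁻¹ * (t * x * t⁻¹) ∈ ZZ D X)

/-- local facts which follow from `Cn` -/
structure Kt (D : Set (Subgroup G)) : Prop extends Kt1 D, Kt2 D, Kt3 D, Kt4 D

/-- a minimal non-solvable member of `Cn` -/
structure Mc (p : ℕ) (D : Set (Subgroup G)) : Prop extends Cn p D, Kt D where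
  gen : sSup D = ⊤
  sol : ∀ X : Subgroup G, X ≠ ⊤ → Sv D X
  nsol : ¬ Group.IsSolvable G

/-- ... whose solvable normal subgroups are central -/
structure Mz (p : ℕ) (D : Set (Subgroup G)) : Prop extends Mc p D where
  cz : ∀ N : Subgroup G, N.Normal → Group.IsSolvable ↥N → N ≤ center G

/-- good elements; the block of `ζ` is `LL D (Ce ζ)` -/
def Gz (D : Set (Subgroup G)) (ζ : G) : Prop := ζ ∉ center G ∧ ζ ∈ RR D (Ce ζ)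

/-- the block of `ζ` -/
abbrev Bk (D : Set (Subgroup G)) (ζ : G) : Subgroup G := LL D (Ce ζ)

/-- the centre of the radical of the block of `ζ` -/
abbrev Ez (D : Set (Subgroup G)) (ζ : G) : Subgroup G := ZZ D (Ce ζ)

/-- `Mz` with the block lemma -/
structure Fx (p : ℕ) (D : Set (Subgroup G)) : Prop extends Mz p D where
  n1 : ∀ ζ : G, Gz D ζ → ∀ X : Subgroup G, X ≠ ⊤ → ∀ A ∈ D, A ≤ X → A ≤ Ce ζ →
    ζ ∈ normalizer (LL D X : Set G) → LL D X ≤ Ce ζ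

/-- `Ez D ζ` has order at least four modulo the centre -/
def Big (D : Set (Subgroup G)) (ζ : G) : Prop :=
  ∃ e ∈ Ez D ζ, e ∉ center G ∧ ζ * e ∉ center G

/-- two blocks meet -/
def Two (D : Set (Subgroup G)) : Prop :=
  ∃ A ∈ D, ∃ ζ₁ ζ₂ : G, Gz D ζ₁ ∧ Gz D ζ₂ ∧ A ≤ Ce ζ₁ ∧ A ≤ Ce ζ₂ ∧ Bk D ζ₁ ≠ Bk D ζ₂

/-- 2-elements normalising a block centralise `Ez` modulo the centre -/
def CE (D : Set (Subgroup G)) : Prop :=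
  ∀ ζ : G, Gz D ζ → ∀ g : G, T2 g → g ∈ normalizer (Bk D ζ : Set G) →
    ∀ e ∈ Ez D ζ, ⁅g, e⁆ ∈ center G

/-- involutions modulo the centre which fix a point of a big block and normalise it -/
def ST (D : Set (Subgroup G)) : Prop :=
  ∀ ζ : G, Gz D ζ → Big D ζ → ∀ A ∈ D, A ≤ Ce ζ → ∀ t : G, t * t ∈ center G → A ≤ Ce t →
    t ∈ normalizer (Bk D ζ : Set G) → ∃ e ∈ Ez D ζ, ∃ z ∈ center G, t = e * z

/-- minimal normal subgroup -/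
def MinN (N : Subgroup G) : Prop :=
  N.Normal ∧ N ≠ ⊥ ∧ ∀ K : Subgroup G, K.Normal → K ≤ N → K = ⊥ ∨ K = N

end Defs

/-! ### the case `r = 2` -/

def Kt1Stmt : Prop :=
  ∀ (G : Type u) [Group G] [Finite G] (p : ℕ) (D : Set (Subgroup G)), Cn p D → Kt1 D

def Kt2Stmt : Prop :=
  ∀ (G : Type u) [Group G] [Finite G] (p : ℕ) (D : Set (Subgroup G)), Cn p D → Kt1 D → Kt2 D

def Kt3Stmt : Prop :=
  ∀ (G : Type u) [Group G] [Finite G] (p : ℕ) (D : Set (Subgroup G)), Cn p D → Kt1 D → Kt2 D →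
    Kt3 D

def Kt4Stmt : Prop :=
  ∀ (G : Type u) [Group G] [Finite G] (p : ℕ) (D : Set (Subgroup G)), Cn p D → Kt1 D → Kt4 D

def LinStmt : Prop :=
  ∀ (U Zt : Type u) [AddCommGroup U] [Finite U] [AddCommGroup Zt] (β : U →+ U →+ Zt)
    (a τ : AddMonoid.End U) (p : ℕ), Odd p → a ^ p = 1 → (∀ x : U, x + x = 0) →
    (∀ x, β x x = 0) → (∀ x y, β (a x) (a y) = β x y) → (∀ x, x ≠ 0 → β x (a x) ≠ 0) →
    (∀ x y, β (τ x) (τ y) = β x y) → (∀ x, τ (a x) = a (τ x)) →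
    (∀ (i : ℕ) (x y : U), β (x + (a ^ i) (τ x) + τ x) (y + (a ^ i) (τ y) + τ y) = β x y) →
    ∀ x, τ x = x

def SubStmt : Prop :=
  ∀ (G : Type u) [Group G] [Finite G] (p : ℕ) (D : Set (Subgroup G)), Mc p D →
    ∀ K : Subgroup G, K.Normal → ¬ Group.IsSolvable ↥K → ∀ A ∈ D, K ⊔ A = ⊤

/-- all points act alike on a minimal non-central normal 2-subgroup -/
def Hol1Stmt : Prop :=
  ∀ (G : Type u) [Group G] [Finite G] (p : ℕ) (D : Set (Subgroup G)), Mc p D →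
    ∀ W : Subgroup G, W.Normal → IsPGroup 2 W → ¬ W ≤ center G →
    (∀ M : Subgroup G, M.Normal → M < W → M ≤ center G) →
    ∀ A ∈ D, ∀ a ∈ A, ∀ g : G, ∀ w ∈ W, ⁅g * a * g⁻¹ * a⁻¹, w⁆ ∈ center G

def HolStmt : Prop :=
  ∀ (G : Type u) [Group G] [Finite G] (p : ℕ) (D : Set (Subgroup G)), Mc p D →
    ∀ W : Subgroup G, W.Normal → IsPGroup 2 W → W ≤ center G

def RadStmt : Prop :=
  ∀ (G : Type u) [Group G] [Finite G] (p : ℕ) (D : Set (Subgroup G)), Mc p D → Mz p D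

def N1gStmt : Prop :=
  ∀ (G : Type u) [Group G] [Finite G] (p : ℕ) (D : Set (Subgroup G)), Mz p D → Fx p D

def OdStmt : Prop :=
  ∀ (G : Type u) [Group G] [Finite G] (p : ℕ) (D : Set (Subgroup G)), Fx p D →
    ∀ ζ₁ ζ₂ : G, Gz D ζ₁ → Gz D ζ₂ → ∀ A ∈ D, A ≤ Ce ζ₁ → A ≤ Ce ζ₂ → Bk D ζ₁ ≠ Bk D ζ₂ →
    ∃ g ∈ closure ({ζ₁, ζ₂} : Set G), ∃ z ∈ center G, g * ζ₁ * g⁻¹ = ζ₂ * z

def LStmt : Prop :=
  ∀ (G : Type u) [Group G] [Finite G] (p : ℕ) (D : Set (Subgroup G)), Fx p D →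
    ∀ ζ₁ ζ₂ : G, Gz D ζ₁ → Gz D ζ₂ → ∀ A ∈ D, A ≤ Ce ζ₁ → A ≤ Ce ζ₂ → Bk D ζ₁ ≠ Bk D ζ₂ →
    Big D ζ₁ → ∀ t : G, t ∉ center G → t * t ∈ center G → A ≤ Ce t →
    t ∈ normalizer (Bk D ζ₁ : Set G) → t ∈ normalizer (Bk D ζ₂ : Set G) → False

def SeStmt : Prop :=
  ∀ (G : Type u) [Group G] [Finite G] (p : ℕ) (D : Set (Subgroup G)), Fx p D → Two D →
    CE D ∧ ST D

def CpStmt : Prop :=
  ∀ (G : Type u) [Group G] [Finite G] (p : ℕ) (D : Set (Subgroup G)), Fx p D → CE D →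
    ∀ ζ : G, Gz D ζ → ∃ d : G, Gz D d ∧ ∃ Y ∈ D, ¬ Y ≤ Ce d ∧
      ∀ a ∈ Y, ⁅d, a * d * a⁻¹⁆ ∈ center G

def C2Stmt : Prop :=
  ∀ (G : Type u) [Group G] [Finite G] (p : ℕ) (D : Set (Subgroup G)), Fx p D → CE D → ST D →
    ∀ d : G, Gz D d → Big D d → ∀ Y ∈ D, ¬ Y ≤ Ce d → ∀ a ∈ Y, a ≠ 1 →
      ⁅d, a * d * a⁻¹⁆ ∈ center G → False

def C1aStmt : Prop :=
  ∀ (G : Type u) [Group G] [Finite G] (p : ℕ) (D : Set (Subgroup G)), Fx p D →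
    ∀ d : G, Gz D d → ¬ Big D d → ∀ m₁ ∈ normalizer (Bk D d : Set G),
      ∀ m₂ ∈ normalizer (Bk D d : Set G), ⁅m₁, d⁆ ≠ 1 → ⁅m₂, d⁆ ≠ 1 → ⁅m₁, d⁆ = ⁅m₂, d⁆

def C1bStmt : Prop :=
  ∀ (G : Type u) [Group G] [Finite G] (p : ℕ) (D : Set (Subgroup G)), Fx p D →
    ∀ d : G, Gz D d → ¬ Big D d → ∀ Y ∈ D, ¬ Y ≤ Ce d → ∀ a ∈ Y, a ≠ 1 →
      ⁅d, a * d * a⁻¹⁆ ∈ center G → False

def UbStmt : Prop :=
  ∀ (G : Type u) [Group G] [Finite G] (p : ℕ) (D : Set (Subgroup G)), Fx p D → ¬ Two D →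
    ∀ d : G, Gz D d → False

def EcStmt : Prop :=
  ∀ (G : Type u) [Group G] [Finite G] (p r : ℕ) (D : Set (Subgroup G)), Cl2 p r D → sSup D = ⊤ →
    (∀ A ∈ D, ∀ B ∈ D, RR D (A ⊔ B) ⊓ centralizer (A : Set G) ≤ center G) → Group.IsSolvable G

/-- the case `r = 2`, non-abelian lines -/
def NaStmt : Prop :=
  ∀ (G : Type u) [Group G] [Finite G] (p : ℕ) (D : Set (Subgroup G)), Cn p D → sSup D = ⊤ →
    Group.IsSolvable G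

/-! ### doubly transitive groups -/

def ZtStmt : Prop :=
  ∀ (G : Type u) [Group G] [Finite G] (p : ℕ), p.Prime → p ≠ 2 → ∀ D : Set (Subgroup G),
    (∀ A ∈ D, Nat.card A = p) → (∀ A ∈ D, ∀ g : G, cj g A ∈ D) → sSup D = ⊤ →
    (∀ A ∈ D, normalizer (A : Set G) ≤ centralizer (A : Set G)) →
    (∀ A ∈ D, ∀ B ∈ D, Group.IsSolvable ↥(A ⊔ B)) →
    (∀ A ∈ D, ∀ B ∈ D, ∀ A' ∈ D, ∀ B' ∈ D, A ≠ B → A' ≠ B' → ∃ φ : G ≃* G,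
      A.map φ.toMonoidHom = A' ∧ B.map φ.toMonoidHom = B') → Group.IsSolvable G

def LineStmt : Prop :=
  ∀ (H : Type u) [Group H] [Finite H] (N : Subgroup H), N.Normal → ∀ (p : ℕ), p.Prime →
    ∀ S : Set (Subgroup H), (∀ W ∈ S, ∀ g : H, cj g W ∈ S) → (∀ W ∈ S, W ≤ N) →
    (∀ W ∈ S, W ≠ ⊥) → (∀ W ∈ S, ∀ x ∈ W, x ^ p = 1) →
    (∀ W ∈ S, W ≤ centralizer (W : Set H)) →
    (∀ W ∈ S, N ⊓ normalizer (W : Set H) ≤ centralizer (W : Set H)) →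
    (∀ W ∈ S, ∀ W' ∈ S, W ≠ W' → W ⊓ normalizer (W' : Set H) = ⊥) →
    (∀ A ∈ S, ∀ B ∈ S, ∀ A' ∈ S, ∀ B' ∈ S, A ≠ B → A' ≠ B' → ∃ g : H, cj g A = A' ∧ cj g B = B') →
    ∀ W ∈ S, ∀ W' ∈ S, W ≠ W' → Nat.card W = p ∧ Group.IsSolvable ↥(W ⊔ W')

def Zc1aStmt : Prop :=
  ∀ (H : Type u) [Group H] [Finite H] (Γ : Type v) [Finite Γ] [Nontrivial Γ] [MulAction H Γ],
    MulAction.IsMultiplyPretransitive H Γ 2 → ∀ (b : Γ) (N R : Subgroup H), MinN N →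
    ¬ IsMulCommutative N → R ≤ N → R ≠ ⊥ → MulAction.stabilizer H b ≤ normalizer (R : Set H) →
    N ⊓ MulAction.stabilizer H b = N ⊓ centralizer (R : Set H) →
    ∃ (p : ℕ) (W : Subgroup H), p.Prime ∧ W ≠ ⊥ ∧ W ≤ N ∧ (∀ x ∈ W, x ^ p = 1) ∧
      W ≤ MulAction.stabilizer H b ∧ MulAction.stabilizer H b ≤ normalizer (W : Set H) ∧
      ∀ z ∈ W, z ≠ 1 → N ⊓ Ce z = N ⊓ MulAction.stabilizer H b

def Zc1bStmt : Prop :=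
  ∀ (H : Type u) [Group H] [Finite H] (Γ : Type v) [Finite Γ] [Nontrivial Γ] [MulAction H Γ],
    MulAction.IsMultiplyPretransitive H Γ 2 → ∀ (b : Γ) (N : Subgroup H), MinN N →
    ¬ IsMulCommutative N → ∀ (p : ℕ) (W : Subgroup H), p.Prime → W ≠ ⊥ → W ≤ N →
    (∀ x ∈ W, x ^ p = 1) → W ≤ MulAction.stabilizer H b →
    MulAction.stabilizer H b ≤ normalizer (W : Set H) →
    (∀ z ∈ W, z ≠ 1 → N ⊓ Ce z = N ⊓ MulAction.stabilizer H b) → False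

def Zc1Stmt : Prop :=
  ∀ (H : Type u) [Group H] [Finite H] (Γ : Type v) [Finite Γ] [Nontrivial Γ] [MulAction H Γ],
    MulAction.IsMultiplyPretransitive H Γ 2 → ∀ (b : Γ) (N R : Subgroup H), MinN N →
    ¬ IsMulCommutative N → R ≤ N → R ≠ ⊥ → MulAction.stabilizer H b ≤ normalizer (R : Set H) →
    N ⊓ MulAction.stabilizer H b = N ⊓ centralizer (R : Set H) → False

/-! ### primitive groups -/

/-- the hypotheses of the theorem -/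
structure Pm (G : Type u) (Ω : Type v) [Group G] [MulAction G Ω] (α β : Ω) : Prop where
  fa : FaithfulSMul G Ω
  prim : MulAction.IsPreprimitive G Ω
  ne : β ≠ α
  two : 2 ≤ Nat.card ↥(MulAction.orbit ↥(MulAction.stabilizer G α) β)
  tr2 : MulAction.IsMultiplyPretransitive ↥(MulAction.stabilizer G α)
    ↥(MulAction.orbit ↥(MulAction.stabilizer G α) β) 2

def HamStmt : Prop :=
  ∀ (G : Type u) (Ω : Type v) [Group G] [Finite G] [MulAction G Ω] [Finite Ω] (α β : Ω),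
    Pm G Ω α β → ∀ N : Subgroup G, MinN N → N ⊓ MulAction.stabilizer G α ≠ ⊥ →
    ∀ (m : ℕ) (M : Fin m → Subgroup G), (∀ i, M i ≤ N) → (∀ i, N ≤ normalizer (M i : Set G)) →
    (∀ i, M i ≠ N) → (∀ h ∈ MulAction.stabilizer G α, ∀ i, ∃ j, cj h (M i) = M j) →
    N ⊓ MulAction.stabilizer G α ≤ ⨆ i, M i ⊓ MulAction.stabilizer G α →
    (∀ i j k, M i ≠ M j → ∀ x ∈ M i, ∀ y ∈ M j, ∀ w ∈ M k,
      w⁻¹ * (x * y) ∈ MulAction.stabilizer G α →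
      x ∈ MulAction.stabilizer G α ∨ y ∈ MulAction.stabilizer G α) → False

def PaStmt : Prop :=
  ∀ (G : Type u) (Ω : Type v) [Group G] [Finite G] [MulAction G Ω] [Finite Ω] (α β : Ω),
    Pm G Ω α β → ∀ N : Subgroup G, MinN N → N ⊓ MulAction.stabilizer G α ≠ ⊥ →
    ∀ (T : Type) [Group T] [IsSimpleGroup T], ¬ IsMulCommutative T → ∀ (m : ℕ), 2 ≤ m →
    ∀ (e : N ≃* (Fin m → T)) (K : Fin m → Subgroup T),
    (∀ n : N, (n : G) ∈ MulAction.stabilizer G α ↔ ∀ i, e n i ∈ K i) → False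

def CdStmt : Prop :=
  ∀ (G : Type u) (Ω : Type v) [Group G] [Finite G] [MulAction G Ω] [Finite Ω] (α β : Ω),
    Pm G Ω α β → ∀ N : Subgroup G, MinN N →
    ∀ (T : Type) [Group T] [IsSimpleGroup T], ¬ IsMulCommutative T → ∀ (m : ℕ)
      (e : N ≃* (Fin m → T)) (c : Fin m → Fin m), (∃ i j, c i ≠ c j) →
    (∀ n : N, (n : G) ∈ MulAction.stabilizer G α ↔ ∀ i j, c i = c j → e n i = e n j) → False

def SdStmt : Prop :=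
  ∀ (G : Type u) (Ω : Type v) [Group G] [Finite G] [MulAction G Ω] [Finite Ω] (α β : Ω),
    Pm G Ω α β → ∀ N : Subgroup G, MinN N →
    ∀ (T : Type) [Group T] [IsSimpleGroup T], ¬ IsMulCommutative T → ∀ (m : ℕ)
      (e : N ≃* (Fin m → T)),
    (∀ n : N, (n : G) ∈ MulAction.stabilizer G α ↔ ∀ i j, e n i = e n j) → False

def HsStmt : Prop :=
  ∀ (G : Type u) (Ω : Type v) [Group G] [Finite G] [MulAction G Ω] [Finite Ω] (α β : Ω),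
    Pm G Ω α β → ∀ A B : Subgroup G, MinN A → MinN B → A = B

end Cfsg.Agent.H56.ZC
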