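import Cfsg.Agent.H56.ZCKit

/-!
The block lemma without the condition `r ≠ 2`.
-/

set_option autoImplicit false

namespace Cfsg.Agent.H56.ZC

open Subgroup Cfsg.Agent.H56.FS

variable {G : Type*} [Group G] {p r : ℕ} {D : Set (Subgroup G)}

namespace Mn2

variable [Finite G] (h : Mn2 p r D)
include h

theorem pgR {X : Subgroup G} (hX : X ≠ ⊤) : IsPGroup r (RR D X) := h.pg X (h.sol X hX)

theorem mem_Z {X A : Subgroup G} (hX : X ≠ ⊤) (hA : A ∈ D) (hAX : A ≤ X) {u : G} (hu : u ∈ RR D X)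
    (e : cj u A = A) : u ∈ ZZ D X := ⟨hu, h.toCl2.norm_cen' (h.sol X hX) hA hAX hu e⟩

theorem blk2 {ζ : G} (hζ : Gd D ζ) {X : Subgroup G} (hX : X ≠ ⊤) (hle : LL D (Ce ζ) ≤ X) :
    LL D X ≤ Ce ζ := by
  obtain ⟨A, hA, hAζ⟩ := hζ.exists_pt
  exact LL_le_Ce_of_Z (h.mem_Z hX hA ((le_LL hA hAζ).trans hle) (RR_le_RR hle hζ.2)
    (cj_of_cent (le_Ce_iff.1 hAζ)))

theorem blk3 {ζ w : G} (hζ : Gd D ζ) (hw : w ∈ ZZ D (Ce ζ)) (w1 : w ≠ 1) :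
    LL D (Ce w) = LL D (Ce ζ) :=
  le_antisymm (LL_le_LL (h.blk2 hζ (h.Ce_ne_top w1) (LL_le_Ce_of_Z hw)))
    (LL_le_LL (LL_le_Ce_of_Z hw))

theorem na_of_gd {ζ : G} (hζ : Gd D ζ) {X : Subgroup G} (hX : X ≠ ⊤) :
    ⁅RR D X, RR D X⁆ ≤ ZZ D X := by
  rcases h.flag with hf | hf
  · obtain ⟨A, hA, hAζ⟩ := hζ.exists_pt
    have := hf _ (h.sol _ (h.Ce_ne_top hζ.1)) A hA hAζ
    exact (hζ.1 (mem_bot.1 (this ▸ (mem_inf.2 ⟨hζ.2, le_Ce_iff.1 hAζ⟩)))).elim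
  · exact le_inf (commutator_le_self _) (hf X (h.sol X hX))

theorem cm_mem_Z {ζ : G} (hζ : Gd D ζ) {X : Subgroup G} (hX : X ≠ ⊤) {x y : G} (hx : x ∈ RR D X)
    (hy : y ∈ RR D X) : x * y * x⁻¹ * y⁻¹ ∈ ZZ D X :=
  h.na_of_gd hζ hX (commutator_mem_commutator hx hy)

theorem Z_disj {ζ ζ' : G} (hζ : Gd D ζ) (hζ' : Gd D ζ') (hne : ¬ LL D (Ce ζ) ≤ Ce ζ') {w : G}
    (h1 : w ∈ ZZ D (Ce ζ)) (h2 : w ∈ ZZ D (Ce ζ')) : w = 1 := by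
  by_contra w1
  exact hne ((h.blk3 hζ h1 w1).symm.trans (h.blk3 hζ' h2 w1) ▸ LL_le _)

theorem R0_comm {ζ ζ' : G} (hζ : Gd D ζ) (hζ' : Gd D ζ') (hne : ¬ LL D (Ce ζ) ≤ Ce ζ') {x y : G}
    (hx : x ∈ RR D (Ce ζ ⊓ Ce ζ')) (hy : y ∈ RR D (Ce ζ ⊓ Ce ζ')) : x * y = y * x := by
  have := h.Z_disj hζ hζ' hne
    (h.cm_mem_Z hζ (h.Ce_ne_top hζ.1) (RR_mono inf_le_left hx) (RR_mono inf_le_left hy))
    (h.cm_mem_Z hζ (h.Ce_ne_top hζ'.1) (RR_mono inf_le_right hx) (RR_mono inf_le_right hy))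
  calc x * y = (x * y * x⁻¹ * y⁻¹) * (y * x) := by group
    _ = y * x := by rw [this, one_mul]

theorem step {ζ ζ' : G} (hζ : Gd D ζ) (hζ' : Gd D ζ') (hc : ζ' ∈ Ce ζ)
    (hne : ¬ LL D (Ce ζ) ≤ Ce ζ') {A : Subgroup G} (hA : A ∈ D) (h1 : A ≤ Ce ζ) (h2 : A ≤ Ce ζ')
    {I : Subgroup G} (hI : I = RR D (Ce ζ ⊓ Ce ζ') ⊔ ZZ D (Ce ζ) ⊓ Ce ζ' ⊔ ZZ D (Ce ζ') ⊓ Ce ζ) :
    A ≤ normalizer (I : Set G) ∧
      ∃ A1 ∈ D, A1 ≤ normalizer (I : Set G) ∧ A1 ≤ Ce ζ ∧ ¬ A1 ≤ Ce ζ' := by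
  have := Fact.mk h.pr
  have tζ := h.Ce_ne_top hζ.1
  have tζ' := h.Ce_ne_top hζ'.1
  have t0 : Ce ζ ⊓ Ce ζ' ≠ ⊤ := fun e => tζ (top_le_iff.1 (e.ge.trans inf_le_left))
  set R0 := RR D (Ce ζ ⊓ Ce ζ') with hR0
  set Z := ZZ D (Ce ζ) with hZ
  set Z' := ZZ D (Ce ζ') with hZ'
  have R0B : R0 ≤ RR D (Ce ζ) := RR_mono inf_le_left
  have R0L : R0 ≤ LL D (Ce ζ) := R0B.trans (RR_le _)
  have R0L' : R0 ≤ LL D (Ce ζ') := (RR_mono inf_le_right).trans (RR_le _)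
  have AL : A ≤ LL D (Ce ζ) := le_LL hA h1
  have AL' : A ≤ LL D (Ce ζ') := le_LL hA h2
  have AR0 : A ≤ normalizer (R0 : Set G) := (le_LL hA (le_inf h1 h2)).trans (LL_le_norm_RR _)
  have ZR0 : Z ≤ normalizer (R0 : Set G) := fun z hz =>
    centralizer_le_normalizer _ fun x hx => ZZ_comm hz (R0L hx)
  have AI : A ≤ normalizer (I : Set G) := by
    rw [hI]
    refine H4.le_normalizer_sup (H4.le_normalizer_sup AR0 fun a ha => ?_) fun a ha => ?_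
    · exact centralizer_le_normalizer _ fun x hx => (ZZ_comm hx.1 (AL ha)).symm
    · exact centralizer_le_normalizer _ fun x hx => (ZZ_comm hx.1 (AL' ha)).symm
  refine ⟨AI, ?_⟩
  have hK : ¬ RR D (Ce ζ) ≤ R0 ⊔ Z := fun hle => hne (LL_le_of fun B hB hBζ => by
    obtain ⟨u, hu, e⟩ := h.toCl2.conj_pt (h.sol _ tζ) hA h1 hB hBζ
    obtain ⟨w, hw, z, hz, rfl⟩ := mem_sup_of_norm ZR0 (hle hu)
    rw [e, ← cj_cj, cj_of_cent (g := z) fun x hx => ZZ_comm hz (AL hx)]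
    exact cj_le_of_mem (LL_le _ (R0L' hw)) h2)
  obtain ⟨u, hu, huK, hη⟩ := grow (P := Z' ⊓ Ce ζ)
    ((h.pgR tζ').to_le (inf_le_left.trans (ZZ_le_RR _))) (h.pgR tζ)
    (fun g hg => norm_RR _ (mem_norm_LL_Ce h.inv hg.2)) hK
  have uL : u ∈ LL D (Ce ζ) := RR_le _ hu
  -- elements like `u` normalise `R0 ⊔ C`
  have key : ∀ u' ∈ RR D (Ce ζ), ζ' * u' * ζ'⁻¹ * u'⁻¹ ∈ R0 ⊔ Z →
      u' ∈ normalizer ((R0 ⊔ Z ⊓ Ce ζ' : Subgroup G) : Set G) := fun u' hu' hk => by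
    refine norm_of_le ?_
    rw [cj_sup]
    refine sup_le (cj_le_iff.2 fun x hx => ?_) (cj_le_iff.2 fun x hx => ?_)
    · obtain ⟨w, hw, z, hz, e⟩ := mem_sup_of_norm ZR0 hk
      have hc1 : u' * x * u'⁻¹ * x⁻¹ ∈ Z := h.cm_mem_Z hζ tζ hu' (R0B hx)
      have e1 : ζ' * u' * ζ'⁻¹ = w * z * u' := by rw [← e]; group
      have e2 : x * ζ' = ζ' * x := mem_Ce.1 (LL_le _ (R0L' hx))
      have e3 : (u' * x * u'⁻¹) * z = z * (u' * x * u'⁻¹) := ZZ_comm hz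
        (mul_mem (mul_mem (RR_le _ hu') (R0L hx)) (inv_mem (RR_le _ hu')))
      have e4 : w * (u' * x * u'⁻¹ * x⁻¹) = (u' * x * u'⁻¹ * x⁻¹) * w := ZZ_comm hc1 (R0L hw)
      have e5 : w * x = x * w := h.R0_comm hζ hζ' hne hw hx
      have hc2 : u' * x * u'⁻¹ * x⁻¹ ∈ Ce ζ' := by
        rw [mem_Ce]
        have : ζ' * (u' * x * u'⁻¹ * x⁻¹) * ζ'⁻¹ = u' * x * u'⁻¹ * x⁻¹ := by
          calc ζ' * (u' * x * u'⁻¹ * x⁻¹) * ζ'⁻¹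
              = (ζ' * u' * ζ'⁻¹) * (ζ' * x * ζ'⁻¹) * (ζ' * u' * ζ'⁻¹)⁻¹ * (ζ' * x * ζ'⁻¹)⁻¹ := by group
            _ = w * (z * (u' * x * u'⁻¹)) * z⁻¹ * w⁻¹ * x⁻¹ := by rw [e1, ← e2]; group
            _ = w * (u' * x * u'⁻¹ * x⁻¹) * (x * w⁻¹ * x⁻¹) := by rw [← e3]; group
            _ = (u' * x * u'⁻¹ * x⁻¹) * ((w * x) * w⁻¹ * x⁻¹) := by rw [e4]; group
            _ = _ := by rw [e5]; group
        calc _ = ζ' * (u' * x * u'⁻¹ * x⁻¹) * ζ'⁻¹ * ζ' := by rw [this]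
          _ = _ := by group
      have : u' * x * u'⁻¹ = (u' * x * u'⁻¹ * x⁻¹) * x := by group
      rw [this]
      exact mul_mem (mem_sup_right (mem_inf.2 ⟨hc1, hc2⟩)) (mem_sup_left hx)
    · rw [ZZ_comm hx.1 (RR_le _ hu'), mul_inv_cancel_right]
      exact mem_sup_right hx
  have ζ'm : ζ' ∈ Z' ⊓ Ce ζ := ⟨hζ'.mem_Z, hc⟩
  refine ⟨cj u A, h.inv A hA u, cj_le_iff.2 fun a ha => ?_, cj_le_of_mem (LL_le _ uL) h1,
    fun hle => huK ?_⟩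
  · have aK : a ∈ normalizer ((R0 ⊔ Z : Subgroup G) : Set G) :=
      H4.le_normalizer_sup AR0 ((le_normalizer.trans (norm_ZZ _)).trans' AL) ha
    have n1 := key u hu (hη _ ζ'm)
    have n2 := key (a * u * a⁻¹) ((mem_normalizer_iff.1 (LL_le_norm_RR _ (AL ha)) u).1 hu) (by
      have := (mem_normalizer_iff.1 aK _).1 (hη _ ζ'm)
      have e : a * ζ' = ζ' * a := mem_Ce.1 (h2 ha)
      have e' : ζ' * (a * u * a⁻¹) * ζ'⁻¹ * (a * u * a⁻¹)⁻¹ =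
          a * (ζ' * u * ζ'⁻¹ * u⁻¹) * a⁻¹ := by
        calc _ = (ζ' * a) * u * (ζ' * a)⁻¹ * a * u⁻¹ * a⁻¹ := by group
          _ = _ := by rw [← e]; group
      rwa [e'])
    have n3 := inv_mem (mul_mem n1 (inv_mem n2))
    set y := u * (a * u * a⁻¹)⁻¹ with hy
    have yI : y⁻¹ ∈ normalizer (I : Set G) := by
      refine norm_of_le ?_
      rw [hI, cj_sup]
      refine sup_le ((cj_eq_iff.2 n3).le.trans le_sup_left) (cj_le_iff.2 fun η hη' => ?_)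
      obtain ⟨w, hw, z, hz, e⟩ := mem_sup_of_norm ZR0 (hη η hη')
      have e1 : η * u * η⁻¹ = w * z * u := by rw [← e]; group
      have e2 : a * η = η * a := ZZ_comm hη'.1 (AL' ha)
      have e3 : (u * a * u⁻¹) * z = z * (u * a * u⁻¹) := ZZ_comm hz
        (mul_mem (mul_mem uL (AL ha)) (inv_mem uL))
      have e4 : η * y * η⁻¹ = w * y * (a * w * a⁻¹)⁻¹ := by
        calc η * y * η⁻¹ = (η * u * η⁻¹) * (η * a * η⁻¹) * (η * u * η⁻¹)⁻¹ * (η * a * η⁻¹)⁻¹ := by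
              rw [hy]; group
          _ = w * (z * (u * a * u⁻¹)) * z⁻¹ * w⁻¹ * a⁻¹ := by rw [e1, ← e2]; group
          _ = _ := by rw [← e3, hy]; group
      have e5 : y⁻¹ * η * y⁻¹⁻¹ = (y⁻¹ * w * y⁻¹⁻¹) * (a * w * a⁻¹)⁻¹ * η := by
        calc y⁻¹ * η * y⁻¹⁻¹ = y⁻¹ * (η * y * η⁻¹) * η := by group
          _ = _ := by rw [e4]; group
      rw [e5]
      refine mul_mem (mem_sup_left (mul_mem ?_ (inv_mem (mem_sup_left ?_)))) (mem_sup_right hη')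
      · exact (mem_normalizer_iff.1 n3 w).1 (mem_sup_left hw)
      · exact (mem_normalizer_iff.1 (AR0 ha) w).1 hw
    have : u * a * u⁻¹ = y⁻¹⁻¹ * a := by rw [hy]; group
    rw [this]
    exact mul_mem (inv_mem yI) (AI ha)
  · obtain ⟨w, hw, e⟩ := h.toCl2.conj_pt (h.sol _ t0) hA (le_inf h1 h2) (h.inv A hA u)
      (le_inf (cj_le_of_mem (LL_le _ uL) h1) hle)
    have : w⁻¹ * u ∈ Z := h.mem_Z tζ hA h1 (mul_mem (inv_mem (R0B hw)) hu)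
      (by rw [← cj_cj, e, cj_inv_cj])
    have e' : u = w * (w⁻¹ * u) := by group
    rw [e']
    exact mul_mem (mem_sup_left hw) (mem_sup_right this)

theorem I_comm {ζ ζ' : G} (hζ : Gd D ζ) (hζ' : Gd D ζ') (hne : ¬ LL D (Ce ζ) ≤ Ce ζ')
    {I : Subgroup G} (hI : I = RR D (Ce ζ ⊓ Ce ζ') ⊔ ZZ D (Ce ζ) ⊓ Ce ζ' ⊔ ZZ D (Ce ζ') ⊓ Ce ζ) :
    I ≤ centralizer (I : Set G) := by
  have R0L : RR D (Ce ζ ⊓ Ce ζ') ≤ LL D (Ce ζ) := (RR_mono inf_le_left).trans (RR_le _)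
  have R0L' : RR D (Ce ζ ⊓ Ce ζ') ≤ LL D (Ce ζ') := (RR_mono inf_le_right).trans (RR_le _)
  have cc : ∀ c ∈ ZZ D (Ce ζ) ⊓ Ce ζ', ∀ d ∈ ZZ D (Ce ζ') ⊓ Ce ζ, c * d = d * c := fun c hc d hd => by
    have := h.Z_disj hζ hζ' hne (w := c * d * c⁻¹ * d⁻¹) (by
      have := (mem_normalizer_iff.1 (norm_ZZ _ (mem_norm_LL_Ce h.inv hd.2)) _).1 (inv_mem hc.1)
      simpa [mul_assoc] using mul_mem hc.1 this)
      (mul_mem ((mem_normalizer_iff.1 (norm_ZZ _ (mem_norm_LL_Ce h.inv hc.2)) _).1 hd.1)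
        (inv_mem hd.1))
    calc c * d = (c * d * c⁻¹ * d⁻¹) * (d * c) := by group
      _ = d * c := by rw [this, one_mul]
  rw [hI]
  refine sup_le (sup_le ?_ ?_) ?_ <;> rw [le_centralizer_iff] <;> refine sup_le (sup_le ?_ ?_) ?_ <;>
    intro x hx y hy
  · exact h.R0_comm hζ hζ' hne hy hx
  · exact ZZ_comm hx.1 (R0L hy)
  · exact ZZ_comm hx.1 (R0L' hy)
  · exact (ZZ_comm hy.1 (R0L hx)).symm
  · exact ZZ_comm hx.1 (RR_le _ hy.1.1)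
  · exact cc y hy x hx
  · exact (ZZ_comm hy.1 (R0L' hx)).symm
  · exact (cc x hx y hy).symm
  · exact ZZ_comm hx.1 (RR_le _ hy.1.1)

omit h in
theorem solv_of_comm {I : Subgroup G} (hI : I ≤ centralizer (I : Set G)) : Group.IsSolvable I := by
  have : IsMulCommutative I := ⟨⟨fun a b => Subtype.ext (hI b.2 a a.2)⟩⟩
  exact H4.isSolvable_of_isMulCommutative I

theorem pg_zp {ζ : G} (hζ : Gd D ζ) : IsPGroup r (zpowers ζ) :=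
  (h.pgR (h.Ce_ne_top hζ.1)).to_le (zpowers_le.2 hζ.2)

theorem case1 {L0 : Subgroup G}
    (ih : ∀ ζ : G, Gd D ζ → ∀ X : Subgroup G, X ≠ ⊤ → ∀ A ∈ D, A ≤ X → A ≤ Ce ζ →
      ζ ∈ normalizer (LL D X : Set G) → L0 < LL D (X ⊓ Ce ζ) → LL D X ≤ Ce ζ)
    {ζ : G} (hζ : Gd D ζ) {X : Subgroup G} (hX : X ≠ ⊤) {A : Subgroup G} (hA : A ∈ D) (hAX : A ≤ X)
    (h1 : A ≤ Ce ζ) (hn : ζ ∈ normalizer (LL D X : Set G)) (hL : L0 ≤ LL D (X ⊓ Ce ζ))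
    (hZ : ZZ D X ≠ ⊥) : LL D X ≤ Ce ζ := by
  have := Fact.mk h.pr
  by_contra hcon
  obtain ⟨ζ', hz, z1, hc⟩ := grow_bot (h.pg_zp hζ) ((h.pgR hX).to_le (ZZ_le_RR X)) (norm_ZZ X hn) hZ
  have hζ' := gd_of_Z hz z1
  have XL : LL D X ≤ Ce ζ' := LL_le_Ce_of_Z hz
  have h2 : A ≤ Ce ζ' := (le_LL hA hAX).trans XL
  have hne' : ¬ LL D (Ce ζ') ≤ Ce ζ := fun e => hcon ((LL_le_LL XL).trans e)
  have hne : ¬ LL D (Ce ζ) ≤ Ce ζ' := fun e => hne' (h.blk2 hζ (h.Ce_ne_top z1) e)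
  obtain ⟨AI, A1, hA1, n1, c1, c1'⟩ := h.step hζ hζ' hc hne hA h1 h2 rfl
  set I := RR D (Ce ζ ⊓ Ce ζ') ⊔ ZZ D (Ce ζ) ⊓ Ce ζ' ⊔ ZZ D (Ce ζ') ⊓ Ce ζ with hI
  obtain ⟨-, A2, hA2, n2, -, c2'⟩ := h.step hζ' hζ (Ce_symm hc) hne' hA h2 h1 (I := I)
    (by rw [hI, inf_comm (Ce ζ'), sup_right_comm])
  have ζI : ζ ∈ I := mem_sup_left (mem_sup_right (mem_inf.2 ⟨hζ.mem_Z, Ce_symm hc⟩))
  have tI : normalizer (I : Set G) ≠ ⊤ := h.norm_ne_top (fun e => hζ.1 (mem_bot.1 (e ▸ ζI)))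
    (solv_of_comm (h.I_comm hζ hζ' hne hI))
  have t0 : Ce ζ ⊓ Ce ζ' ≠ ⊤ := fun e => h.Ce_ne_top hζ.1 (top_le_iff.1 (e.ge.trans inf_le_left))
  have l1 : LL D (X ⊓ Ce ζ) ≤ LL D (Ce ζ ⊓ Ce ζ') :=
    LL_le_LL (le_inf ((LL_le _).trans inf_le_right) ((LL_mono inf_le_left).trans XL))
  have l2 : LL D (Ce ζ ⊓ Ce ζ') ≤ LL D (normalizer (I : Set G) ⊓ Ce ζ) := by
    refine LL_le_LL (le_inf ?_ ((LL_le _).trans inf_le_left))
    rw [h.sup _ (h.sol _ t0) A hA (le_inf h1 h2)]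
    exact sup_le ((le_sup_left.trans le_sup_left).trans le_normalizer) AI
  refine c2' ((le_LL hA2 n2).trans (ih ζ hζ _ tI A hA AI h1
    (norm_LL h.inv _ (le_normalizer (le_normalizer ζI))) (lt_of_le_of_lt (hL.trans l1) ?_)))
  refine lt_of_le_of_ne l2 fun e => c1' ?_
  exact ((le_LL hA1 (le_inf n1 c1)).trans e.ge).trans ((LL_le _).trans inf_le_right)

theorem R_comm {ζ : G} (hζ : Gd D ζ) {X : Subgroup G} (hX : X ≠ ⊤) (hZ : ZZ D X = ⊥) :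
    RR D X ≤ centralizer (RR D X : Set G) := fun x hx y hy => by
  have := h.cm_mem_Z hζ hX hy hx
  rw [hZ, mem_bot] at this
  calc y * x = (y * x * y⁻¹ * x⁻¹) * (x * y) := by group
    _ = x * y := by rw [this, one_mul]

theorem n1_aux (L0 : Subgroup G) : ∀ ζ : G, Gd D ζ → ∀ X : Subgroup G, X ≠ ⊤ → ∀ A ∈ D, A ≤ X →
    A ≤ Ce ζ → ζ ∈ normalizer (LL D X : Set G) → L0 = LL D (X ⊓ Ce ζ) → LL D X ≤ Ce ζ := by
  have := Fact.mk h.pr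
  induction L0 using WellFoundedGT.induction with
  | ind L0 ih0 =>
  have ih : ∀ ζ : G, Gd D ζ → ∀ X : Subgroup G, X ≠ ⊤ → ∀ A ∈ D, A ≤ X → A ≤ Ce ζ →
      ζ ∈ normalizer (LL D X : Set G) → L0 < LL D (X ⊓ Ce ζ) → LL D X ≤ Ce ζ :=
    fun ζ hζ X hX A hA a b c hlt => ih0 _ hlt ζ hζ X hX A hA a b c rfl
  intro ζ hζ X hX A hA hAX h1 hn hL
  by_cases hZ : ZZ D X = ⊥
  swap
  · exact h.case1 ih hζ hX hA hAX h1 hn hL.le hZ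
  by_contra hcon
  have tζ := h.Ce_ne_top hζ.1
  have t0 : X ⊓ Ce ζ ≠ ⊤ := fun e => hX (top_le_iff.1 (e.ge.trans inf_le_left))
  have hA0 : A ≤ X ⊓ Ce ζ := le_inf hAX h1
  set R0 := RR D (X ⊓ Ce ζ) with hR0
  have R0B : R0 ≤ RR D (Ce ζ) := RR_mono inf_le_right
  have R0L : R0 ≤ LL D (Ce ζ) := R0B.trans (RR_le _)
  have AR0 : A ≤ normalizer (R0 : Set G) := (le_LL hA hA0).trans (LL_le_norm_RR _)
  have RX : RR D X ≠ ⊥ := fun e => hcon (by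
    rw [h.sup X (h.sol X hX) A hA hAX, e, bot_sup_eq]; exact h1)
  obtain ⟨v, hv, v1, hvζ⟩ := grow_bot (h.pg_zp hζ) (h.pgR hX) (norm_RR X hn) RX
  have R0ne : R0 ≠ ⊥ := fun e => by
    refine h.toCl2.RR_pair_ne hA (h.inv A hA v) (fun e' => v1 ?_) (le_bot_iff.1 (e ▸ RR_mono ?_))
    · exact mem_bot.1 (hZ ▸ h.mem_Z hX hA hAX hv e'.symm)
    · exact sup_le hA0 (cj_le_of_mem ⟨LL_le X (RR_le X hv), hvζ⟩ hA0)
  set H := normalizer (R0 : Set G) with hH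
  have tH : H ≠ ⊤ := h.norm_ne_top R0ne (H4.isSolvable_of_isPGroup (h.pgR t0))
  have ZH : ZZ D (Ce ζ) ≤ H := fun z hz =>
    centralizer_le_normalizer _ fun x hx => ZZ_comm hz (R0L hx)
  have XH : LL D X ≤ H := by
    rw [h.sup X (h.sol X hX) A hA hAX]
    exact sup_le (fun x hx => centralizer_le_normalizer _ fun y hy =>
      h.R_comm hζ hX hZ hx y (RR_mono inf_le_left hy)) AR0
  have hcon' : ¬ LL D H ≤ Ce ζ := fun e => hcon ((LL_le_LL XH).trans e)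
  have nH : ζ ∈ normalizer (LL D H : Set G) := norm_LL h.inv _ (le_normalizer (ZH hζ.mem_Z))
  have l1 : L0 ≤ LL D (H ⊓ Ce ζ) := hL ▸
    LL_le_LL (le_inf ((LL_mono inf_le_left).trans XH) ((LL_le _).trans inf_le_right))
  have l2 : L0 = LL D (H ⊓ Ce ζ) := by
    by_contra ne
    exact hcon' (ih ζ hζ H tH A hA AR0 h1 nH (lt_of_le_of_ne l1 ne))
  by_cases hZH : ZZ D H = ⊥
  swap
  · exact hcon' (h.case1 ih hζ tH hA AR0 h1 nH l1 hZH)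
  have R0H : R0 ≤ RR D H := RR_le_RR ((LL_mono inf_le_left).trans XH)
  have hK : ¬ RR D H ≤ R0 := fun e => hcon' (by
    rw [h.sup H (h.sol H tH) A hA AR0]
    exact sup_le (e.trans (R0L.trans (LL_le _))) h1)
  obtain ⟨u, hu, huK, hη⟩ := grow (P := ZZ D (Ce ζ)) ((h.pgR tζ).to_le (ZZ_le_RR _)) (h.pgR tH)
    (fun g hg => norm_RR _ (norm_LL h.inv _ (le_normalizer (ZH hg)))) hK
  set I := R0 ⊔ ZZ D (Ce ζ) with hI
  have IR : I ≤ RR D (Ce ζ) := sup_le R0B (ZZ_le_RR _)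
  have tI : normalizer (I : Set G) ≠ ⊤ := h.norm_ne_top
    (fun e => R0ne (le_bot_iff.1 (e ▸ le_sup_left)))
    (H4.isSolvable_of_isPGroup ((h.pgR tζ).to_le IR))
  have AI : A ≤ normalizer (I : Set G) :=
    H4.le_normalizer_sup AR0 ((le_LL hA h1).trans (le_normalizer.trans (norm_ZZ _)))
  have BI : LL D (Ce ζ) ≤ normalizer (I : Set G) := by
    rw [h.sup _ (h.sol _ tζ) A hA h1]
    refine sup_le (fun g hg => norm_of_le (cj_le_iff.2 fun x hx => ?_)) AI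
    have : g * x * g⁻¹ = (g * x * g⁻¹ * x⁻¹) * x := by group
    rw [this]
    exact mul_mem (mem_sup_right (h.cm_mem_Z hζ tζ hg (IR hx))) hx
  have uI : u ∈ normalizer (I : Set G) := by
    refine norm_of_le ?_
    rw [hI, cj_sup]
    refine sup_le (cj_le_iff.2 fun x hx => ?_) (cj_le_iff.2 fun η hη' => ?_)
    · rw [← h.R_comm hζ tH hZH hu x (R0H hx), mul_inv_cancel_right]
      exact mem_sup_left hx
    · have : u * η * u⁻¹ = (η * u * η⁻¹ * u⁻¹)⁻¹ * η := by group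
      rw [this]
      exact mul_mem (mem_sup_left (inv_mem (hη η hη'))) (mem_sup_right hη')
  have c1 : cj u A ≤ Ce ζ :=
    (le_LL (h.inv A hA u) (cj_le_of_mem uI AI)).trans (h.blk2 hζ tI BI)
  have c2 : cj u A ≤ X ⊓ Ce ζ := by
    have := le_LL (h.inv A hA u) (le_inf (cj_le_of_mem (LL_le _ (RR_le _ hu)) AR0) c1)
    rw [← l2, hL] at this
    exact this.trans (LL_le _)
  obtain ⟨w, hw, e⟩ := h.toCl2.conj_pt (h.sol _ t0) hA hA0 (h.inv A hA u) c2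
  have : w⁻¹ * u ∈ ZZ D H := h.mem_Z tH hA AR0 (mul_mem (inv_mem (R0H hw)) hu)
    (by rw [← cj_cj, e, cj_inv_cj])
  rw [hZH, mem_bot, inv_mul_eq_one] at this
  exact huK (this ▸ hw)

theorem n1 {ζ : G} (hζ : Gd D ζ) {X : Subgroup G} (hX : X ≠ ⊤) {A : Subgroup G} (hA : A ∈ D)
    (hAX : A ≤ X) (h1 : A ≤ Ce ζ) (hn : ζ ∈ normalizer (LL D X : Set G)) : LL D X ≤ Ce ζ :=
  h.n1_aux _ ζ hζ X hX A hA hAX h1 hn rfl

end Mn2


end Cfsg.Agent.H56.ZC
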